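import Cfsg.Agent.Lib.OrthMult.Kernel
import Cfsg.Agent.Lib.Linear.Transvection

/-!
The bottom of the descent: the middle group of a level whose inner subspace is anisotropic or a
hyperbolic plane is an image of SL₂ over a field, or of two copies of SL₂.
-/

set_option autoImplicit false

namespace Cfsg.Agent.Lib.OrthMult

open QuadraticMap Cfsg.Agent.Lib.Forms Cfsg.Agent.Lib.OrthOmega
open Cfsg.Agent.Lib.Schur.SteinbergSL2

variable {F : Type*} [Field F] {V : Type*} [AddCommGroup V] [Module F V]
variable {Q : QuadraticForm F V} {E : Type*} [Group E]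
variable {π : E →* orth Q} {L : Level Q}

/-- The transvections generate SL₂ as a semigroup with one. -/
theorem sl2_induction {K : Type*} [Field K] (P : Matrix.SpecialLinearGroup (Fin 2) K → Prop)
    (h1 : P 1) (hstep : ∀ b t M, P M → P (trv K b t * M)) (M : Matrix.SpecialLinearGroup (Fin 2) K) :
    P M := by
  have hinv : ∀ b t, (trv K b t)⁻¹ = trv K b (-t) := fun b t => (x_neg (trv_rel K) b t).symm
  have htop : Subgroup.closure (Set.range fun p : Bool × K => trv K p.1 p.2) = ⊤ := by
    apply Cfsg.Agent.Lib.Linear.sl_eq_top_of_transvection_mem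
    intro i j hij c
    fin_cases i <;> fin_cases j
    · exact absurd rfl hij
    · refine Subgroup.subset_closure ⟨(true, c), ?_⟩
      apply Subtype.ext; ext a b
      fin_cases a <;> fin_cases b <;> simp [trv, Matrix.SpecialLinearGroup.transvection_coe]
    · refine Subgroup.subset_closure ⟨(false, c), ?_⟩
      apply Subtype.ext; ext a b
      fin_cases a <;> fin_cases b <;> simp [trv, Matrix.SpecialLinearGroup.transvection_coe]
    · exact absurd rfl hij
  have hM : M ∈ Subgroup.closure (Set.range fun p : Bool × K => trv K p.1 p.2) := by simp [htop]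
  refine Subgroup.closure_induction_left (p := fun g _ => P g) h1 ?_ ?_ hM
  · rintro x ⟨⟨b, t⟩, rfl⟩ y _ ih; exact hstep b t y ih
  · rintro x ⟨⟨b, t⟩, rfl⟩ y _ ih; rw [hinv]; exact hstep b (-t) y ih

/-- The homomorphism defined by a family with the relations of SL₂. -/
noncomputable def relHom {K : Type*} [Field K] [Finite K] {G : Type*} [Group G] {X : Bool → K → G}
    (R : IsSL2Rel X) : Matrix.SpecialLinearGroup (Fin 2) K →* G :=
  (PresentedGroup.toGroup (rels_eval R)).comp (exists_presentation K).choose.symm.toMonoidHom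

theorem relHom_trv {K : Type*} [Field K] [Finite K] {G : Type*} [Group G] {X : Bool → K → G}
    (R : IsSL2Rel X) (b : Bool) (t : K) : relHom R (trv K b t) = X b t := by
  have h := (exists_presentation K).choose_spec b t
  rw [relHom, MonoidHom.comp_apply, ← h]
  simp

namespace Sub

variable [Finite F] (S : Sub L) (D : Data π L) (H : Ext π)

omit [Finite F] in
include S in
/-- A middle element of two proportional singular vectors is trivial. -/
theorem m_self_any {c : V} (hc : c ∈ L.W) (hq : Q c = 0) (x y : F) :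
    mEl D (x • c) (y • c) = 1 := by
  rcases eq_or_ne c 0 with rfl | h0
  · rw [smul_zero, smul_zero, m_zero_right]
  obtain ⟨g, hg, μ, hμ, he⟩ := S.exists_move D hc h0 hq
  have hp : MPair L (x • c) (y • c) := ⟨L.W.smul_mem _ hc, L.W.smul_mem _ hc,
    by rw [Q_smul, hq, mul_zero],
    by rw [polar_smul_left, polar_smul_right, polar_self', hq]; simp⟩
  have h := m_conj D (S.low_adm D hg) hp
  rw [one_smul, inv_one, one_smul, act_smul, act_smul, he, smul_smul, smul_smul, S.m_self_s D] at h
  exact conj_eq_one_iff.1 h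

omit [Finite F] in
include S in
/-- The middle element of two singular orthogonal vectors is alternating. -/
theorem m_flip {a b : V} (h : MPair L a b) (hq : Q a = 0) : mEl D a b = mEl D b (-a) := by
  have h' : MPair L b (-a) := ⟨h.bmem, neg_mem h.amem, by rw [QuadraticMap.map_neg, hq],
    by rw [polar_neg_right, h.perp', neg_zero]⟩
  have hab : Q (b - a) = 0 := by
    rw [sub_eq_add_neg, Q_add, QuadraticMap.map_neg, polar_neg_right, h.sing, hq, h.perp', neg_zero]
    ring
  have h2 := S.m_self_any D (sub_mem h.bmem h.amem) hab 1 1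
  rw [one_smul] at h2
  have hpa : MPair L (b - a) (-a) := ⟨sub_mem h.bmem h.amem, neg_mem h.amem,
    by rw [QuadraticMap.map_neg, hq],
    by rw [polar_sub_left, polar_neg_right, polar_neg_right, h.perp', polar_self', hq]; simp⟩
  have hpb : MPair L (b - a) b := ⟨sub_mem h.bmem h.amem, h.bmem, h.sing,
    by rw [polar_sub_left, h.bb, h.perp]; simp⟩
  have hpan : MPair L (-a) (-a) := ⟨neg_mem h.amem, neg_mem h.amem, by rw [QuadraticMap.map_neg, hq],
    by rw [polar_neg_right, polar_neg_left, polar_self', hq]; simp⟩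
  have hpbn : MPair L (-a) b := by simpa using h.smul (-1)
  have hpbb : MPair L b b := ⟨h.bmem, h.bmem, h.sing, h.bb⟩
  have e1 : mEl D (-a) (-a) = 1 := by
    have := S.m_self_any D (neg_mem h.amem) (by rw [QuadraticMap.map_neg, hq]) 1 1
    rwa [one_smul] at this
  have e2 : mEl D b b = 1 := by
    have := S.m_self_any D h.bmem h.sing 1 1
    rwa [one_smul] at this
  have e3 : mEl D (b - a) (b + -a) = mEl D (b - a) b * mEl D (b - a) (-a) := by
    have := m_add_right D hpb hpa (by rw [polar_neg_right, h.perp', neg_zero])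
    rwa [hab, zero_smul, sub_zero] at this
  rw [← sub_eq_add_neg, h2, sub_eq_add_neg, m_add D hpbb hpbn, m_add D h' hpan, e1, e2, one_mul,
    mul_one] at e3
  rw [← inv_eq_of_mul_eq_one_right e3.symm, m_inv D hpbn, neg_neg]

omit [Finite F] in
theorem low_act_x {v : V} (hv : v ∈ S.level.W) (x : V) :
    act π (mEl D (-v) S.s) x = (sg Q S.s v).1 x := by
  rw [m_act D (S.pair_level hv), neg_neg]

include H in
/-- An element of the middle group exchanging the pair exchanges the two families. -/
theorem low_swap {g : E} (hg : g ∈ S.low D) {κ : F} (hs : act π g S.s = κ • S.s') {v : V}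
    (hv : v ∈ S.level.W) (hgv : polar Q S.s' (act π g v) = 0) :
    g * mEl D (-v) S.s * g⁻¹ = mEl D (-(κ • act π g v)) S.s' := by
  rw [m_conj D (S.low_adm D hg) (S.pair_level hv), one_smul, inv_one, one_smul, hs, act_neg,
    show S.s' = S.swap.s from rfl,
    S.swap.scale D H (neg_mem ((S.low_adm D hg).w_mem _ hv.1)) (by
      show polar Q S.s' (-act π g v) = 0
      rw [polar_neg_right, hgv, neg_zero]), smul_neg]

/-- The inner subspace seen as a field with its norm form. -/
structure FieldForm (K : Type*) [Field K] [Algebra F K] where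
  /-- the conjugation -/
  conj : K ≃ₐ[F] K
  /-- the identification -/
  J : K →ₗ[F] V
  /-- the value at one -/
  c : F
  cne : c ≠ 0
  inv : ∀ z, conj (conj z) = z
  mem : ∀ z, J z ∈ S.level.W
  onto : ∀ v ∈ S.level.W, ∃ z, J z = v
  inj : Function.Injective J
  form : ∀ z, algebraMap F K (Q (J z)) = algebraMap F K c * (z * conj z)

namespace FieldForm

variable {S} {K : Type*} [Field K] [Algebra F K] (P : FieldForm S K)

/-- The norm as an element of the base field. -/
def nm (z : K) : F := P.c⁻¹ * Q (P.J z)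

theorem nm_eq (z : K) : algebraMap F K (P.nm z) = z * P.conj z := by
  rw [nm, map_mul, P.form, map_inv₀, inv_mul_cancel_left₀]
  exact (map_ne_zero _).2 P.cne

theorem Q_J (z : K) : Q (P.J z) = P.c * P.nm z := by
  rw [nm, mul_inv_cancel_left₀ P.cne]

theorem nm_ne {z : K} (hz : z ≠ 0) : P.nm z ≠ 0 := by
  intro h
  have := P.nm_eq z
  rw [h, map_zero, eq_comm, mul_eq_zero] at this
  rcases this with h1 | h1
  · exact hz h1
  · exact hz ((map_eq_zero_iff _ P.conj.injective).1 h1)

theorem polar_J (z w : K) :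
    algebraMap F K (polar Q (P.J z) (P.J w)) = algebraMap F K P.c * (z * P.conj w + w * P.conj z) := by
  simp only [polar, ← map_add P.J, map_sub, P.form, map_add P.conj]
  ring

/-- The two families. -/
def fam : Bool → K → E
  | true, z => mEl D (-P.J z) S.s
  | false, z => mEl D (-((-P.c⁻¹) • P.J (P.conj z))) S.s'

/-- The exchanged identification. -/
def swap : FieldForm S.swap K where
  conj := P.conj
  J := (-P.c⁻¹) • (P.J.comp P.conj.toLinearMap)
  c := P.c⁻¹
  cne := inv_ne_zero P.cne
  inv := P.inv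
  mem z := ⟨(S.level.W.smul_mem (-P.c⁻¹) (P.mem (P.conj z))).1,
    (S.perp_level (S.level.W.smul_mem (-P.c⁻¹) (P.mem (P.conj z)))).2,
    (S.perp_level (S.level.W.smul_mem (-P.c⁻¹) (P.mem (P.conj z)))).1⟩
  onto v hv := by
    obtain ⟨z, hz⟩ := P.onto v ⟨hv.1, (S.swap.perp_level hv).2, (S.swap.perp_level hv).1⟩
    refine ⟨P.conj ((-P.c) • z), ?_⟩
    simp only [LinearMap.smul_apply, LinearMap.comp_apply, AlgEquiv.toLinearMap_apply, P.inv,
      map_smul, hz, smul_smul]
    rw [neg_mul_neg, mul_inv_cancel₀ P.cne, one_smul]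
  inj a b h := by
    simp only [LinearMap.smul_apply, LinearMap.comp_apply, AlgEquiv.toLinearMap_apply] at h
    exact P.conj.injective (P.inj (smul_right_injective V (neg_ne_zero.2 (inv_ne_zero P.cne)) h))
  form z := by
    simp only [LinearMap.smul_apply, LinearMap.comp_apply, AlgEquiv.toLinearMap_apply, Q_smul,
      map_mul, P.form, P.inv, map_neg, map_inv₀]
    have : algebraMap F K P.c ≠ 0 := (map_ne_zero _).2 P.cne
    field_simp

theorem fam_swap (b : Bool) (z : K) : (P.swap).fam D b z = P.fam D (!b) z := by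
  cases b
  · show mEl D (-((-P.c⁻¹⁻¹) • ((-P.c⁻¹) • P.J (P.conj (P.conj z))))) S.s = mEl D (-P.J z) S.s
    rw [P.inv, smul_smul, inv_inv, neg_mul_neg, mul_inv_cancel₀ P.cne, one_smul]
  · rfl

theorem fam_add (b : Bool) (z w : K) : P.fam D b (z + w) = P.fam D b z * P.fam D b w := by
  cases b
  · simp only [fam, map_add, smul_add, neg_add]
    exact m_add D (S.pair_level' (S.level.W.smul_mem _ (P.mem _)))
      (S.pair_level' (S.level.W.smul_mem _ (P.mem _)))
  · simp only [fam, map_add, neg_add]
    exact m_add D (S.pair_level (P.mem _)) (S.pair_level (P.mem _))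

theorem fam_mem (b : Bool) (z : K) : P.fam D b z ∈ S.low D := by
  cases b
  · exact S.low_y D (S.level.W.smul_mem _ (P.mem _))
  · exact S.low_x D (P.mem z)

theorem n_mem (b : Bool) (t : K) : wElt (P.fam D) b t ∈ S.low D :=
  mul_mem (mul_mem (P.fam_mem D _ _) (P.fam_mem D _ _)) (P.fam_mem D _ _)

theorem act_x (z : K) (x : V) : act π (P.fam D true z) x = (sg Q S.s (P.J z)).1 x :=
  S.low_act_x D (P.mem z) x

theorem act_y (z : K) (x : V) :
    act π (P.fam D false z) x = (sg Q S.s' ((-P.c⁻¹) • P.J (P.conj z))).1 x := by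
  show act π (mEl D (-((-P.c⁻¹) • P.J (P.conj z))) S.s') x = _
  rw [m_act D (S.pair_level' (S.level.W.smul_mem _ (P.mem _))), neg_neg]

theorem y_arg {t : K} (ht : t ≠ 0) :
    (-P.c⁻¹) • P.J (P.conj (-t⁻¹)) = (P.c * P.nm t)⁻¹ • P.J t := by
  rw [mul_inv, mul_smul, ← map_smul P.J (P.nm t)⁻¹, neg_smul, ← smul_neg, ← map_neg P.J]
  congr 2
  rw [Algebra.smul_def, map_inv₀, P.nm_eq, map_neg, neg_neg, map_inv₀]
  field_simp

theorem n_act {t : K} (ht : t ≠ 0) :
    act π (wElt (P.fam D) true t) S.s = (-(P.c * P.nm t)⁻¹) • S.s' ∧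
    act π (wElt (P.fam D) true t) S.s' = (-(P.c * P.nm t)) • S.s ∧
    ∀ v ∈ S.level.W, act π (wElt (P.fam D) true t) v =
      v - ((P.c * P.nm t)⁻¹ * polar Q (P.J t) v) • P.J t := by
  set q := P.c * P.nm t with hq
  have hq0 : q ≠ 0 := mul_ne_zero P.cne (P.nm_ne ht)
  set a := P.J t with ha
  have ham := P.mem t
  have hQ : Q a = q := P.Q_J t
  have hsa : SPair Q S.s a := ⟨S.hs.left, (S.perp_level ham).1⟩
  have hsb : SPair Q S.s' (q⁻¹ • a) :=
    ⟨S.hs.right, by rw [polar_smul_right, (S.perp_level ham).2, smul_zero]⟩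
  have hx : ∀ x, act π (P.fam D true t) x = (sg Q S.s a).1 x := P.act_x D t
  have hy : ∀ x, act π (P.fam D (!true) (-t⁻¹)) x = (sg Q S.s' (q⁻¹ • a)).1 x := fun x => by
    rw [Bool.not_true, P.act_y, P.y_arg ht]
  have hw : ∀ x, act π (wElt (P.fam D) true t) x =
      (sg Q S.s a).1 ((sg Q S.s' (q⁻¹ • a)).1 ((sg Q S.s a).1 x)) := fun x => by
    rw [wElt, act_mul, act_mul, hx, hy, hx]
  have p1 : polar Q a S.s = 0 := hsa.perp'
  have p2 : polar Q a S.s' = 0 := (polar_comm Q a S.s').trans (S.perp_level ham).2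
  have p3 : polar Q S.s a = 0 := hsa.perp
  have p4 : polar Q S.s' a = 0 := (S.perp_level ham).2
  have hsimp : ∀ x, (sg Q S.s a).1 x =
      x + polar Q S.s x • a - (polar Q a x + q * polar Q S.s x) • S.s := fun x => by
    rw [sg_apply hsa, hQ]
  have hsimp' : ∀ x, (sg Q S.s' (q⁻¹ • a)).1 x =
      x + (q⁻¹ * polar Q S.s' x) • a -
        (q⁻¹ * polar Q a x + q⁻¹ * polar Q S.s' x) • S.s' := fun x => by
    rw [sg_apply hsb, Q_smul, hQ, polar_smul_left, smul_eq_mul]
    match_scalars <;> field_simp
  refine ⟨?_, ?_, fun v hv => ?_⟩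
  · rw [hw, hsimp, hsimp', hsimp]
    simp only [polar_add_right, polar_sub_right, polar_smul_right, S.hs.pol_ee, S.hs.pol, S.hs.pol',
      p1, p2, p3, p4, polar_self', hQ, smul_eq_mul]
    match_scalars <;> field_simp <;> ring
  · rw [hw, hsimp, hsimp', hsimp]
    simp only [polar_add_right, polar_sub_right, polar_smul_right, S.hs.pol_ee, S.hs.pol_ff, S.hs.pol,
      S.hs.pol', p1, p2, p3, p4, polar_self', hQ, smul_eq_mul]
    match_scalars <;> field_simp <;> ring
  · rw [hw, hsimp, hsimp', hsimp]
    simp only [polar_add_right, polar_sub_right, polar_smul_right, S.hs.pol_ee, S.hs.pol_ff, S.hs.pol,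
      S.hs.pol', p1, p2, p3, p4, polar_self', hQ, (S.perp_level hv).1, (S.perp_level hv).2,
      smul_eq_mul]
    match_scalars <;> field_simp <;> ring

theorem refl_J {t : K} (ht : t ≠ 0) (v : K) :
    P.J v - ((P.c * P.nm t)⁻¹ * polar Q (P.J t) (P.J v)) • P.J t =
      P.J (-(t * P.conj v / P.conj t)) := by
  rw [← map_smul, ← map_sub]
  congr 1
  have hc : algebraMap F K P.c ≠ 0 := (map_ne_zero _).2 P.cne
  have hσ : P.conj t ≠ 0 := fun h => ht ((map_eq_zero_iff _ P.conj.injective).1 h)
  rw [Algebra.smul_def, map_mul, map_inv₀, map_mul, P.nm_eq, P.polar_J]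
  field_simp
  ring

include H in
theorem conj_true {t : K} (ht : t ≠ 0) (v : K) :
    wElt (P.fam D) true t * P.fam D true v * (wElt (P.fam D) true t)⁻¹ =
      P.fam D false (-(t⁻¹ ^ 2 * v)) := by
  obtain ⟨h1, -, h3⟩ := P.n_act D ht
  have hnv : act π (wElt (P.fam D) true t) (P.J v) = P.J (-(t * P.conj v / P.conj t)) := by
    rw [h3 _ (P.mem v), P.refl_J ht]
  show _ * mEl D (-P.J v) S.s * _ = _
  rw [S.low_swap D H (P.n_mem D true t) h1 (P.mem v) (by rw [hnv]; exact (S.perp_level (P.mem _)).2),
    hnv]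
  show mEl D (-_) S.s' = mEl D (-((-P.c⁻¹) • P.J (P.conj (-(t⁻¹ ^ 2 * v))))) S.s'
  congr 2
  rw [mul_inv, neg_mul_eq_neg_mul, mul_smul, ← map_smul P.J (P.nm t)⁻¹]
  congr 2
  rw [Algebra.smul_def, map_inv₀, P.nm_eq, map_neg, map_mul, map_pow, map_inv₀]
  have hσ : P.conj t ≠ 0 := fun h => ht ((map_eq_zero_iff _ P.conj.injective).1 h)
  field_simp

include H in
theorem fam_rel : IsSL2Rel (P.fam D) := by
  refine ⟨fun b t u => P.fam_add D b t u, fun b t u ht => ?_⟩
  cases b
  · have h := (P.swap).conj_true D H ht u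
    simpa only [wElt, fam_swap, Bool.not_true, Bool.not_false] using h
  · exact P.conj_true D H ht u

theorem low_le_range [Finite K] : S.low D ≤ (relHom (P.fam_rel D H)).range := by
  rw [low, Subgroup.closure_le]
  rintro _ (⟨v, hv, rfl⟩ | ⟨v, hv, rfl⟩)
  · obtain ⟨z, rfl⟩ := P.onto v hv
    exact ⟨trv K true z, by rw [relHom_trv]; rfl⟩
  · obtain ⟨z, rfl⟩ := P.onto v hv
    refine ⟨trv K false (P.conj ((-P.c) • z)), ?_⟩
    rw [relHom_trv]
    show mEl D (-((-P.c⁻¹) • P.J (P.conj (P.conj ((-P.c) • z))))) S.s' = mEl D (-P.J z) S.s'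
    rw [P.inv, map_smul, smul_smul, neg_mul_neg, inv_mul_cancel₀ P.cne, one_smul]

include H P in
/-- The kernel of the middle group has at most two elements, and one in characteristic two. -/
theorem bound [Finite K] :
    ∃ z : E, ∀ g ∈ S.low D, g ∈ π.ker → g = 1 ∨ ((2 : F) ≠ 0 ∧ g = z) := by
  set φ := relHom (P.fam_rel D H) with hφ
  refine ⟨φ (-1), fun g hg hk => ?_⟩
  obtain ⟨M, rfl⟩ := P.low_le_range D H hg
  have hfix : ∀ x, act π (φ M) x = x := fun x => by rw [act, MonoidHom.mem_ker.1 hk]; rfl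
  have hinj : ∀ {z : K}, P.J z = 0 → z = 0 := fun {z} h => P.inj (h.trans (map_zero P.J).symm)
  have hxs : ∀ z, act π (P.fam D true z) S.s = S.s := fun z => by
    rw [P.act_x, sg_apply ⟨S.hs.left, (S.perp_level (P.mem z)).1⟩, S.hs.pol_ee,
      (polar_comm Q _ S.s).trans (S.perp_level (P.mem z)).1]
    simp
  have hw1 : ∀ t : K, t ≠ 0 → φ (wElt (trv K) true t) = wElt (P.fam D) true t := fun t _ => by
    simp [hφ, wElt, map_mul, relHom_trv]
  by_cases hc : M.1 1 0 = 0
  swap
  · exfalso
    set c := M.1 1 0 with hcdef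
    have hdet : M.1 0 0 * M.1 1 1 - M.1 0 1 * c = 1 := by
      rw [hcdef, ← Matrix.det_fin_two]; exact M.2
    have hM : M = trv K true (M.1 0 0 / c) * wElt (trv K) true (-c⁻¹) * trv K true (M.1 1 1 / c) := by
      apply Matrix.SpecialLinearGroup.ext
      intro i j
      fin_cases i <;> fin_cases j <;>
        simp [wElt, trv_true_coe, trv_false_coe, Matrix.mul_apply, Fin.sum_univ_two] <;>
        (try field_simp) <;> first | ring1 | linear_combination hdet | linear_combination -hdet |
          (simp only [hcdef]; ring1) | skip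
    have ht : -c⁻¹ ≠ 0 := neg_ne_zero.2 (inv_ne_zero hc)
    obtain ⟨h1, -, -⟩ := P.n_act D ht
    have h := hfix S.s
    rw [hM, map_mul, map_mul, hw1 _ ht, hφ, relHom_trv, relHom_trv, act_mul, act_mul, hxs, h1,
      act_smul] at h
    have h2 := congrArg (polar Q S.s) h
    rw [polar_smul_right, ← hxs (M.1 0 0 / c), polar_act, hxs, S.hs.pol, S.hs.pol_ee, smul_eq_mul,
      mul_one] at h2
    exact neg_ne_zero.2 (inv_ne_zero (mul_ne_zero P.cne (P.nm_ne ht))) h2
  have hdet : M.1 0 0 * M.1 1 1 = 1 := by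
    have h := M.2
    rw [Matrix.det_fin_two, hc, mul_zero, sub_zero] at h
    exact h
  set a := M.1 0 0 with ha
  have ha0 : a ≠ 0 := left_ne_zero_of_mul_eq_one hdet
  set b := M.1 0 1 / a with hb
  have hM : M = wElt (trv K) true a * wElt (trv K) true (-1) * trv K true b := by
    have hd : M.1 1 1 = a⁻¹ := eq_inv_of_mul_eq_one_right hdet
    apply Matrix.SpecialLinearGroup.ext
    intro i j
    fin_cases i <;> fin_cases j <;>
      simp [wElt, trv_true_coe, trv_false_coe, Matrix.mul_apply, Fin.sum_univ_two, hb, hc, hd] <;>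
      (try field_simp) <;> first | ring1 | (simp only [ha]; ring1) | exact Or.inl (by ring1) | skip
  obtain ⟨a1, a2, a3⟩ := P.n_act D ha0
  obtain ⟨b1, b2, b3⟩ := P.n_act D (neg_ne_zero.2 (one_ne_zero (α := K)))
  have hnm1 : P.nm (-1) = 1 := by
    apply (algebraMap F K).injective
    rw [P.nm_eq, map_neg, map_one, map_one]; ring
  rw [hnm1, mul_one] at b1 b2 b3
  have hφM : φ M = wElt (P.fam D) true a * wElt (P.fam D) true (-1) * P.fam D true b := by
    rw [hM, map_mul, map_mul, hw1 _ ha0, hw1 _ (neg_ne_zero.2 one_ne_zero), hφ, relHom_trv]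
  have hs := hfix S.s
  rw [hφM, act_mul, hxs, act_mul, b1, act_smul, a2, smul_smul] at hs
  have hn : P.nm a = 1 := by
    have := congrArg (polar Q S.s') hs
    rw [polar_smul_right, S.hs.pol', smul_eq_mul, mul_one] at this
    rwa [neg_mul_neg, ← mul_assoc, inv_mul_cancel₀ P.cne, one_mul] at this
  have hlev : ∀ v ∈ S.level.W, act π (wElt (P.fam D) true a * wElt (P.fam D) true (-1)) v ∈
      S.level.W := by
    intro v hv
    have : v - (P.c⁻¹ * polar Q (P.J (-1)) v) • P.J (-1) ∈ S.level.W :=
      sub_mem hv (S.level.W.smul_mem _ (P.mem _))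
    rw [act_mul, b3 v hv, a3 _ this]
    exact sub_mem this (S.level.W.smul_mem _ (P.mem _))
  have hb0 : b = 0 := by
    have h := hfix S.s'
    rw [hφM, act_mul, P.act_x, sg_apply ⟨S.hs.left, (S.perp_level (P.mem b)).1⟩, S.hs.pol,
      (polar_comm Q _ S.s').trans (S.perp_level (P.mem b)).2, act_sub, act_add, act_smul, act_smul,
      one_smul] at h
    set n := wElt (P.fam D) true a * wElt (P.fam D) true (-1) with hndef
    have hnS : act π n S.s' = S.s' := by
      rw [hndef, act_mul, b2, act_smul, a1, hn, mul_one, smul_smul,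
        neg_mul_neg, mul_inv_cancel₀ P.cne, one_smul]
    have hnS' : act π n S.s = S.s := by
      rw [hndef, act_mul, b1, act_smul, a2, smul_smul]
      exact hs
    rw [hnS, hnS', zero_add, mul_one] at h
    have h2 : act π n (P.J b) = Q (P.J b) • S.s := by linear_combination (norm := module) h
    have h3 : Q (P.J b) = 0 := by
      have h4 := (S.perp_level (hlev _ (P.mem b))).2
      rwa [h2, polar_smul_right, S.hs.pol', smul_eq_mul, mul_one] at h4
    rw [h3, zero_smul] at h2
    apply hinj
    have := congrArg (act π n⁻¹) h2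
    rwa [act_inv_act, act_zero] at this
  have hv := hfix (P.J 1)
  rw [hφM, hb0, act_mul, show P.fam D true 0 = 1 from x_zero (P.fam_rel D H) true, act_one, act_mul,
    b3 _ (P.mem 1), show P.c⁻¹ = (P.c * P.nm (-1))⁻¹ by rw [hnm1, mul_one],
    P.refl_J (neg_ne_zero.2 one_ne_zero), a3 _ (P.mem _), P.refl_J ha0] at hv
  have hconj := P.inj hv
  simp only [map_neg, map_one, map_div₀, map_mul, mul_one] at hconj
  have hσ : P.conj a = a := by
    have hσ0 : P.conj a ≠ 0 := fun h => ha0 ((map_eq_zero_iff _ P.conj.injective).1 h)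
    field_simp at hconj
    first
      | exact hconj
      | exact hconj.symm
      | linear_combination hconj
      | linear_combination -hconj
  have hsq : a * a = 1 := by
    have := P.nm_eq a
    rwa [hn, map_one, hσ, eq_comm] at this
  rcases mul_self_eq_one_iff.1 hsq with h1 | h1
  · left
    rw [hφM, h1, hb0, show P.fam D true 0 = 1 from x_zero (P.fam_rel D H) true, mul_one,
      ← w_inv (P.fam_rel D H), mul_inv_cancel]
  · by_cases h2 : (2 : F) = 0
    · left
      have h2K : (2 : K) = 0 := by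
        have := congrArg (algebraMap F K) h2
        rwa [map_ofNat, map_zero] at this
      have h1' : a = 1 := by rw [h1]; linear_combination -h2K
      rw [hφM, h1', hb0, show P.fam D true 0 = 1 from x_zero (P.fam_rel D H) true, mul_one,
        ← w_inv (P.fam_rel D H), mul_inv_cancel]
    · refine Or.inr ⟨h2, congrArg φ ?_⟩
      rw [hM, h1, hb0]
      apply Matrix.SpecialLinearGroup.ext
      intro i j
      fin_cases i <;> fin_cases j <;>
        simp [wElt, trv_true_coe, trv_false_coe, Matrix.mul_apply, Fin.sum_univ_two,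
          Matrix.SpecialLinearGroup.coe_neg]

end FieldForm

end Sub

end Cfsg.Agent.Lib.OrthMult
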