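import Cfsg.Agent.Lib.OrthMult.Bottom
import Mathlib.GroupTheory.NoncommCoprod

/-!
The bottom of the descent when the inner subspace is a hyperbolic plane.
-/

set_option autoImplicit false

namespace Cfsg.Agent.Lib.OrthMult

open QuadraticMap Cfsg.Agent.Lib.Forms Cfsg.Agent.Lib.OrthOmega
open Cfsg.Agent.Lib.Schur.SteinbergSL2

variable {F : Type*} [Field F] {V : Type*} [AddCommGroup V] [Module F V]
variable {Q : QuadraticForm F V} {E : Type*} [Group E]
variable {π : E →* orth Q} {L : Level Q}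

namespace Sub

variable [Finite F] (S : Sub L) (D : Data π L) (H : Ext π)

/-- The inner subspace is a hyperbolic plane. -/
structure PlaneForm where
  /-- the first vector -/
  t : V
  /-- the second vector -/
  t' : V
  hp : HypPair Q t t'
  mem : t ∈ S.level.W
  mem' : t' ∈ S.level.W
  onto : ∀ v ∈ S.level.W, ∃ a b : F, v = a • t + b • t'

namespace PlaneForm

variable {S} (P : PlaneForm S)

/-- The two vectors exchanged. -/
def flip : PlaneForm S where
  t := P.t'
  t' := P.t
  hp := P.hp.symm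
  mem := P.mem'
  mem' := P.mem
  onto v hv := by
    obtain ⟨a, b, h⟩ := P.onto v hv
    exact ⟨b, a, by rw [h, add_comm]⟩

/-- The pair exchanged as well. -/
def swap : PlaneForm S.swap where
  t := P.t'
  t' := P.t
  hp := P.hp.symm
  mem := ⟨P.mem'.1, (S.perp_level P.mem').2, (S.perp_level P.mem').1⟩
  mem' := ⟨P.mem.1, (S.perp_level P.mem).2, (S.perp_level P.mem).1⟩
  onto v hv := by
    obtain ⟨a, b, h⟩ := P.onto v ⟨hv.1, (S.swap.perp_level hv).2, (S.swap.perp_level hv).1⟩
    exact ⟨b, a, by rw [h, add_comm]⟩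

/-- The two families of one of the two copies of SL₂. -/
def fam : Bool → F → E
  | true, c => mEl D (-(c • P.t)) S.s
  | false, c => mEl D (-((-c) • P.t')) S.s'

theorem fam_swap (b : Bool) (c : F) : P.swap.fam D b c = P.fam D (!b) (-c) := by
  cases b
  · rfl
  · show mEl D (-(c • P.t')) S.s' = mEl D (-((- -c) • P.t')) S.s'
    rw [neg_neg]

theorem fam_mem (b : Bool) (c : F) : P.fam D b c ∈ S.low D := by
  cases b
  · exact S.low_y D (S.level.W.smul_mem _ P.mem')
  · exact S.low_x D (S.level.W.smul_mem _ P.mem)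

theorem fam_add (b : Bool) (c d : F) : P.fam D b (c + d) = P.fam D b c * P.fam D b d := by
  cases b
  · simp only [fam, neg_add, add_smul]
    exact m_add D (S.pair_level' (S.level.W.smul_mem _ P.mem'))
      (S.pair_level' (S.level.W.smul_mem _ P.mem'))
  · simp only [fam, add_smul, neg_add]
    exact m_add D (S.pair_level (S.level.W.smul_mem _ P.mem))
      (S.pair_level (S.level.W.smul_mem _ P.mem))

theorem x_act (c : F) (x : V) : act π (P.fam D true c) x = (sg Q S.s (c • P.t)).1 x :=
  S.low_act_x D (S.level.W.smul_mem c P.mem) x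

theorem y_act (c : F) (x : V) : act π (P.fam D false c) x = (sg Q S.s' ((-c) • P.t')).1 x := by
  show act π (mEl D (-((-c) • P.t')) S.s') x = _
  rw [m_act D (S.pair_level' (S.level.W.smul_mem _ P.mem')), neg_neg]

theorem perps : polar Q S.s P.t = 0 ∧ polar Q S.s' P.t = 0 ∧ polar Q P.t S.s = 0 ∧
    polar Q P.t S.s' = 0 :=
  ⟨(S.perp_level P.mem).1, (S.perp_level P.mem).2,
    (polar_comm Q P.t S.s).trans (S.perp_level P.mem).1,
    (polar_comm Q P.t S.s').trans (S.perp_level P.mem).2⟩

theorem x_vals (c : F) : act π (P.fam D true c) S.s = S.s ∧ act π (P.fam D true c) P.t = P.t ∧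
    act π (P.fam D true c) S.s' = S.s' + c • P.t ∧
    act π (P.fam D true c) P.t' = P.t' - c • S.s := by
  obtain ⟨h1, h2, h3, h4⟩ := P.perps
  obtain ⟨g1, g2, g3, g4⟩ := P.flip.perps
  simp only [flip] at g1 g2 g3 g4
  have hsp : SPair Q S.s (c • P.t) := ⟨S.hs.left, by rw [polar_smul_right, h1, smul_zero]⟩
  simp only [x_act, sg_apply hsp, Q_smul, P.hp.left, polar_smul_left, S.hs.pol_ee, S.hs.pol, h1, h3,
    h4, g1, P.hp.pol_ee, P.hp.pol, smul_eq_mul]
  refine ⟨?_, ?_, ?_, ?_⟩ <;> module

theorem y_vals (c : F) : act π (P.fam D false c) S.s' = S.s' ∧ act π (P.fam D false c) P.t' = P.t' ∧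
    act π (P.fam D false c) S.s = S.s - c • P.t' ∧
    act π (P.fam D false c) P.t = P.t + c • S.s' := by
  obtain ⟨h1, h2, h3, h4⟩ := P.flip.perps
  obtain ⟨g1, g2, g3, g4⟩ := P.perps
  simp only [flip] at h1 h2 h3 h4
  have hsp : SPair Q S.s' ((-c) • P.t') := ⟨S.hs.right, by rw [polar_smul_right, h2, smul_zero]⟩
  simp only [y_act, sg_apply hsp, Q_smul, P.hp.right, polar_smul_left, S.hs.pol_ff, S.hs.pol', h2, h3,
    h4, g2, P.hp.pol_ff, P.hp.pol', smul_eq_mul]
  refine ⟨?_, ?_, ?_, ?_⟩ <;> module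

theorem n_vals {c : F} (hc : c ≠ 0) :
    act π (wElt (P.fam D) true c) S.s = c⁻¹ • P.t' ∧
    act π (wElt (P.fam D) true c) P.t = (-c⁻¹) • S.s' := by
  obtain ⟨a1, a2, a3, a4⟩ := P.x_vals D c
  obtain ⟨b1, b2, b3, b4⟩ := P.y_vals D (-c⁻¹)
  constructor
  · rw [wElt, act_mul, act_mul, Bool.not_true, a1, b3, act_sub, a1, act_smul, a4]
    match_scalars <;> field_simp <;> ring
  · rw [wElt, act_mul, act_mul, Bool.not_true, a2, b4, act_add, a2, act_smul, a3]
    match_scalars <;> field_simp <;> ring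

theorem n_mem (b : Bool) (c : F) : wElt (P.fam D) b c ∈ S.low D :=
  mul_mem (mul_mem (P.fam_mem D _ _) (P.fam_mem D _ _)) (P.fam_mem D _ _)

include H in
theorem conj_true {c : F} (hc : c ≠ 0) (v : F) :
    wElt (P.fam D) true c * P.fam D true v * (wElt (P.fam D) true c)⁻¹ =
      P.fam D false (-(c⁻¹ ^ 2 * v)) := by
  obtain ⟨h1, h2⟩ := P.n_vals D hc
  set n := wElt (P.fam D) true c
  show n * mEl D (-(v • P.t)) S.s * n⁻¹ = mEl D (-((- -(c⁻¹ ^ 2 * v)) • P.t')) S.s'
  have hp : MPair L ((v * c⁻¹) • S.s') (c⁻¹ • P.t') :=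
    ⟨L.W.smul_mem _ S.smem', L.W.smul_mem _ P.mem'.1, by rw [Q_smul, P.hp.right, mul_zero],
      by rw [polar_smul_left, polar_smul_right, (S.perp_level P.mem').2]; simp⟩
  rw [m_conj D (S.low_adm D (P.n_mem D true c)) (S.pair_level (S.level.W.smul_mem v P.mem)),
    one_smul, inv_one, one_smul, h1, act_neg, act_smul, h2,
    show -(v • (-c⁻¹) • S.s') = (v * c⁻¹) • S.s' by module,
    S.m_flip D hp (by rw [Q_smul, S.hs.right, mul_zero]),
    show -((v * c⁻¹) • S.s') = (-(v * c⁻¹)) • S.swap.s by simp [Sub.swap],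
    S.swap.scale D H (L.W.smul_mem _ P.mem'.1) (by
      show polar Q S.s' (c⁻¹ • P.t') = 0
      rw [polar_smul_right, (S.perp_level P.mem').2, smul_zero])]
  show mEl D _ S.s' = _
  congr 1
  module

include H in
theorem fam_rel : IsSL2Rel (P.fam D) := by
  refine ⟨fun b c d => P.fam_add D b c d, fun b c v hc => ?_⟩
  cases b
  · have h := P.swap.conj_true D H (neg_ne_zero.2 hc) (-v)
    simp only [wElt, fam_swap, Bool.not_true, Bool.not_false, neg_neg, inv_neg] at h
    simp only [wElt, Bool.not_false]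
    rw [h]; congr 1; ring
  · exact P.conj_true D H hc v

theorem comm_cross (c d : F) : Commute (P.fam D true c) (P.flip.fam D false d) := by
  obtain ⟨b1, b2, b3, b4⟩ := P.flip.y_vals D d
  set g := P.flip.fam D false d with hg
  have b2' : act π g P.t = P.t := b2
  have b3' : act π g S.s = S.s - d • P.t := b3
  have hA := S.low_adm D (P.flip.fam_mem D false d)
  have hp := S.pair_level (S.level.W.smul_mem c P.mem)
  have hp2 : MPair L (-(c • P.t)) ((-d) • P.t) :=
    ⟨hp.amem, L.W.smul_mem _ P.mem.1, by rw [Q_smul, P.hp.left, mul_zero],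
      by rw [polar_neg_left, polar_smul_left, polar_smul_right, P.hp.pol_ee]; simp⟩
  have h := m_conj D hA hp
  rw [one_smul, inv_one, one_smul, act_neg, act_smul, b2', b3',
    show S.s - d • P.t = S.s + (-d) • P.t by module,
    m_add_right D hp hp2 (by rw [polar_smul_right, (S.perp_level P.mem).1, smul_zero]),
    QuadraticMap.map_neg, Q_smul, P.hp.left, mul_zero, zero_smul, sub_zero, ← neg_smul,
    S.m_self_any D P.mem.1 P.hp.left, mul_one, neg_smul] at h
  exact ((mul_inv_eq_iff_eq_mul.1 h).symm : P.fam D true c * g = g * P.fam D true c)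

theorem comm_all (b b' : Bool) (c d : F) : Commute (P.fam D b c) (P.flip.fam D b' d) := by
  cases b <;> cases b'
  · exact m_comm D (S.pair_level' (S.level.W.smul_mem _ P.mem'))
      (S.pair_level' (S.level.W.smul_mem _ P.mem))
  · exact (P.flip.comm_cross D d c).symm
  · exact P.comm_cross D c d
  · exact m_comm D (S.pair_level (S.level.W.smul_mem _ P.mem))
      (S.pair_level (S.level.W.smul_mem _ P.mem'))

theorem hom_act (M : Matrix.SpecialLinearGroup (Fin 2) F) :
    act π (relHom (P.fam_rel D H) M) S.s = M.1 0 0 • S.s - M.1 1 0 • P.t' ∧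
    act π (relHom (P.fam_rel D H) M) P.t' = -(M.1 0 1 • S.s) + M.1 1 1 • P.t' ∧
    act π (relHom (P.fam_rel D H) M) P.t = M.1 0 0 • P.t + M.1 1 0 • S.s' ∧
    act π (relHom (P.fam_rel D H) M) S.s' = M.1 0 1 • P.t + M.1 1 1 • S.s' := by
  induction M using sl2_induction with
  | h1 => simp [act_one]
  | hstep b c M ih =>
    obtain ⟨i1, i2, i3, i4⟩ := ih
    obtain ⟨a1, a2, a3, a4⟩ := P.x_vals D c
    obtain ⟨b1, b2, b3, b4⟩ := P.y_vals D c
    cases b <;>
      simp only [map_mul, relHom_trv, act_mul, i1, i2, i3, i4, act_sub, act_add, act_neg, act_smul,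
        a1, a2, a3, a4, b1, b2, b3, b4, Matrix.SpecialLinearGroup.coe_mul, trv_true_coe, trv_false_coe,
        Matrix.mul_apply, Fin.sum_univ_two, Matrix.of_apply, Matrix.cons_val', Matrix.cons_val_zero,
        Matrix.cons_val_one, Matrix.cons_val_fin_one] <;>
      refine ⟨?_, ?_, ?_, ?_⟩ <;> module

include H P in
/-- The kernel of the middle group has at most two elements, and one in characteristic two. -/
theorem bound : ∃ z : E, ∀ g ∈ S.low D, g ∈ π.ker → g = 1 ∨ ((2 : F) ≠ 0 ∧ g = z) := by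
  set φ := relHom (P.fam_rel D H) with hφ
  set ψ := relHom (P.flip.fam_rel D H) with hψ
  have comm : ∀ M N, Commute (φ M) (ψ N) := by
    intro M
    induction M using sl2_induction with
    | h1 => intro N; rw [map_one]; exact Commute.one_left _
    | hstep b c M ih =>
      intro N
      rw [map_mul]
      refine Commute.mul_left ?_ (ih N)
      induction N using sl2_induction with
      | h1 => rw [map_one]; exact Commute.one_right _
      | hstep b' d N ih' =>
        rw [map_mul]
        refine Commute.mul_right ?_ ih'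
        rw [hφ, hψ, relHom_trv, relHom_trv]
        exact P.comm_all D b b' c d
  let Φ := MonoidHom.noncommCoprod φ ψ comm
  have hle : S.low D ≤ Φ.range := by
    rw [low, Subgroup.closure_le]
    rintro _ (⟨v, hv, rfl⟩ | ⟨v, hv, rfl⟩)
    · obtain ⟨a, b, rfl⟩ := P.onto v hv
      refine ⟨(trv F true a, trv F true b), ?_⟩
      simp only [Φ, MonoidHom.noncommCoprod_apply, hφ, hψ, relHom_trv, fam, flip]
      rw [← m_add D (S.pair_level (S.level.W.smul_mem a P.mem))
        (S.pair_level (S.level.W.smul_mem b P.mem')), ← neg_add]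
    · obtain ⟨a, b, rfl⟩ := P.onto v hv
      refine ⟨(trv F false (-b), trv F false (-a)), ?_⟩
      simp only [Φ, MonoidHom.noncommCoprod_apply, hφ, hψ, relHom_trv, fam, flip, neg_neg]
      rw [← m_add D (S.pair_level' (S.level.W.smul_mem b P.mem'))
        (S.pair_level' (S.level.W.smul_mem a P.mem)), ← neg_add, add_comm]
  refine ⟨φ (-1) * ψ (-1), fun g hg hk => ?_⟩
  obtain ⟨⟨M, N⟩, rfl⟩ := hle hg
  simp only [Φ, MonoidHom.noncommCoprod_apply] at hk ⊢
  have heq : ∀ x, act π (φ M) x = act π (ψ N⁻¹) x := by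
    intro x
    have h1 : π (φ M) = π (ψ N⁻¹) := by
      rw [map_inv, map_inv, eq_inv_iff_mul_eq_one, ← map_mul]
      exact MonoidHom.mem_ker.1 hk
    rw [act, act, h1]
  obtain ⟨m1, m2, m3, m4⟩ := P.hom_act D H M
  obtain ⟨n1, n2, n3, n4⟩ := P.flip.hom_act D H N⁻¹
  rw [← hφ] at m1 m2 m3 m4
  rw [← hψ] at n1 n2 n3 n4
  simp only [flip] at n1 n2 n3 n4
  obtain ⟨p1, p2, p3, p4⟩ := P.perps
  obtain ⟨q1, q2, q3, q4⟩ := P.flip.perps
  simp only [flip] at q1 q2 q3 q4
  set A := M.1
  set B := ((N⁻¹ : Matrix.SpecialLinearGroup (Fin 2) F)).1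
  have e1 : A 0 0 • S.s - A 1 0 • P.t' = B 0 0 • S.s - B 1 0 • P.t := by rw [← m1, heq, n1]
  have e2 : A 0 0 • P.t + A 1 0 • S.s' = -(B 0 1 • S.s) + B 1 1 • P.t := by rw [← m3, heq, n2]
  have e3 : -(A 0 1 • S.s) + A 1 1 • P.t' = B 0 0 • P.t' + B 1 0 • S.s' := by rw [← m2, heq, n3]
  have c1 := congrArg (polar Q S.s') e1
  have c2 := congrArg (polar Q P.t) e1
  have c3 := congrArg (polar Q P.t') e1
  have c4 := congrArg (polar Q P.t') e2
  have c5 := congrArg (polar Q S.s') e2
  have c6 := congrArg (polar Q P.t) e3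
  have c7 := congrArg (polar Q S.s') e3
  simp only [polar_add_right, polar_sub_right, polar_neg_right, polar_smul_right, S.hs.pol',
    S.hs.pol_ff, P.hp.pol, P.hp.pol', P.hp.pol_ee, P.hp.pol_ff, p1, p2, p3, p4, q1, q2, q3, q4,
    smul_eq_mul, mul_zero, mul_one, sub_zero, zero_sub, add_zero, zero_add, neg_zero,
    neg_eq_zero, zero_eq_neg] at c1 c2 c3 c4 c5 c6 c7
  have hdet : A 0 0 * A 1 1 - A 0 1 * A 1 0 = 1 := by rw [← Matrix.det_fin_two]; exact M.2
  rw [c2, mul_zero, sub_zero, c6, ← c1] at hdet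
  have hM : ∀ a : F, A 0 0 = a → M.1 = !![a, 0; 0, a] ∧ B = !![a, 0; 0, a] := by
    intro a ha
    constructor <;> ext i j <;> fin_cases i <;> fin_cases j <;> simp only [Fin.zero_eta, Fin.mk_one,
      Matrix.of_apply, Matrix.cons_val', Matrix.cons_val_zero, Matrix.cons_val_one,
      Matrix.cons_val_fin_one]
    · exact ha
    · linear_combination c7
    · exact c2
    · linear_combination c6 - c1 + ha
    · linear_combination ha - c1
    · linear_combination c5
    · linear_combination c3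
    · linear_combination ha - c4
  rcases mul_self_eq_one_iff.1 hdet with h | h
  · left
    obtain ⟨h1, h2⟩ := hM 1 h
    have eM : M = 1 := Matrix.SpecialLinearGroup.ext _ _ fun i j => by
      rw [h1]; fin_cases i <;> fin_cases j <;> simp
    have eN : N⁻¹ = 1 := Matrix.SpecialLinearGroup.ext _ _ fun i j => by
      rw [show ((N⁻¹ : Matrix.SpecialLinearGroup (Fin 2) F)).1 = B from rfl, h2]
      fin_cases i <;> fin_cases j <;> simp
    rw [eM, inv_eq_one.1 eN, map_one, map_one, mul_one]
  · obtain ⟨h1, h2⟩ := hM (-1) h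
    by_cases two : (2 : F) = 0
    · left
      have h11 : (-1 : F) = 1 := by linear_combination -two
      rw [h11] at h1 h2
      have eM : M = 1 := Matrix.SpecialLinearGroup.ext _ _ fun i j => by
        rw [h1]; fin_cases i <;> fin_cases j <;> simp
      have eN : N⁻¹ = 1 := Matrix.SpecialLinearGroup.ext _ _ fun i j => by
        rw [show ((N⁻¹ : Matrix.SpecialLinearGroup (Fin 2) F)).1 = B from rfl, h2]
        fin_cases i <;> fin_cases j <;> simp
      rw [eM, inv_eq_one.1 eN, map_one, map_one, mul_one]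
    · refine Or.inr ⟨two, ?_⟩
      have eM : M = -1 := Matrix.SpecialLinearGroup.ext _ _ fun i j => by
        rw [h1]; fin_cases i <;> fin_cases j <;> simp
      have eN : N⁻¹ = -1 := Matrix.SpecialLinearGroup.ext _ _ fun i j => by
        rw [show ((N⁻¹ : Matrix.SpecialLinearGroup (Fin 2) F)).1 = B from rfl, h2]
        fin_cases i <;> fin_cases j <;> simp
      rw [eM, inv_eq_iff_eq_inv.1 eN, inv_neg, inv_one]

end PlaneForm

end Sub

end Cfsg.Agent.Lib.OrthMult
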