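import Cfsg.Agent.Lib.Forms.Quad
import Mathlib.LinearAlgebra.CliffordAlgebra.Contraction
import Mathlib.LinearAlgebra.CliffordAlgebra.Conjugation

/-!
Products of an even number of anisotropic vectors in the Clifford algebra: their action on the space,
their norm and the scalar nature of those acting trivially.
-/

set_option autoImplicit false

namespace Cfsg.Agent.Lib.OrthMult.Cliff

open QuadraticMap Cfsg.Agent.Lib.Forms

variable {F : Type*} [Field F] {V : Type*} [AddCommGroup V] [Module F V]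
variable {Q : QuadraticForm F V}

local notation:max "ı" => CliffordAlgebra.ι Q

theorem iota_inj (h2 : (2 : F) ≠ 0) : Function.Injective (CliffordAlgebra.ι Q) := by
  haveI : Invertible (2 : F) := invertibleOfNonzero h2
  intro a b h
  have := congrArg (CliffordAlgebra.equivExterior Q) h
  simpa [CliffordAlgebra.equivExterior] using this

theorem nontrivial_cl (h2 : (2 : F) ≠ 0) : Nontrivial (CliffordAlgebra Q) := by
  haveI : Invertible (2 : F) := invertibleOfNonzero h2
  infer_instance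

/-- An anisotropic vector as a unit. -/
noncomputable def vu (Q : QuadraticForm F V) (v : V) (hv : Q v ≠ 0) : (CliffordAlgebra Q)ˣ where
  val := CliffordAlgebra.ι Q v
  inv := (Q v)⁻¹ • CliffordAlgebra.ι Q v
  val_inv := by
    rw [mul_smul_comm, CliffordAlgebra.ι_sq_scalar, Algebra.algebraMap_eq_smul_one, smul_smul,
      inv_mul_cancel₀ hv, one_smul]
  inv_val := by
    rw [smul_mul_assoc, CliffordAlgebra.ι_sq_scalar, Algebra.algebraMap_eq_smul_one, smul_smul,
      inv_mul_cancel₀ hv, one_smul]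

/-- The group generated by products of two anisotropic vectors. -/
def lip (Q : QuadraticForm F V) : Subgroup (CliffordAlgebra Q)ˣ :=
  Subgroup.closure {x | ∃ (v w : V) (hv : Q v ≠ 0) (hw : Q w ≠ 0), x = vu Q v hv * vu Q w hw}

theorem pair_mem {v w : V} (hv : Q v ≠ 0) (hw : Q w ≠ 0) : vu Q v hv * vu Q w hw ∈ lip Q :=
  Subgroup.subset_closure ⟨v, w, hv, hw, rfl⟩

/-- `x` acts on the space as `g`. -/
def Acts (x : (CliffordAlgebra Q)ˣ) (g : orth Q) : Prop :=
  ∀ y : V, (x : CliffordAlgebra Q) * CliffordAlgebra.ι Q y =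
    CliffordAlgebra.ι Q (g.1 y) * (x : CliffordAlgebra Q)

theorem Acts.one : Acts (1 : (CliffordAlgebra Q)ˣ) (1 : orth Q) := fun y => by simp

theorem Acts.mul {x x' : (CliffordAlgebra Q)ˣ} {g g' : orth Q} (h : Acts x g) (h' : Acts x' g') :
    Acts (x * x') (g * g') := fun y => by
  rw [Units.val_mul, mul_assoc, h' y, ← mul_assoc, h, mul_assoc]
  rfl

theorem Acts.inv {x : (CliffordAlgebra Q)ˣ} {g : orth Q} (h : Acts x g) : Acts x⁻¹ g⁻¹ := fun y => by
  have h1 := h (g⁻¹.1 y)
  rw [show g.1 (g⁻¹.1 y) = y from g.1.apply_symm_apply y] at h1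
  rw [Units.inv_mul_eq_iff_eq_mul, ← mul_assoc, h1, mul_assoc, Units.mul_inv, mul_one]

theorem Acts.unique (h2 : (2 : F) ≠ 0) {x : (CliffordAlgebra Q)ˣ} {g g' : orth Q} (h : Acts x g)
    (h' : Acts x g') : g = g' :=
  Subtype.ext (LinearEquiv.ext fun y => iota_inj h2 ((Units.mul_left_inj x).1 ((h y).symm.trans (h' y))))

theorem acts_pair {v w : V} (hv : Q v ≠ 0) (hw : Q w ≠ 0) :
    Acts (vu Q v hv * vu Q w hw) (orefl Q v * orefl Q w) := by
  have key : ∀ {u : V}, Q u ≠ 0 → ∀ y, ı u * ı y = -(ı (refl Q u y) * ı u) := fun {u} hu y => by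
    rw [refl_apply, map_sub, map_smul, sub_mul, smul_mul_assoc, CliffordAlgebra.ι_sq_scalar,
      Algebra.smul_def, ← map_mul (algebraMap F (CliffordAlgebra Q)), mul_comm (Q u)⁻¹,
      inv_mul_cancel_right₀ hu,
      ← CliffordAlgebra.ι_mul_ι_add_swap]
    abel
  intro y
  show (ı v * ı w) * ı y = ı (refl Q v (refl Q w y)) * (ı v * ı w)
  rw [mul_assoc, key hw, mul_neg, ← mul_assoc, key hv, neg_mul, neg_neg, mul_assoc]

theorem exists_acts {x : (CliffordAlgebra Q)ˣ} (hx : x ∈ lip Q) : ∃ g : orth Q, Acts x g := by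
  refine Subgroup.closure_induction (p := fun x _ => ∃ g : orth Q, Acts x g) ?_ ⟨1, Acts.one⟩ ?_ ?_ hx
  · rintro _ ⟨v, w, hv, hw, rfl⟩; exact ⟨_, acts_pair hv hw⟩
  · rintro x y _ _ ⟨g, hg⟩ ⟨g', hg'⟩; exact ⟨_, hg.mul hg'⟩
  · rintro x _ ⟨g, hg⟩; exact ⟨_, hg.inv⟩

/-- The action as a homomorphism. -/
noncomputable def actHom (h2 : (2 : F) ≠ 0) : lip Q →* orth Q where
  toFun x := (exists_acts x.2).choose
  map_one' := Acts.unique h2 (exists_acts (one_mem (lip Q))).choose_spec Acts.one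
  map_mul' x y := Acts.unique h2 (exists_acts (x * y).2).choose_spec
    ((exists_acts x.2).choose_spec.mul (exists_acts y.2).choose_spec)

theorem actHom_acts (h2 : (2 : F) ≠ 0) (x : lip Q) : Acts x.1 (actHom h2 x) :=
  (exists_acts x.2).choose_spec

theorem actHom_pair (h2 : (2 : F) ≠ 0) {v w : V} (hv : Q v ≠ 0) (hw : Q w ≠ 0) :
    actHom h2 ⟨_, pair_mem hv hw⟩ = orefl Q v * orefl Q w :=
  Acts.unique h2 (actHom_acts h2 _) (acts_pair hv hw)

/-! ### The norm -/

theorem norm_mul {x y : (CliffordAlgebra Q)ˣ} {c d : F}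
    (h : CliffordAlgebra.reverse (x : CliffordAlgebra Q) * (x : CliffordAlgebra Q) =
      algebraMap F (CliffordAlgebra Q) c)
    (h' : CliffordAlgebra.reverse (y : CliffordAlgebra Q) * (y : CliffordAlgebra Q) =
      algebraMap F (CliffordAlgebra Q) d) :
    CliffordAlgebra.reverse ((x * y : (CliffordAlgebra Q)ˣ) : CliffordAlgebra Q) *
      ((x * y : (CliffordAlgebra Q)ˣ) : CliffordAlgebra Q) =
      algebraMap F (CliffordAlgebra Q) (c * d) := by
  rw [Units.val_mul, CliffordAlgebra.reverse.map_mul, mul_assoc,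
    ← mul_assoc (CliffordAlgebra.reverse (x : CliffordAlgebra Q)), h, Algebra.commutes c, ← mul_assoc,
    h', ← map_mul, mul_comm]

theorem exists_norm {x : (CliffordAlgebra Q)ˣ} (hx : x ∈ lip Q) :
    ∃ c : F, c ≠ 0 ∧ CliffordAlgebra.reverse (x : CliffordAlgebra Q) * (x : CliffordAlgebra Q) =
      algebraMap F (CliffordAlgebra Q) c := by
  refine Subgroup.closure_induction (p := fun (x : (CliffordAlgebra Q)ˣ) _ => ∃ c : F, c ≠ 0 ∧
    CliffordAlgebra.reverse (x : CliffordAlgebra Q) * (x : CliffordAlgebra Q) =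
      algebraMap F (CliffordAlgebra Q) c) ?_ ⟨1, one_ne_zero, by simp⟩ ?_ ?_ hx
  · rintro _ ⟨v, w, hv, hw, rfl⟩
    refine ⟨Q v * Q w, mul_ne_zero hv hw, ?_⟩
    show CliffordAlgebra.reverse (ı v * ı w) * (ı v * ı w) = _
    rw [CliffordAlgebra.reverse.map_mul, CliffordAlgebra.reverse_ι, CliffordAlgebra.reverse_ι,
      mul_assoc, ← mul_assoc (ı v), CliffordAlgebra.ι_sq_scalar, Algebra.commutes (Q v), ← mul_assoc,
      CliffordAlgebra.ι_sq_scalar, ← map_mul, mul_comm]
  · rintro x y _ _ ⟨c, hc, h⟩ ⟨d, hd, h'⟩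
    exact ⟨c * d, mul_ne_zero hc hd, norm_mul h h'⟩
  · rintro x _ ⟨c, hc, h⟩
    refine ⟨c⁻¹, inv_ne_zero hc, ?_⟩
    have h1 : CliffordAlgebra.reverse (x : CliffordAlgebra Q) =
        algebraMap F (CliffordAlgebra Q) c * ((x⁻¹ : (CliffordAlgebra Q)ˣ) : CliffordAlgebra Q) := by
      rw [← h, mul_assoc, Units.mul_inv, mul_one]
    have h3 : CliffordAlgebra.reverse (x : CliffordAlgebra Q) *
        CliffordAlgebra.reverse ((x⁻¹ : (CliffordAlgebra Q)ˣ) : CliffordAlgebra Q) = 1 := by
      rw [← CliffordAlgebra.reverse.map_mul, Units.inv_mul, CliffordAlgebra.reverse.map_one]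
    rw [h1, mul_assoc] at h3
    have h4 := congrArg (fun y => algebraMap F (CliffordAlgebra Q) c⁻¹ * y) h3
    simp only [← mul_assoc, ← map_mul, inv_mul_cancel₀ hc, map_one, one_mul, mul_one] at h4
    rw [Units.inv_mul_eq_iff_eq_mul] at h4
    rw [h4, ← Algebra.commutes, mul_assoc, Units.mul_inv, mul_one]

/-- The norm. -/
noncomputable def normHom (h2 : (2 : F) ≠ 0) : lip Q →* F :=
  haveI := nontrivial_cl (Q := Q) h2
  { toFun := fun x => (exists_norm x.2).choose
    map_one' := (algebraMap F (CliffordAlgebra Q)).injective (by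
      rw [← (exists_norm (one_mem (lip Q))).choose_spec.2]; simp)
    map_mul' := fun x y => (algebraMap F (CliffordAlgebra Q)).injective
      ((exists_norm (x * y).2).choose_spec.2.symm.trans
        (norm_mul (exists_norm x.2).choose_spec.2 (exists_norm y.2).choose_spec.2)) }

theorem normHom_spec (h2 : (2 : F) ≠ 0) (x : lip Q) :
    CliffordAlgebra.reverse (x.1 : CliffordAlgebra Q) * (x.1 : CliffordAlgebra Q) =
      algebraMap F (CliffordAlgebra Q) (normHom h2 x) :=
  (exists_norm x.2).choose_spec.2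

theorem normHom_ne (h2 : (2 : F) ≠ 0) (x : lip Q) : normHom h2 x ≠ 0 :=
  (exists_norm x.2).choose_spec.1

theorem normHom_commutator (h2 : (2 : F) ≠ 0) {x : lip Q} (hx : x ∈ commutator (lip Q)) :
    normHom h2 x = 1 := by
  have hle : commutator (lip Q) ≤ (normHom (Q := Q) h2).ker := by
    rw [commutator_def, Subgroup.commutator_le]
    intro a _ b _
    rw [MonoidHom.mem_ker, commutatorElement_def, map_mul, map_mul, map_mul]
    have ha : normHom h2 a * normHom h2 a⁻¹ = 1 := by rw [← map_mul, mul_inv_cancel, map_one]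
    have hb : normHom h2 b * normHom h2 b⁻¹ = 1 := by rw [← map_mul, mul_inv_cancel, map_one]
    calc normHom h2 a * normHom h2 b * normHom h2 a⁻¹ * normHom h2 b⁻¹
        = (normHom h2 a * normHom h2 a⁻¹) * (normHom h2 b * normHom h2 b⁻¹) := by ring
      _ = 1 := by rw [ha, hb, one_mul]
  exact hle hx

/-! ### What acts trivially is a scalar -/

/-- The sign attached to a parity. -/
def sgn (p : Bool) : F := if p then -1 else 1

theorem sgn_not (p : Bool) : sgn (F := F) (!p) = -sgn p := by cases p <;> simp [sgn]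

variable {n : ℕ} (b : Module.Basis (Fin n) F V)

/-- The basis vectors in the algebra. -/
noncomputable def ev (Q : QuadraticForm F V) (b : Module.Basis (Fin n) F V) (k : ℕ) :
    CliffordAlgebra Q :=
  if h : k < n then CliffordAlgebra.ι Q (b ⟨k, h⟩) else 0

/-- The span of the sorted monomials of one parity in the first vectors. -/
noncomputable def mono (Q : QuadraticForm F V) (b : Module.Basis (Fin n) F V) :
    ℕ → Bool → Submodule F (CliffordAlgebra Q)
  | 0, false => Submodule.span F {1}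
  | 0, true => ⊥
  | k + 1, p => mono Q b k p ⊔ (mono Q b k (!p)).map (LinearMap.mulLeft F (ev Q b k))

variable {b} (hb : ∀ i j, i ≠ j → polar Q (b i) (b j) = 0)

theorem mem_mono_succ {k : ℕ} {p : Bool} {x : CliffordAlgebra Q} :
    x ∈ mono Q b (k + 1) p ↔
      ∃ a ∈ mono Q b k p, ∃ c ∈ mono Q b k (!p), x = a + ev Q b k * c := by
  simp only [mono, Submodule.mem_sup, Submodule.mem_map, LinearMap.mulLeft_apply]
  constructor
  · rintro ⟨a, ha, _, ⟨c, hc, rfl⟩, rfl⟩; exact ⟨a, ha, c, hc, rfl⟩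
  · rintro ⟨a, ha, c, hc, rfl⟩; exact ⟨a, ha, _, ⟨c, hc, rfl⟩, rfl⟩

include hb

theorem ev_anti {i j : ℕ} (h : i ≠ j) : ev Q b j * ev Q b i = -(ev Q b i * ev Q b j) := by
  rw [ev, ev]
  split_ifs with hj hi
  · refine CliffordAlgebra.ι_mul_ι_comm_of_isOrtho ?_
    rw [QuadraticMap.isOrtho_def, Q_add, hb _ _ (fun e => h (by simpa using (Fin.ext_iff.1 e).symm))]
    abel
  all_goals simp

theorem ev_comm : ∀ (k : ℕ) {j : ℕ}, k ≤ j → ∀ {p : Bool} {a : CliffordAlgebra Q},
    a ∈ mono Q b k p → ev Q b j * a = sgn (F := F) p • (a * ev Q b j)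
  | 0, j, _, p, a, ha => by
    cases p
    · obtain ⟨c, rfl⟩ := Submodule.mem_span_singleton.1 ha
      simp [sgn, mul_smul_comm, smul_mul_assoc]
    · simp [(Submodule.mem_bot F).1 ha]
  | k + 1, j, hj, p, x, hx => by
    obtain ⟨a, ha, c, hc, rfl⟩ := mem_mono_succ.1 hx
    have h1 := ev_comm k (show k ≤ j by omega) ha
    have h3 := ev_comm k (show k ≤ j by omega) hc
    rw [mul_add, h1, ← mul_assoc, ev_anti hb (show k ≠ j by omega), neg_mul, mul_assoc, h3,
      sgn_not, add_mul, smul_add, mul_smul_comm, neg_smul, neg_neg, mul_assoc]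

theorem ev_left : ∀ (k : ℕ) {i : ℕ}, i < k → ∀ {p : Bool} {a : CliffordAlgebra Q},
    a ∈ mono Q b k p → ev Q b i * a ∈ mono Q b k (!p)
  | 0, i, hi, _, _, _ => absurd hi (by omega)
  | k + 1, i, hi, p, x, hx => by
    obtain ⟨a, ha, c, hc, rfl⟩ := mem_mono_succ.1 hx
    rw [mul_add]
    refine add_mem ?_ ?_
    · rcases (Nat.lt_succ_iff_lt_or_eq.1 hi) with h | rfl
      · exact mem_mono_succ.2 ⟨_, ev_left k h ha, 0, zero_mem _, by simp⟩
      · exact mem_mono_succ.2 ⟨0, zero_mem _, a, by rwa [Bool.not_not], by simp⟩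
    · rcases (Nat.lt_succ_iff_lt_or_eq.1 hi) with h | rfl
      · refine mem_mono_succ.2 ⟨0, zero_mem _, -(ev Q b i * c), neg_mem (ev_left k h hc), ?_⟩
        rw [zero_add, ← mul_assoc, ev_anti hb (show k ≠ i by omega), neg_mul, mul_assoc, mul_neg]
      · refine mem_mono_succ.2 ⟨Q (if h : i < n then b ⟨i, h⟩ else 0) • c,
          Submodule.smul_mem _ _ hc, 0, zero_mem _, ?_⟩
        rw [mul_zero, add_zero, ← mul_assoc]
        by_cases h : i < n
        · rw [ev, dif_pos h, dif_pos h, CliffordAlgebra.ι_sq_scalar, ← Algebra.smul_def]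
        · simp [ev, h]

theorem iota_left (v : V) {p : Bool} {a : CliffordAlgebra Q} (ha : a ∈ mono Q b n p) :
    ı v * a ∈ mono Q b n (!p) := by
  rw [← b.sum_repr v, map_sum, Finset.sum_mul]
  refine Submodule.sum_mem _ fun i _ => ?_
  rw [map_smul, smul_mul_assoc, show ı (b i) = ev Q b i.1 by rw [ev, dif_pos i.2]]
  exact Submodule.smul_mem _ _ (ev_left hb n i.2 ha)

theorem lip_mono {x : (CliffordAlgebra Q)ˣ} (hx : x ∈ lip Q) {a : CliffordAlgebra Q}
    (ha : a ∈ mono Q b n false) : (x : CliffordAlgebra Q) * a ∈ mono Q b n false := by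
  refine Subgroup.closure_induction_left (p := fun (x : (CliffordAlgebra Q)ˣ) _ => ∀ a ∈ mono Q b n false,
    (x : CliffordAlgebra Q) * a ∈ mono Q b n false) (fun a ha => by simpa using ha) ?_ ?_ hx a ha
  · rintro _ ⟨v, w, hv, hw, rfl⟩ y _ ih a ha
    show ı v * ı w * (y : CliffordAlgebra Q) * a ∈ _
    rw [mul_assoc, mul_assoc]
    exact iota_left hb v (iota_left hb w (ih a ha))
  · rintro _ ⟨v, w, hv, hw, rfl⟩ y _ ih a ha
    show ((Q w)⁻¹ • ı w) * ((Q v)⁻¹ • ı v) * (y : CliffordAlgebra Q) * a ∈ _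
    simp only [smul_mul_assoc, mul_smul_comm, mul_assoc]
    exact Submodule.smul_mem _ _ (Submodule.smul_mem _ _ (iota_left hb w (iota_left hb v (ih a ha))))

theorem scalar_of_comm (h2 : (2 : F) ≠ 0) (hq : ∀ i, Q (b i) ≠ 0) :
    ∀ (k : ℕ), k ≤ n → ∀ {a : CliffordAlgebra Q}, a ∈ mono Q b k false →
      (∀ j, ev Q b j * a = a * ev Q b j) → ∃ c : F, a = algebraMap F (CliffordAlgebra Q) c
  | 0, _, a, ha, _ => by
    obtain ⟨c, rfl⟩ := Submodule.mem_span_singleton.1 ha
    exact ⟨c, (Algebra.algebraMap_eq_smul_one c).symm⟩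
  | k + 1, hk, x, hx, hcomm => by
    obtain ⟨a, ha, c, hc, rfl⟩ := mem_mono_succ.1 hx
    have hkn : k < n := by omega
    have h1 := ev_comm hb k le_rfl ha
    have h3 := ev_comm hb k le_rfl hc
    have h4 := hcomm k
    simp only [sgn, Bool.false_eq_true, if_false, one_smul] at h1
    simp only [sgn, Bool.not_false, if_true, neg_one_smul] at h3
    have hee : ev Q b k * ev Q b k = algebraMap F (CliffordAlgebra Q) (Q (b ⟨k, hkn⟩)) := by
      rw [ev, dif_pos hkn, CliffordAlgebra.ι_sq_scalar]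
    rw [mul_add, add_mul, h1, ← mul_assoc, hee, mul_assoc,
      show c * ev Q b k = -(ev Q b k * c) by rw [h3, neg_neg], mul_neg, ← mul_assoc, hee] at h4
    have h5 : (2 * Q (b ⟨k, hkn⟩)) • c = 0 := by
      rw [← Algebra.smul_def] at h4
      linear_combination (norm := module) h4
    have hc0 : c = 0 := by
      rcases smul_eq_zero.1 h5 with h | h
      · exact absurd h (mul_ne_zero h2 (hq _))
      · exact h
    rw [hc0, mul_zero, add_zero] at hcomm ⊢
    exact scalar_of_comm h2 hq k (by omega) ha hcomm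

theorem scalar_of_trivial (h2 : (2 : F) ≠ 0) (hq : ∀ i, Q (b i) ≠ 0) {x : lip Q}
    (hx : actHom h2 x = 1) :
    ∃ c : F, (x.1 : CliffordAlgebra Q) = algebraMap F (CliffordAlgebra Q) c := by
  have h0 : ∀ k, (1 : CliffordAlgebra Q) ∈ mono Q b k false := fun k => by
    induction k with
    | zero => exact Submodule.mem_span_singleton_self 1
    | succ k ih => exact mem_mono_succ.2 ⟨1, ih, 0, zero_mem _, by simp⟩
  have hm : (x.1 : CliffordAlgebra Q) ∈ mono Q b n false := by
    simpa using lip_mono hb x.2 (h0 n)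
  refine scalar_of_comm hb h2 hq n le_rfl hm fun j => ?_
  have h := actHom_acts h2 x
  rw [hx] at h
  rw [ev]
  split_ifs with hj
  · exact (h (b ⟨j, hj⟩)).symm
  · simp

/-! ### The product of a whole orthogonal basis -/

omit hb

/-- A product of basis vectors, as a unit. -/
noncomputable def lu (hq : ∀ i, Q (b i) ≠ 0) (l : List (Fin n)) : (CliffordAlgebra Q)ˣ :=
  (l.map fun i => vu Q (b i) (hq i)).prod

theorem lu_mem (hq : ∀ i, Q (b i) ≠ 0) : ∀ l : List (Fin n), Even l.length → lu hq l ∈ lip Q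
  | [], _ => by simp [lu]
  | [_], h => by simp at h
  | i :: j :: l, h => by
    have h' : Even l.length := by
      simp only [List.length_cons] at h
      rw [Nat.even_iff] at h ⊢
      omega
    simp only [lu, List.map_cons, List.prod_cons, ← mul_assoc]
    exact mul_mem (pair_mem _ _) (lu_mem hq l h')

include hb

theorem lu_comm (hq : ∀ i, Q (b i) ≠ 0) (j : Fin n) : ∀ l : List (Fin n), l.Nodup →
    ı (b j) * (lu hq l : CliffordAlgebra Q) =
      ((-1 : F) ^ (l.length + if j ∈ l then 1 else 0)) • ((lu hq l : CliffordAlgebra Q) * ı (b j))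
  | [], _ => by simp [lu]
  | i :: l, hl => by
    obtain ⟨hi, hl'⟩ := List.nodup_cons.1 hl
    have ih := lu_comm hq j l hl'
    have e : (lu hq (i :: l) : CliffordAlgebra Q) = ı (b i) * (lu hq l : CliffordAlgebra Q) := by
      simp [lu, vu]
    rw [e]
    rcases eq_or_ne j i with rfl | hji
    · rw [if_neg hi, add_zero] at ih
      rw [if_pos (List.mem_cons_self ..), List.length_cons, mul_assoc (ı (b j)) _ (ı (b j)),
        ← mul_smul_comm, show l.length + 1 + 1 = l.length + 2 by omega, pow_add, neg_one_sq, mul_one,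
        ← ih]
    · rw [← mul_assoc]
      have hij : ı (b j) * ı (b i) = -(ı (b i) * ı (b j)) := by
        refine CliffordAlgebra.ι_mul_ι_comm_of_isOrtho ?_
        rw [QuadraticMap.isOrtho_def, Q_add, hb _ _ hji]
        abel
      have hmem : (j ∈ i :: l) ↔ j ∈ l := by simp [hji]
      rw [hij, neg_mul, mul_assoc, ih, mul_smul_comm, ← mul_assoc, List.length_cons,
        show (l.length + 1 + if j ∈ i :: l then 1 else 0) = (l.length + if j ∈ l then 1 else 0) + 1 by
          simp only [hmem]; omega, pow_succ, mul_neg_one, neg_smul]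

theorem lu_reverse (hq : ∀ i, Q (b i) ≠ 0) : ∀ l : List (Fin n), l.Nodup →
    CliffordAlgebra.reverse (lu hq l : CliffordAlgebra Q) =
      ((-1 : F) ^ l.length.choose 2) • (lu hq l : CliffordAlgebra Q)
  | [], _ => by simp [lu]
  | i :: l, hl => by
    obtain ⟨hi, hl'⟩ := List.nodup_cons.1 hl
    have e : (lu hq (i :: l) : CliffordAlgebra Q) = ı (b i) * (lu hq l : CliffordAlgebra Q) := by
      simp [lu, vu]
    have h1 := lu_comm hb hq i l hl'
    rw [if_neg hi, add_zero] at h1
    have h3 : (lu hq l : CliffordAlgebra Q) * ı (b i) =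
        ((-1 : F) ^ l.length) • (ı (b i) * (lu hq l : CliffordAlgebra Q)) := by
      rw [h1, smul_smul, ← pow_add, ← two_mul, pow_mul, neg_one_sq, one_pow, one_smul]
    rw [e, CliffordAlgebra.reverse.map_mul, lu_reverse hq l hl', CliffordAlgebra.reverse_ι,
      smul_mul_assoc, h3, smul_smul, ← pow_add, List.length_cons, Nat.choose_succ_succ,
      Nat.choose_one_right, add_comm]

end Cfsg.Agent.Lib.OrthMult.Cliff
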