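import Cfsg.Agent.Lib.OrthMult.Clifford
import Cfsg.Agent.Lib.OrthOmega.Structure
import Cfsg.Agent.Lib.Schur.Fusion
import Mathlib.LinearAlgebra.QuadraticForm.Basic

/-!
The perfect double cover of the group generated by the Siegel transformations in odd characteristic.
-/

set_option autoImplicit false

namespace Cfsg.Agent.Lib.OrthMult

open Module QuadraticMap Cfsg.Agent.Lib.Forms Cfsg.Agent.Lib.OrthOmega
open scoped commutatorElement

variable {F : Type*} [Field F] {V : Type*} [AddCommGroup V] [Module F V]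
variable {Q : QuadraticForm F V}

/-- A perfect double cover, with the square of the preimages of minus one. -/
structure DoubleCover (Q : QuadraticForm F V) {Γ : Type*} [Group Γ] (σ : Γ →* EG Q) (z : Γ) : Prop where
  surj : Function.Surjective σ
  perf : commutator Γ = ⊤
  central : σ.ker ≤ Subgroup.center Γ
  ker_iff : ∀ g, σ g = 1 ↔ g = 1 ∨ g = z
  ne : z ≠ 1
  neg_sq : ∀ l, finrank F V = 2 * l → ∀ x : Γ, (∀ v, (σ x).1.1 v = -v) →
    (Even l → x * x = 1) ∧ (Odd l → x * x = z)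

namespace Cliff

theorem orefl_inv (Q : QuadraticForm F V) (v : V) : (orefl Q v)⁻¹ = orefl Q v :=
  Subtype.ext (refl_inv Q v)

variable [Finite F] [FiniteDimensional F V]

omit [Finite F] [FiniteDimensional F V] in
theorem orth_ext_basis {ι : Type*} (b : Module.Basis ι F V) {g h : orth Q}
    (H : ∀ i, g.1 (b i) = h.1 (b i)) : g = h :=
  Subtype.ext (b.ext' H)

theorem refl_pair_mem_EG (hQ : Nondeg Q) (h4 : 4 ≤ finrank F V) {v w : V}
    (hv : Q v ≠ 0) (h : Q v = Q w) : orefl Q v * orefl Q w ∈ EG Q := by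
  have hv0 : v ≠ 0 := fun h0 => hv (by rw [h0, QuadraticMap.map_zero])
  have hw0 : w ≠ 0 := fun h0 => hv (by rw [h, h0, QuadraticMap.map_zero])
  obtain ⟨k, hk, hkv⟩ := conn_of_eq hQ h4 hv0 hw0 h
  have e : orefl Q w = k * orefl Q v * k⁻¹ := by
    refine Subtype.ext ?_
    rw [← hkv]
    exact (refl_conj k.2 v).symm
  rw [e, ← mul_assoc, ← mul_assoc]
  refine mul_mem ?_ (inv_mem hk)
  have := (EG_normal Q).conj_mem k hk (orefl Q v)
  rwa [orefl_inv] at this

theorem commutator_orth_le_range (h2 : (2 : F) ≠ 0) (hQ : Nondeg Q) (h5 : 5 ≤ finrank F V) :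
    commutator (orth Q) ≤ (actHom (Q := Q) h2).range := by
  set I := (actHom (Q := Q) h2).range
  have hcl := closure_reflSet hQ (Or.inr (show finrank F V ≠ 4 by omega))
  have hpair : ∀ v w : V, Q v ≠ 0 → Q w ≠ 0 → orefl Q v * orefl Q w ∈ I := fun v w hv hw =>
    ⟨⟨_, pair_mem hv hw⟩, actHom_pair h2 hv hw⟩
  have hconj : ∀ g : orth Q, ∀ (x : (CliffordAlgebra Q)ˣ) (hx : x ∈ lip Q),
      g * actHom h2 ⟨x, hx⟩ * g⁻¹ ∈ I := by
    intro g x hx
    refine Subgroup.closure_induction (p := fun (x : (CliffordAlgebra Q)ˣ) (hx : x ∈ lip Q) =>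
      g * actHom h2 ⟨x, hx⟩ * g⁻¹ ∈ I) ?_ ?_ ?_ ?_ hx
    · rintro _ ⟨a, b, ha, hb, rfl⟩
      rw [actHom_pair h2 ha hb]
      have e : ∀ c, g * orefl Q c * g⁻¹ = orefl Q (g.1 c) := fun c => Subtype.ext (refl_conj g.2 c)
      have h := hpair (g.1 a) (g.1 b) (by rw [g.2]; exact ha) (by rw [g.2]; exact hb)
      rw [← e, ← e] at h
      rwa [show g * orefl Q a * g⁻¹ * (g * orefl Q b * g⁻¹) = g * (orefl Q a * orefl Q b) * g⁻¹ by
        group] at h
    · rw [show (⟨1, one_mem _⟩ : lip Q) = 1 from rfl, map_one, mul_one, mul_inv_cancel]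
      exact one_mem _
    · intro a b ha hb iha ihb
      rw [show (⟨a * b, mul_mem ha hb⟩ : lip Q) = ⟨a, ha⟩ * ⟨b, hb⟩ from rfl, map_mul]
      have := mul_mem iha ihb
      rwa [show g * actHom h2 ⟨a, ha⟩ * g⁻¹ * (g * actHom h2 ⟨b, hb⟩ * g⁻¹) =
        g * (actHom h2 ⟨a, ha⟩ * actHom h2 ⟨b, hb⟩) * g⁻¹ by group] at this
    · intro a ha iha
      rw [show (⟨a⁻¹, inv_mem ha⟩ : lip Q) = ⟨a, ha⟩⁻¹ from rfl, map_inv]
      have := inv_mem iha
      rwa [show (g * actHom h2 ⟨a, ha⟩ * g⁻¹)⁻¹ = g * (actHom h2 ⟨a, ha⟩)⁻¹ * g⁻¹ by group] at this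
  haveI : I.Normal := ⟨fun n hn g => by
    obtain ⟨⟨x, hx⟩, rfl⟩ := hn
    exact hconj g x hx⟩
  obtain ⟨u, hu⟩ : ∃ u : V, Q u ≠ 0 := by
    have : Nontrivial V := Module.nontrivial_of_finrank_pos (R := F) (by omega)
    obtain ⟨x, hx⟩ := exists_ne (0 : V)
    exact exists_Q_ne_zero hQ hx
  let q := QuotientGroup.mk' I
  have hz : ∀ g : orth Q, q g ∈ Subgroup.zpowers (q (orefl Q u)) := by
    intro g
    have hle : Subgroup.closure (reflSet Q) ≤ (Subgroup.zpowers (q (orefl Q u))).comap q := by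
      refine (Subgroup.closure_le _).mpr ?_
      rintro _ ⟨v, hv, rfl⟩
      show q (orefl Q v) ∈ Subgroup.zpowers (q (orefl Q u))
      have h : q (orefl Q v * orefl Q u) = 1 := (QuotientGroup.eq_one_iff _).2 (hpair v u hv hu)
      rw [map_mul, mul_eq_one_iff_eq_inv] at h
      rw [h]
      exact inv_mem (Subgroup.mem_zpowers _)
    exact hle (hcl ▸ Subgroup.mem_top g)
  rw [commutator_def, Subgroup.commutator_le]
  intro a _ b _
  rw [← QuotientGroup.eq_one_iff (N := I)]
  show q ⁅a, b⁆ = 1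
  rw [map_commutatorElement, commutatorElement_eq_one_iff_mul_comm]
  obtain ⟨i, hi⟩ := Subgroup.mem_zpowers_iff.1 (hz a)
  obtain ⟨j, hj⟩ := Subgroup.mem_zpowers_iff.1 (hz b)
  rw [← hi, ← hj, ← zpow_add, ← zpow_add, add_comm]

omit [Finite F] [FiniteDimensional F V] in
/-- An element acting trivially is central in the group of pairs. -/
theorem central_of_scalar {x : lip Q} {c : F}
    (h : (x.1 : CliffordAlgebra Q) = algebraMap F (CliffordAlgebra Q) c) :
    x ∈ Subgroup.center (lip Q) := by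
  rw [Subgroup.mem_center_iff]
  intro y
  refine Subtype.ext (Units.ext ?_)
  show (y.1 : CliffordAlgebra Q) * x.1 = x.1 * y.1
  rw [h, Algebra.commutes]

omit [Finite F] in
theorem exists_orth_basis (h2 : (2 : F) ≠ 0) (hQ : Nondeg Q) :
    ∃ b : Basis (Fin (finrank F V)) F V,
      (∀ i j, i ≠ j → polar Q (b i) (b j) = 0) ∧ ∀ i, Q (b i) ≠ 0 := by
  haveI : Invertible (2 : F) := invertibleOfNonzero h2
  obtain ⟨b, hb⟩ := LinearMap.BilinForm.exists_orthogonal_basis (B := polarBilin Q)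
    ⟨fun x y => polar_comm Q x y⟩
  have hb' : ∀ i j, i ≠ j → polar Q (b i) (b j) = 0 := fun i j h => hb h
  refine ⟨b, hb', fun i hi => b.ne_zero i (hQ _ fun y => ?_)⟩
  rw [← b.sum_repr y]
  show polarBilin Q (b i) _ = 0
  rw [map_sum]
  refine Finset.sum_eq_zero fun j _ => ?_
  rw [map_smul]
  show b.repr y j • polar Q (b i) (b j) = 0
  rcases eq_or_ne i j with rfl | h
  · rw [polar_self', hi, mul_zero, smul_zero]
  · rw [hb' i j h, smul_zero]

theorem exists_three_ones (h2 : (2 : F) ≠ 0) (hQ : Nondeg Q) (h7 : 7 ≤ finrank F V) :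
    ∃ v₁ v₂ v₃ : V, Q v₁ = 1 ∧ Q v₂ = 1 ∧ Q v₃ = 1 ∧
      polar Q v₁ v₂ = 0 ∧ polar Q v₁ v₃ = 0 ∧ polar Q v₂ v₃ = 0 := by
  obtain ⟨e₁, f₁, p₁⟩ := exists_hyp hQ (by omega)
  have d₁ := p₁.finrank_core
  obtain ⟨e₂, f₂, p₂⟩ := exists_hyp (p₁.nondeg_core hQ) (by omega)
  have d₂ := p₂.finrank_core
  obtain ⟨w, hw⟩ := exists_Q_eq (p₂.nondeg_core (p₁.nondeg_core hQ)) (by omega) 1
  refine ⟨(1 : F) • e₁ + (1 : F) • f₁, ((1 : F) • e₂ + (1 : F) • f₂ : core Q e₁ f₁).1, w.1.1, ?_,
    ?_, hw, ?_, ?_, ?_⟩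
  · rw [Q_comb, p₁.left, p₁.right, p₁.pol]; ring
  · rw [← res_apply Q, Q_comb, p₂.left, p₂.right, p₂.pol]; ring
  · rw [one_smul, one_smul, polar_add_left, (mem_core.1 (Subtype.coe_prop _)).1,
      (mem_core.1 (Subtype.coe_prop _)).2, add_zero]
  · rw [one_smul, one_smul, polar_add_left, (mem_core.1 w.1.2).1, (mem_core.1 w.1.2).2, add_zero]
  · rw [← res_polar Q, polar_add_left, polar_smul_left, polar_smul_left, (mem_core.1 w.2).1,
      (mem_core.1 w.2).2]
    simp

omit [Finite F] [FiniteDimensional F V] in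
theorem iota_anti {a c : V} (h : polar Q a c = 0) :
    CliffordAlgebra.ι Q a * CliffordAlgebra.ι Q c =
      -(CliffordAlgebra.ι Q c * CliffordAlgebra.ι Q a) := by
  refine CliffordAlgebra.ι_mul_ι_comm_of_isOrtho ?_
  rw [QuadraticMap.isOrtho_def, Q_add, h]
  abel

omit [Finite F] [FiniteDimensional F V] in
theorem triple_identities {v₁ v₂ v₃ : V} (q₁ : Q v₁ = 1) (q₂ : Q v₂ = 1)
    (b₁₂ : polar Q v₁ v₂ = 0) (b₁₃ : polar Q v₁ v₃ = 0) (b₂₃ : polar Q v₂ v₃ = 0) :
    (CliffordAlgebra.ι Q v₁ * CliffordAlgebra.ι Q v₂) *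
        (CliffordAlgebra.ι Q v₁ * CliffordAlgebra.ι Q v₂) = -1 ∧
      (CliffordAlgebra.ι Q v₁ * CliffordAlgebra.ι Q v₂) *
          (CliffordAlgebra.ι Q v₁ * CliffordAlgebra.ι Q v₃) =
        -((CliffordAlgebra.ι Q v₁ * CliffordAlgebra.ι Q v₃) *
          (CliffordAlgebra.ι Q v₁ * CliffordAlgebra.ι Q v₂)) := by
  have s1 : CliffordAlgebra.ι Q v₁ * CliffordAlgebra.ι Q v₁ = 1 := by
    rw [CliffordAlgebra.ι_sq_scalar, q₁, map_one]
  have s2 : CliffordAlgebra.ι Q v₂ * CliffordAlgebra.ι Q v₂ = 1 := by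
    rw [CliffordAlgebra.ι_sq_scalar, q₂, map_one]
  have a12 := iota_anti b₁₂
  have a13 := iota_anti b₁₃
  have a23 := iota_anti b₂₃
  set a := CliffordAlgebra.ι Q v₁
  set b := CliffordAlgebra.ι Q v₂
  set c := CliffordAlgebra.ι Q v₃
  have hb : b * a = -(a * b) := by rw [a12, neg_neg]
  have hc : c * a = -(a * c) := by rw [a13, neg_neg]
  constructor
  · rw [mul_assoc, ← mul_assoc b, hb, neg_mul, mul_neg, mul_assoc a b b, s2, mul_one, s1]
  · rw [mul_assoc, ← mul_assoc b, hb, mul_assoc a c (a * b), ← mul_assoc c, hc, neg_mul, neg_mul,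
      mul_neg, mul_neg, neg_neg, ← mul_assoc a (a * b), ← mul_assoc a a, s1, one_mul,
      ← mul_assoc a (a * c), ← mul_assoc a a, s1, one_mul, a23, neg_neg]

theorem exists_double_cover (h2 : (2 : F) ≠ 0) (hQ : Nondeg Q) (h7 : 7 ≤ finrank F V) :
    ∃ (S : Subgroup (lip Q)) (σ : S →* EG Q) (z : S), DoubleCover Q σ z ∧ Finite S := by
  haveI := nontrivial_cl (Q := Q) h2
  obtain ⟨b, hb, hq⟩ := exists_orth_basis h2 hQ
  set φ := actHom (Q := Q) h2
  have hscal : ∀ x : lip Q, φ x = 1 →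
      ∃ c : F, (x.1 : CliffordAlgebra Q) = algebraMap F (CliffordAlgebra Q) c :=
    fun x hx => scalar_of_trivial hb h2 hq hx
  have hcen : φ.ker ≤ Subgroup.center (lip Q) := fun x hx => by
    obtain ⟨c, hc⟩ := hscal x hx
    exact central_of_scalar hc
  have hEG : EG Q ≤ φ.range := by
    rw [← commutator_eq_EG hQ (by omega)]
    exact commutator_orth_le_range h2 hQ (by omega)
  set S := ⁅commutator (lip Q), commutator (lip Q)⁆ with hS
  have hmap0 : (commutator (lip Q)).map φ = EG Q := by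
    rw [commutator_def, Subgroup.map_commutator, ← MonoidHom.range_eq_map]
    refine le_antisymm ?_ ?_
    · rw [← commutator_eq_EG hQ (by omega), commutator_def]
      exact Subgroup.commutator_mono le_top le_top
    · rw [← EG_perfect hQ (by omega)]
      exact Subgroup.commutator_mono (hEG.trans le_rfl) (hEG.trans le_rfl)
  have hmap : S.map φ = EG Q := by
    rw [hS, Subgroup.map_commutator, hmap0, EG_perfect hQ (by omega)]
  have hSle : S ≤ commutator (lip Q) := Subgroup.commutator_le_self _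
  have hperf : ⁅S, S⁆ = S := by
    refine le_antisymm (Subgroup.commutator_le_self _) (Subgroup.commutator_le.2 fun a ha c hc => ?_)
    obtain ⟨a', ha', ea⟩ := (hmap.ge (hmap0.le ⟨a, ha, rfl⟩))
    obtain ⟨c', hc', ec⟩ := (hmap.ge (hmap0.le ⟨c, hc, rfl⟩))
    rw [Cfsg.Agent.Lib.Schur.Fusion.commutator_congr hcen ea.symm ec.symm]
    exact Subgroup.commutator_mem_commutator ha' hc'
  obtain ⟨v₁, v₂, v₃, q₁, q₂, q₃, b₁₂, b₁₃, b₂₃⟩ := exists_three_ones h2 hQ h7
  have n₁ : Q v₁ ≠ 0 := by rw [q₁]; exact one_ne_zero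
  have n₂ : Q v₂ ≠ 0 := by rw [q₂]; exact one_ne_zero
  have n₃ : Q v₃ ≠ 0 := by rw [q₃]; exact one_ne_zero
  obtain ⟨i1, i2⟩ := triple_identities q₁ q₂ b₁₂ b₁₃ b₂₃
  set A : lip Q := ⟨_, pair_mem n₁ n₂⟩ with hA
  set B : lip Q := ⟨_, pair_mem n₁ n₃⟩ with hB
  have hAB : ⁅A, B⁆ = A * A := by
    have h1 : A * B = A * A * (B * A) := by
      refine Subtype.ext (Units.ext ?_)
      simp only [hA, hB, Subgroup.coe_mul, Units.val_mul, vu]
      rw [i2, i1, neg_one_mul]
    rw [commutatorElement_def, h1]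
    group
  have hφA : φ A ∈ EG Q := by
    rw [show φ A = orefl Q v₁ * orefl Q v₂ from actHom_pair h2 n₁ n₂]
    exact refl_pair_mem_EG hQ (by omega) n₁ (q₁.trans q₂.symm)
  have hφB : φ B ∈ EG Q := by
    rw [show φ B = orefl Q v₁ * orefl Q v₃ from actHom_pair h2 n₁ n₃]
    exact refl_pair_mem_EG hQ (by omega) n₁ (q₁.trans q₃.symm)
  have hzS : A * A ∈ S := by
    obtain ⟨a', ha', ea⟩ := hmap.ge hφA
    obtain ⟨c', hc', ec⟩ := hmap.ge hφB
    rw [← hAB, Cfsg.Agent.Lib.Schur.Fusion.commutator_congr hcen ea.symm ec.symm, ← hperf]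
    exact Subgroup.commutator_mem_commutator ha' hc'
  have hzval : ((A * A : lip Q).1 : CliffordAlgebra Q) = -1 := by
    simp only [hA, Subgroup.coe_mul, Units.val_mul, vu]
    exact i1
  set z : S := ⟨A * A, hzS⟩
  set σ : S →* EG Q := (φ.comp S.subtype).codRestrict (EG Q)
    (fun x => hmap.le ⟨x.1, x.2, rfl⟩) with hσ
  have hσ1 : ∀ x : S, σ x = 1 ↔ φ x.1 = 1 := fun x =>
    ⟨fun h => congrArg Subtype.val h, fun h => Subtype.ext h⟩
  have hzk : φ (A * A) = 1 :=
    Acts.unique h2 (actHom_acts h2 _) fun y => by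
      rw [hzval]
      show (-1 : CliffordAlgebra Q) * _ = CliffordAlgebra.ι Q y * -1
      rw [neg_one_mul, mul_neg_one]
  have hker : ∀ x : S, σ x = 1 ↔ x = 1 ∨ x = z := by
    intro x
    rw [hσ1]
    constructor
    · intro hx
      obtain ⟨c, hc⟩ := hscal _ hx
      have hn := normHom_spec h2 x.1
      rw [normHom_commutator h2 (hSle x.2), hc, CliffordAlgebra.reverse.commutes, ← map_mul] at hn
      rcases mul_self_eq_one_iff.1 ((algebraMap F (CliffordAlgebra Q)).injective hn) with h | h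
      · refine Or.inl (Subtype.ext (Subtype.ext (Units.ext ?_)))
        rw [hc, h, map_one]; rfl
      · refine Or.inr (Subtype.ext (Subtype.ext (Units.ext ?_)))
        rw [hc, h, map_neg, map_one]; exact hzval.symm
    · rintro (rfl | rfl)
      · exact map_one φ
      · exact hzk
  refine ⟨S, σ, z, ⟨?_, ?_, ?_, hker, ?_, ?_⟩, ?_⟩
  · rintro ⟨g, hg⟩
    obtain ⟨x, hx, hxg⟩ := hmap.ge hg
    exact ⟨⟨x, hx⟩, Subtype.ext hxg⟩
  · apply Subgroup.map_injective S.subtype_injective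
    rw [Subgroup.map_subtype_commutator, hperf, ← MonoidHom.range_eq_map, Subgroup.range_subtype]
  · intro x hx
    rw [Subgroup.mem_center_iff]
    intro y
    exact Subtype.ext (Subgroup.mem_center_iff.1 (hcen ((hσ1 x).1 hx)) y.1)
  · intro h
    have h1 : ((A * A : lip Q).1 : CliffordAlgebra Q) = 1 :=
      congrArg (fun x : S => (x.1.1 : CliffordAlgebra Q)) h
    rw [hzval] at h1
    have h3 : algebraMap F (CliffordAlgebra Q) (-1) = algebraMap F (CliffordAlgebra Q) 1 := by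
      rw [map_neg, map_one, h1]
    exact h2 (by linear_combination -(algebraMap F (CliffordAlgebra Q)).injective h3)
  · intro l hl x hx
    set L := List.finRange (finrank F V)
    have hLn : L.Nodup := List.nodup_finRange _
    have hLl : L.length = 2 * l := by rw [List.length_finRange, hl]
    set P : lip Q := ⟨lu hq L, lu_mem hq L (hLl ▸ even_two_mul l)⟩
    have hPj : ∀ j, CliffordAlgebra.ι Q (b j) * (P.1 : CliffordAlgebra Q) =
        -((P.1 : CliffordAlgebra Q) * CliffordAlgebra.ι Q (b j)) := fun j => by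
      have h := lu_comm hb hq j L hLn
      rw [if_pos (List.mem_finRange j), hLl, pow_succ, pow_mul, neg_one_sq, one_pow, one_mul,
        neg_one_smul] at h
      exact h
    have hxP : φ (x.1 * P⁻¹) = 1 := by
      rw [map_mul, map_inv, mul_inv_eq_one]
      refine orth_ext_basis b fun j => ?_
      apply iota_inj h2
      have h1 := actHom_acts h2 P (b j)
      have h3 := hx (b j)
      rw [show (φ x.1).1 (b j) = -(b j) from h3, map_neg]
      refine (Units.mul_left_inj P.1).1 ?_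
      rw [← h1, neg_mul, hPj j, neg_neg]
    obtain ⟨c, hc⟩ := hscal _ hxP
    have hxv : (x.1.1 : CliffordAlgebra Q) =
        algebraMap F (CliffordAlgebra Q) c * (P.1 : CliffordAlgebra Q) := by
      rw [← hc, ← Units.val_mul, ← Subgroup.coe_mul, inv_mul_cancel_right]
    have hrev : CliffordAlgebra.reverse (x.1.1 : CliffordAlgebra Q) =
        ((-1 : F) ^ l) • (x.1.1 : CliffordAlgebra Q) := by
      rw [hxv, CliffordAlgebra.reverse.map_mul, CliffordAlgebra.reverse.commutes,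
        show (P.1 : CliffordAlgebra Q) = (lu hq L : CliffordAlgebra Q) from rfl,
        lu_reverse hb hq L hLn, smul_mul_assoc, ← Algebra.commutes, hLl]
      congr 1
      rw [Nat.choose_two_right, Nat.mul_assoc, Nat.mul_div_cancel_left _ two_pos]
      rcases Nat.eq_zero_or_pos l with rfl | hl0
      · simp
      have hsp : l * (2 * l - 1) = 2 * (l * (l - 1)) + l := by
        obtain ⟨m, rfl⟩ := Nat.exists_eq_add_of_le hl0
        simp only [Nat.succ_eq_add_one, zero_add, add_tsub_cancel_left,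
          show 2 * (1 + m) - 1 = 2 * m + 1 by omega]
        ring
      rw [hsp, pow_add, pow_mul, neg_one_sq, one_pow, one_mul]
    have hn := normHom_spec h2 x.1
    rw [normHom_commutator h2 (hSle x.2), hrev, map_one, smul_mul_assoc] at hn
    constructor
    · intro he
      rw [he.neg_one_pow, one_smul] at hn
      exact Subtype.ext (Subtype.ext (Units.ext hn))
    · intro ho
      rw [ho.neg_one_pow, neg_one_smul, neg_eq_iff_eq_neg] at hn
      refine Subtype.ext (Subtype.ext (Units.ext ?_))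
      exact hn.trans hzval.symm
  · haveI : Finite V := Module.finite_of_finite F
    haveI : Finite (orth Q) := Finite.of_injective (fun g : orth Q => (g.1 : V → V))
      fun g h e => Subtype.ext (LinearEquiv.ext (congrFun e))
    haveI : Finite σ.ker := by
      refine (Set.Finite.subset ((Set.finite_singleton z).insert 1) ?_).to_subtype
      intro x hx
      rcases (hker x).1 hx with h | h <;> simp [h]
    haveI : Finite (S ⧸ σ.ker) := Finite.of_injective _ (QuotientGroup.kerLift_injective σ)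
    exact Finite.of_equiv _ (Subgroup.groupEquivQuotientProdSubgroup (s := σ.ker)).symm

end Cliff

end Cfsg.Agent.Lib.OrthMult
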