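import Cfsg.Agent.Lib.OrthMult.Main
import Cfsg.Agent.Lib.OrthMult.Spin
import Cfsg.Agent.Lib.OrthOmega.Simple
import Mathlib.GroupTheory.SpecificGroups.KleinFour

/-!
The Schur multiplier of the projective commutator subgroup of a large orthogonal group.
-/

set_option autoImplicit false

namespace Cfsg.Agent.Lib.OrthMult

open Module QuadraticMap Cfsg.Agent.Lib.Forms Cfsg.Agent.Lib.OrthOmega
open Cfsg.Agent.Lib.Multiplier
open scoped commutatorElement

universe u

theorem commutator_eq_top_of_stem {D : Type*} {Γ : Type*} [Group D] [Group Γ]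
    (hΓ : commutator Γ = ⊤) {τ : D →* Γ} (hτ : Cfsg.IsStemExtension τ) : commutator D = ⊤ := by
  have h1 : (commutator D).map τ = ⊤ := by
    rw [_root_.commutator_def, Subgroup.map_commutator, Subgroup.map_top_of_surjective _ hτ.1,
      ← _root_.commutator_def, hΓ]
  have h2 : commutator D ⊔ τ.ker = ⊤ := by rw [← Subgroup.comap_map_eq, h1, Subgroup.comap_top]
  rwa [sup_eq_left.2 hτ.2.2] at h2

variable {F : Type u} [Field F] [Finite F] {V : Type u} [AddCommGroup V] [Module F V]
variable [FiniteDimensional F V] {Q : QuadraticForm F V}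

omit [Finite F] in
theorem finite_orth [Finite F] (Q : QuadraticForm F V) : Finite (orth Q) := by
  haveI : Finite V := Module.finite_of_finite F
  exact Finite.of_injective (fun g : orth Q => (g.1 : V → V))
    fun g h e => Subtype.ext (LinearEquiv.ext (congrFun e))

theorem commutator_EG_top (G : Generic Q) : commutator (EG Q) = ⊤ := by
  apply Subgroup.map_injective (EG Q).subtype_injective
  rw [Subgroup.map_subtype_commutator, EG_perfect G.nd (by have := G.dim; omega),
    ← MonoidHom.range_eq_map, Subgroup.range_subtype]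

theorem trivial_of_double_cover (G : Generic Q) {Γ : Type u} [Group Γ] [Finite Γ] {σ : Γ →* EG Q}
    {z : Γ} (C : DoubleCover Q σ z) : Cfsg.HasCyclicSchurMultiplier Γ 1 := by
  rw [hasCyclicSchurMultiplier_one_iff]
  intro D _ _ τ hτ
  have hD := commutator_eq_top_of_stem C.perf hτ
  obtain ⟨z₀, hz₀⟩ := ker_bound (σ.comp τ) G (C.surj.comp hτ.1)
    (ker_comp_le_center hD τ hτ.2.1 σ C.central) hD
  rw [eq_bot_iff]
  intro g hg
  rw [Subgroup.mem_bot]
  have hg1 : τ g = 1 := hg
  by_contra hne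
  have hg0 : g = z₀ := ((hz₀ g (by rw [MonoidHom.mem_ker, MonoidHom.comp_apply, hg1, map_one])
    ).resolve_left hne).2
  obtain ⟨w, hw⟩ := hτ.1 z
  rcases hz₀ w (by rw [MonoidHom.mem_ker, MonoidHom.comp_apply, hw]; exact (C.ker_iff z).2 (Or.inr rfl))
    with h | ⟨-, h⟩
  · exact C.ne (by rw [← hw, h, map_one])
  · exact C.ne (by rw [← hw, h, ← hg0, hg1])

theorem trivial_of_two_eq_zero (G : Generic Q) (h2 : (2 : F) = 0) :
    Cfsg.HasCyclicSchurMultiplier (EG Q) 1 := by
  haveI := finite_orth Q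
  rw [hasCyclicSchurMultiplier_one_iff]
  intro D _ _ τ hτ
  obtain ⟨z₀, hz₀⟩ := ker_bound τ G hτ.1 hτ.2.1
    (commutator_eq_top_of_stem (commutator_EG_top G) hτ)
  rw [eq_bot_iff]
  intro g hg
  exact Subgroup.mem_bot.2 ((hz₀ g hg).resolve_right fun h => h.1 h2)

section

variable {G₀ : Type u} [Group G₀] {Γ : Type u} [Group Γ]

/-- The map of a cover onto the group. -/
noncomputable def coverMap {Z : Subgroup (EG Q)} [Z.Normal] (e : G₀ ≃* EG Q ⧸ Z)
    (σ : Γ →* EG Q) : Γ →* G₀ :=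
  e.symm.toMonoidHom.comp ((QuotientGroup.mk' Z).comp σ)

omit [Finite F] [FiniteDimensional F V] in
theorem mem_ker_coverMap {Z : Subgroup (EG Q)} [Z.Normal] (e : G₀ ≃* EG Q ⧸ Z)
    (σ : Γ →* EG Q) (x : Γ) : x ∈ (coverMap e σ).ker ↔ σ x ∈ Z := by
  simp [coverMap, MonoidHom.mem_ker]

omit [FiniteDimensional F V] [Finite F] in
theorem hasSchurMultiplier_cover [Finite Γ] (e : G₀ ≃* EG Q ⧸ Subgroup.center (EG Q))
    {σ : Γ →* EG Q} (hs : Function.Surjective σ) (hc : σ.ker ≤ Subgroup.center Γ)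
    (hp : commutator Γ = ⊤) (ht : Cfsg.HasCyclicSchurMultiplier Γ 1) {A : Type} [CommGroup A]
    (eA : (coverMap e σ).ker ≃* A) : Cfsg.HasSchurMultiplier G₀ A := by
  have hsurj : Function.Surjective (coverMap e σ) :=
    e.symm.surjective.comp ((QuotientGroup.mk'_surjective _).comp hs)
  haveI : Finite G₀ := Finite.of_surjective _ hsurj
  have hstem : Cfsg.IsStemExtension (coverMap e σ) := by
    refine ⟨hsurj, fun x hx => ?_, by rw [hp]; exact le_top⟩
    refine ker_comp_le_center hp σ hc (QuotientGroup.mk' (Subgroup.center (EG Q)))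
      (by rw [QuotientGroup.ker_mk']) ?_
    rw [MonoidHom.mem_ker, MonoidHom.comp_apply, QuotientGroup.mk'_apply, QuotientGroup.eq_one_iff]
    exact (mem_ker_coverMap e σ x).1 hx
  refine hasSchurMultiplier_of_cover _ hstem eA fun Δ _ _ τ hτ => ?_
  haveI : Finite A := Finite.of_equiv _ eA.toEquiv
  obtain ⟨p, hpp⟩ := exists_surjective_ker_of_trivial _ hstem ht τ hτ
  exact Nat.card_le_card_of_surjective (fun a => p (eA.symm a)) (hpp.comp eA.symm.surjective)

end

/-- What the statements need about the centre: minus one lies in the group, or not. -/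
def HasNeg (Q : QuadraticForm F V) : Prop := ∃ g ∈ EG Q, ∀ x, g.1 x = -x

omit [Finite F] [FiniteDimensional F V] in
theorem not_fix_and_neg (h2 : (2 : F) ≠ 0) [Nontrivial V] {g : orth Q} (h : ∀ x, g.1 x = x) :
    ¬ ∀ x, g.1 x = -x := fun h' => by
  obtain ⟨x, hx⟩ := exists_ne (0 : V)
  refine hx ((smul_eq_zero.1 (?_ : (2 : F) • x = 0)).resolve_left h2)
  have := (h x).symm.trans (h' x)
  rw [two_smul]
  nth_rw 1 [this]
  exact neg_add_cancel x

variable {G₀ : Type u} [Group G₀]

theorem multiplier_even (G : Generic Q) (h2 : (2 : F) = 0)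
    (e : G₀ ≃* EG Q ⧸ Subgroup.center (EG Q)) {A : Type} [CommGroup A] [Unique A] :
    Cfsg.HasSchurMultiplier G₀ A := by
  haveI := finite_orth Q
  have hneg : ∀ x : V, -x = x := fun x => by
    have h : (2 : F) • x = 0 := by rw [h2, zero_smul]
    rw [two_smul] at h
    exact neg_eq_of_add_eq_zero_left h
  have hker : (coverMap e (MonoidHom.id (EG Q))).ker = ⊥ := by
    rw [eq_bot_iff]
    intro x hx
    rw [mem_ker_coverMap] at hx
    rcases (mem_center_EG_iff G.nd (by have := G.dim; omega) x).1 hx with h | h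
    · exact Subgroup.mem_bot.2 (Subtype.ext (orth_ext h))
    · exact Subgroup.mem_bot.2 (Subtype.ext (orth_ext fun v => (h v).trans (hneg v)))
  haveI : Unique (coverMap e (MonoidHom.id (EG Q))).ker := by rw [hker]; exact inferInstance
  exact hasSchurMultiplier_cover e (σ := MonoidHom.id _) Function.surjective_id (by simp)
    (commutator_EG_top G) (trivial_of_two_eq_zero G h2) MulEquiv.ofUnique

theorem card_ker_two (G : Generic Q) {Γ : Type u} [Group Γ]
    {σ : Γ →* EG Q} {z : Γ} (C : DoubleCover Q σ z) (e : G₀ ≃* EG Q ⧸ Subgroup.center (EG Q))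
    (hn : ¬ HasNeg Q) : Nat.card (coverMap e σ).ker = 2 := by
  have hmem : ∀ x : Γ, x ∈ (coverMap e σ).ker ↔ x = 1 ∨ x = z := fun x => by
    rw [mem_ker_coverMap, mem_center_EG_iff G.nd (by have := G.dim; omega), ← C.ker_iff]
    constructor
    · rintro (h | h)
      · exact Subtype.ext (orth_ext h)
      · exact absurd ⟨_, (σ x).2, h⟩ hn
    · intro h; left; intro v; rw [h]; rfl
  rw [Nat.card_eq_two_iff]
  refine ⟨⟨1, (hmem 1).2 (Or.inl rfl)⟩, ⟨z, (hmem z).2 (Or.inr rfl)⟩,
    fun h => C.ne (congrArg Subtype.val h).symm, Set.eq_univ_of_forall fun x => ?_⟩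
  rcases (hmem x.1).1 x.2 with h | h
  · exact Or.inl (Subtype.ext h)
  · exact Or.inr (Subtype.ext h)

theorem ker_four (G : Generic Q) (h2 : (2 : F) ≠ 0) {Γ : Type u} [Group Γ]
    {σ : Γ →* EG Q} {z : Γ} (C : DoubleCover Q σ z) (e : G₀ ≃* EG Q ⧸ Subgroup.center (EG Q))
    (hn : HasNeg Q) :
    Nat.card (coverMap e σ).ker = 4 ∧ ∃ x : Γ, x ∈ (coverMap e σ).ker ∧ (∀ v, (σ x).1.1 v = -v) ∧
      ∀ y ∈ (coverMap e σ).ker, y = 1 ∨ y = z ∨ y = x ∨ y = x * z := by
  have hd := G.dim
  obtain ⟨g, hg, hneg⟩ := hn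
  obtain ⟨x, hx⟩ := C.surj ⟨g, hg⟩
  have hxn : ∀ v, (σ x).1.1 v = -v := fun v => by rw [hx]; exact hneg v
  have hxk : x ∈ (coverMap e σ).ker :=
    (mem_ker_coverMap e σ x).2 ((mem_center_EG_iff G.nd (by omega) _).2 (Or.inr hxn))
  have hzk : z ∈ (coverMap e σ).ker := (mem_ker_coverMap e σ z).2 (by
    rw [(C.ker_iff z).2 (Or.inr rfl)]; exact one_mem _)
  have hall : ∀ y ∈ (coverMap e σ).ker, y = 1 ∨ y = z ∨ y = x ∨ y = x * z := by
    intro y hy
    rcases (mem_center_EG_iff G.nd (by omega) _).1 ((mem_ker_coverMap e σ y).1 hy) with h | h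
    · rcases (C.ker_iff y).1 (Subtype.ext (orth_ext h)) with h' | h'
      · exact Or.inl h'
      · exact Or.inr (Or.inl h')
    · have hxy : σ (x⁻¹ * y) = 1 := by
        rw [map_mul, map_inv, inv_mul_eq_one]
        exact Subtype.ext (orth_ext fun v => (hxn v).trans (h v).symm)
      rcases (C.ker_iff _).1 hxy with h' | h'
      · exact Or.inr (Or.inr (Or.inl (inv_mul_eq_one.1 h').symm))
      · exact Or.inr (Or.inr (Or.inr (by rw [← h', mul_inv_cancel_left])))
  refine ⟨?_, x, hxk, hxn, hall⟩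
  haveI : Nontrivial V := Module.nontrivial_of_finrank_pos (R := F) (by omega)
  have hσx : σ x ≠ 1 := fun h => not_fix_and_neg h2 (g := (σ x).1) (fun v => by rw [h]; rfl) hxn
  let f : Fin 4 → (coverMap e σ).ker :=
    ![1, ⟨z, hzk⟩, ⟨x, hxk⟩, ⟨x * z, mul_mem hxk hzk⟩]
  have hz1 : σ z = 1 := (C.ker_iff z).2 (Or.inr rfl)
  have hbij : Function.Bijective f := by
    constructor
    · intro i j h
      have h' := congrArg Subtype.val h
      have h'' := congrArg σ h'
      fin_cases i <;> fin_cases j <;> first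
        | rfl
        | (exfalso; simp [f, hz1, hσx, hσx.symm] at h''; done)
        | (exfalso; simp [f, C.ne, C.ne.symm] at h'; done)
    · intro y
      rcases hall y.1 y.2 with h | h | h | h
      · exact ⟨0, Subtype.ext h.symm⟩
      · exact ⟨1, Subtype.ext h.symm⟩
      · exact ⟨2, Subtype.ext h.symm⟩
      · exact ⟨3, Subtype.ext h.symm⟩
  rw [← Nat.card_eq_of_bijective f hbij, Nat.card_eq_fintype_card, Fintype.card_fin]

theorem multiplier_odd_two (G : Generic Q) (h2 : (2 : F) ≠ 0) (hn : ¬ HasNeg Q)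
    (e : G₀ ≃* EG Q ⧸ Subgroup.center (EG Q)) : Cfsg.HasCyclicSchurMultiplier G₀ 2 := by
  obtain ⟨S, σ, z, C, hfin⟩ := Cliff.exists_double_cover h2 G.nd G.dim
  haveI : Fact (Nat.Prime 2) := ⟨Nat.prime_two⟩
  exact hasSchurMultiplier_cover e C.surj C.central C.perf (trivial_of_double_cover G C)
    (mulEquivOfPrimeCardEq (p := 2) (card_ker_two G C e hn) (by simp))

theorem multiplier_odd_four (G : Generic Q) (h2 : (2 : F) ≠ 0) (hn : HasNeg Q) {l : ℕ}
    (hl : finrank F V = 2 * l) (hodd : Odd l)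
    (e : G₀ ≃* EG Q ⧸ Subgroup.center (EG Q)) : Cfsg.HasCyclicSchurMultiplier G₀ 4 := by
  obtain ⟨S, σ, z, C, hfin⟩ := Cliff.exists_double_cover h2 G.nd G.dim
  obtain ⟨hcard, x, hxk, hxn, -⟩ := ker_four G h2 C e hn
  have hxx : x * x = z := (C.neg_sq l hl x hxn).2 hodd
  have hzz : z * z = 1 := by
    rcases (C.ker_iff (z * z)).1 (by rw [map_mul, (C.ker_iff z).2 (Or.inr rfl), one_mul]) with h | h
    · exact h
    · exact absurd (mul_eq_left.1 h) C.ne
  let X : (coverMap e σ).ker := ⟨x, hxk⟩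
  haveI : Fact (Nat.Prime 2) := ⟨Nat.prime_two⟩
  have hord : orderOf X = 2 ^ (1 + 1) := by
    refine orderOf_eq_prime_pow (fun h => C.ne ?_) (Subtype.ext ?_)
    · have h' : x ^ 2 = 1 := by simpa [X] using congrArg Subtype.val h
      rw [← hxx, ← pow_two, h']
    · show x ^ 4 = 1
      rw [show 4 = 2 * 2 from rfl, pow_mul, pow_two x, hxx, pow_two, hzz]
  haveI : IsCyclic (coverMap e σ).ker := isCyclic_of_orderOf_eq_card X (by rw [hord, hcard]; norm_num)
  exact hasSchurMultiplier_cover e C.surj C.central C.perf (trivial_of_double_cover G C)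
    (mulEquivOfCyclicCardEq (by rw [hcard]; simp))

theorem multiplier_odd_klein (G : Generic Q) (h2 : (2 : F) ≠ 0) (hn : HasNeg Q) {l : ℕ}
    (hl : finrank F V = 2 * l) (heven : Even l)
    (e : G₀ ≃* EG Q ⧸ Subgroup.center (EG Q)) :
    Cfsg.HasSchurMultiplier G₀ (Multiplicative (ZMod 2 × ZMod 2)) := by
  obtain ⟨S, σ, z, C, hfin⟩ := Cliff.exists_double_cover h2 G.nd G.dim
  obtain ⟨hcard, x, hxk, hxn, hall⟩ := ker_four G h2 C e hn
  have hxx : x * x = 1 := (C.neg_sq l hl x hxn).1 heven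
  have hzz : z * z = 1 := by
    rcases (C.ker_iff (z * z)).1 (by rw [map_mul, (C.ker_iff z).2 (Or.inr rfl), one_mul]) with h | h
    · exact h
    · exact absurd (mul_eq_left.1 h) C.ne
  have hzc : ∀ g, g * z = z * g :=
    Subgroup.mem_center_iff.1 (C.central ((C.ker_iff z).2 (Or.inr rfl)))
  have hsq : ∀ y : (coverMap e σ).ker, y ^ 2 = 1 := fun y => by
    refine Subtype.ext ?_
    show y.1 ^ 2 = 1
    rw [pow_two]
    rcases hall y.1 y.2 with h | h | h | h <;> rw [h]
    · exact one_mul 1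
    · exact hzz
    · exact hxx
    · rw [mul_assoc, ← mul_assoc z, ← hzc x, mul_assoc x z z, hzz, mul_one, hxx]
  haveI : Finite (coverMap e σ).ker := Nat.finite_of_card_ne_zero (by rw [hcard]; norm_num)
  haveI : Nontrivial (coverMap e σ).ker :=
    Finite.one_lt_card_iff_nontrivial.1 (by rw [hcard]; norm_num)
  haveI : IsKleinFour (coverMap e σ).ker :=
    ⟨hcard, (Monoid.exponent_eq_prime_iff Nat.prime_two).2 fun y hy => orderOf_eq_prime (hsq y) hy⟩
  exact hasSchurMultiplier_cover e C.surj C.central C.perf (trivial_of_double_cover G C)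
    IsKleinFour.nonempty_mulEquiv.some

end Cfsg.Agent.Lib.OrthMult
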