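import Cfsg.Agent.Lib.OrthMult.BottomSplit
import Mathlib.Algebra.QuadraticAlgebra.Basic

/-!
The descent: the kernel part generated by the two root groups of a level has at most two elements,
and one in characteristic two.
-/

set_option autoImplicit false

namespace Cfsg.Agent.Lib.OrthMult

open Module QuadraticMap Cfsg.Agent.Lib.Forms Cfsg.Agent.Lib.OrthOmega

variable {F : Type*} [Field F] {V : Type*} [AddCommGroup V] [Module F V]
variable {Q : QuadraticForm F V} {E : Type*} [Group E]
variable {π : E →* orth Q}

theorem Level.nondeg (L : Level Q) : Nondeg (res Q L.W) := fun w hw =>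
  Subtype.ext (L.ndW w.1 w.2 fun y hy => hw ⟨y, hy⟩)

theorem Level.exists_polar (L : Level Q) {v : V} (hv : v ∈ L.W) (h0 : v ≠ 0) :
    ∃ w ∈ L.W, polar Q v w ≠ 0 := by
  by_contra hc
  push Not at hc
  exact h0 (L.ndW v hv hc)

variable [Finite F] [FiniteDimensional F V]

/-- The field form of a one-dimensional inner subspace. -/
theorem Sub.bound_line {L : Level Q} (S : Sub L) (D : Data π L) (H : Ext π) {v : V}
    (hv : v ∈ S.level.W) (h0 : v ≠ 0) (hQ : Q v ≠ 0)
    (hall : ∀ w ∈ S.level.W, ∃ x : F, w = x • v) :
    ∃ z : E, ∀ g ∈ S.low D, g ∈ π.ker → g = 1 ∨ ((2 : F) ≠ 0 ∧ g = z) :=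
  Sub.FieldForm.bound (K := F) D H
    { conj := AlgEquiv.refl
      J := LinearMap.toSpanSingleton F V v
      c := Q v
      cne := hQ
      inv := fun _ => rfl
      mem := fun z => S.level.W.smul_mem z hv
      onto := fun w hw => by obtain ⟨x, rfl⟩ := hall w hw; exact ⟨x, rfl⟩
      inj := fun x y h => smul_left_injective F h0 h
      form := fun z => by
        simp [LinearMap.toSpanSingleton_apply, Q_smul]
        ring }

/-- The field form of a two-dimensional anisotropic inner subspace. -/
theorem Sub.bound_plane {L : Level Q} (S : Sub L) (D : Data π L) (H : Ext π)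
    (hA : ∀ w ∈ S.level.W, Q w = 0 → w = 0) {v w : V} (hv : v ∈ S.level.W) (hw : w ∈ S.level.W)
    (hli : LinearIndependent F ![v, w]) (hall : ∀ x ∈ S.level.W, ∃ a b : F, x = a • v + b • w) :
    ∃ z : E, ∀ g ∈ S.low D, g ∈ π.ker → g = 1 ∨ ((2 : F) ≠ 0 ∧ g = z) := by
  have hind := LinearIndependent.pair_iff.1 hli
  have hc : Q v ≠ 0 := fun h => hli.ne_zero 0 (hA v hv h)
  set b : F := polar Q v w / Q v with hb
  set a : F := -(Q w / Q v) with ha
  have hroot : ∀ r : F, r ^ 2 ≠ a + b * r := fun r hr => by
    have h1 : Q ((-r) • v + (1 : F) • w) = 0 := by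
      rw [Q_comb]
      rw [ha, hb] at hr
      field_simp at hr
      linear_combination hr
    exact one_ne_zero (hind _ _ (hA _ (add_mem (S.level.W.smul_mem _ hv) (S.level.W.smul_mem _ hw)) h1)).2
  haveI : Fact (∀ r : F, r ^ 2 ≠ a + b * r) := ⟨hroot⟩
  haveI : Finite (QuadraticAlgebra F a b) := Module.finite_of_finite F
  let σ : QuadraticAlgebra F a b ≃ₐ[F] QuadraticAlgebra F a b :=
    AlgEquiv.ofRingEquiv (f := starRingAut) fun r => by
      apply QuadraticAlgebra.ext <;> simp
  let J : QuadraticAlgebra F a b →ₗ[F] V :=
    { toFun := fun z => z.re • v + z.im • w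
      map_add' := fun x y => by simp only [QuadraticAlgebra.re_add, QuadraticAlgebra.im_add]; module
      map_smul' := fun c x => by
        simp only [QuadraticAlgebra.re_smul, QuadraticAlgebra.im_smul, RingHom.id_apply, smul_eq_mul]
        module }
  refine Sub.FieldForm.bound (K := QuadraticAlgebra F a b) D H
    { conj := σ
      J := J
      c := Q v
      cne := hc
      inv := fun z => star_star z
      mem := fun z => add_mem (S.level.W.smul_mem _ hv) (S.level.W.smul_mem _ hw)
      onto := fun x hx => by obtain ⟨p, r, rfl⟩ := hall x hx; exact ⟨⟨p, r⟩, rfl⟩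
      inj := fun x y h => by
        have h' : (x.re - y.re) • v + (x.im - y.im) • w = 0 := by
          have h2 : x.re • v + x.im • w = y.re • v + y.im • w := h
          linear_combination (norm := module) h2
        obtain ⟨h1, h2⟩ := hind _ _ h'
        exact QuadraticAlgebra.ext (sub_eq_zero.1 h1) (sub_eq_zero.1 h2)
      form := fun z => by
        show algebraMap F _ (Q (z.re • v + z.im • w)) = algebraMap F _ (Q v) * (z * star z)
        apply QuadraticAlgebra.ext
        · simp [Q_comb, ha, hb]
          field_simp
          ring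
        · simp
          exact Or.inr (by ring) }

/-- The kernel elements generated by the two root groups of a level: at most two of them. -/
theorem span_bound (H : Ext π) :
    ∀ (n : ℕ) (L : Level Q), finrank F L.W = n → ∀ (S : Sub L) (D : Data π L),
      ∃ z : E, ∀ g ∈ span D, g ∈ π.ker → g = 1 ∨ ((2 : F) ≠ 0 ∧ g = z) := by
  intro n
  induction n using Nat.strong_induction_on with
  | _ n ih =>
    intro L hn S D
    suffices h : ∃ z : E, ∀ g ∈ S.low D, g ∈ π.ker → g = 1 ∨ ((2 : F) ≠ 0 ∧ g = z) by
      obtain ⟨z, hz⟩ := h
      exact ⟨z, fun g hg hk => hz g (S.ker_span_le D H hg hk) hk⟩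
    have hu : S.u ∈ S.level.W := ⟨S.umem, S.su, S.su'⟩
    have hk : S.k ∈ S.level.W := ⟨S.kmem, S.sk, S.sk'⟩
    have hu0 : S.u ≠ 0 := fun h => S.uk (by rw [h, polar_zero_left])
    by_cases hs : ∃ t ∈ S.level.W, t ≠ 0 ∧ Q t = 0
    · obtain ⟨t, ht, ht0, htq⟩ := hs
      obtain ⟨⟨t', ht'⟩, hp⟩ := exists_hypPair S.level.nondeg (e := (⟨t, ht⟩ : S.level.W))
        (fun h => ht0 (congrArg Subtype.val h)) htq
      have hp' : HypPair Q t t' := ⟨hp.left, hp.right, hp.pol⟩
      by_cases hc : ∃ x ∈ S.level.W, polar Q t x = 0 ∧ polar Q t' x = 0 ∧ x ≠ 0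
      · obtain ⟨x, hx, hx1, hx2, hx0⟩ := hc
        obtain ⟨y, hy, hxy⟩ := S.level.exists_polar hx hx0
        let T : Sub S.level :=
          { s := t
            s' := t'
            k := y - polar Q t' y • t - polar Q t y • t'
            u := x
            hs := hp'
            smem := ht
            smem' := ht'
            kmem := sub_mem (sub_mem hy (S.level.W.smul_mem _ ht)) (S.level.W.smul_mem _ ht')
            umem := hx
            sk := (hp'.proj_mem y).1
            sk' := (hp'.proj_mem y).2
            su := hx1
            su' := hx2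
            uk := by
              rw [polar_sub_right, polar_sub_right, polar_smul_right, polar_smul_right,
                (polar_comm Q x t).trans hx1, (polar_comm Q x t').trans hx2]
              simpa using hxy }
        have hlt : finrank F S.level.W < n := by
          rw [← hn]
          refine Submodule.finrank_lt_finrank_of_lt (lt_of_le_of_ne inf_le_left fun he => ?_)
          have h1 : S.s ∈ S.level.W := he.symm ▸ S.smem
          have h2 : polar Q S.s' S.s = 0 := h1.2.2
          rw [S.hs.pol'] at h2
          exact one_ne_zero h2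
        exact ih _ hlt S.level rfl T (S.data D H)
      · push Not at hc
        refine Sub.PlaneForm.bound D H
          { t := t
            t' := t'
            hp := hp'
            mem := ht
            mem' := ht'
            onto := fun v hv => ⟨polar Q t' v, polar Q t v, ?_⟩ }
        have hr : v - polar Q t' v • t - polar Q t v • t' ∈ S.level.W :=
          sub_mem (sub_mem hv (S.level.W.smul_mem _ ht)) (S.level.W.smul_mem _ ht')
        have h := hc _ hr (hp'.proj_mem v).1 (hp'.proj_mem v).2
        linear_combination (norm := module) h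
    · push Not at hs
      have hA : ∀ w ∈ S.level.W, Q w = 0 → w = 0 := fun w hw hq => by
        by_contra h0
        exact hs w hw h0 hq
      by_cases hall : ∀ w ∈ S.level.W, ∃ x : F, w = x • S.u
      · exact S.bound_line D H hu hu0 (fun h => hu0 (hA _ hu h)) hall
      push Not at hall
      obtain ⟨w, hw, hne⟩ := hall
      have hli : LinearIndependent F ![S.u, w] := by
        rw [LinearIndependent.pair_iff' hu0]
        exact fun a h => hne a h.symm
      refine S.bound_plane D H hA hu hw hli fun x hx => ?_
      have hle : Submodule.span F (Set.range ![S.u, w]) ≤ S.level.W :=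
        Submodule.span_le.2 (Set.range_subset_iff.2 fun i => by fin_cases i <;> assumption)
      have h2 : finrank F S.level.W ≤ 2 := anisotropic_finrank_le_two S.level.nondeg
        fun y hy => Subtype.ext (hA y.1 y.2 hy)
      have heq := Submodule.eq_of_le_of_finrank_le hle (by
        rw [finrank_span_eq_card hli]; simpa using h2)
      rw [← heq, Matrix.range_cons, Matrix.range_cons, Matrix.range_empty, Set.union_empty,
        Set.singleton_union, Submodule.mem_span_pair] at hx
      obtain ⟨p, r, rfl⟩ := hx
      exact ⟨p, r, rfl⟩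

end Cfsg.Agent.Lib.OrthMult
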