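import Cfsg.Agent.Lib.OrthMult.Scale

/-!
The Gauss decomposition inside a central extension: moving a root element past one of the opposite root group
never produces anything new from the kernel.
-/

set_option autoImplicit false

namespace Cfsg.Agent.Lib.OrthMult

open QuadraticMap Cfsg.Agent.Lib.Forms Cfsg.Agent.Lib.OrthOmega
open Cfsg.Agent.Lib.Schur.SteinbergSL2

variable {F : Type*} [Field F] {V : Type*} [AddCommGroup V] [Module F V]
variable {Q : QuadraticForm F V} {E : Type*} [Group E]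

/-- The elements preserving a level with trivial scalar. -/
def admOne (π : E →* orth Q) (L : Level Q) : Subgroup E where
  carrier := {g | Adm π L g 1 ∧ Adm π L g⁻¹ 1}
  one_mem' := ⟨Adm.one, by rw [inv_one]; exact Adm.one⟩
  mul_mem' {g h} hg hh := by
    refine ⟨?_, ?_⟩
    · simpa using hg.1.mul hh.1
    · rw [mul_inv_rev]; simpa using hh.2.mul hg.2
  inv_mem' {g} hg := ⟨hg.2, by rw [inv_inv]; exact hg.1⟩

variable {π : E →* orth Q} {L : Level Q}

/-- The coefficient deciding the big cell. -/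
def delta (D : Data π L) (a b : V) : F := polar Q L.f (act π (D.X a * D.Y b) L.e)

theorem act_xy_e (D : Data π L) {a b : V} (ha : a ∈ L.W) (hb : b ∈ L.W) :
    act π (D.X a * D.Y b) L.e =
      (1 - polar Q a b + Q a * Q b) • L.e + (-Q b) • L.f + (b - Q b • a) := by
  rw [act_mul, D.act_y hb,
    show (sg Q L.f b).1 L.e = L.e + b - Q b • L.f from L.symm.sg_e_f hb,
    act_sub, act_add, act_smul, D.act_x ha, D.act_x ha, D.act_x ha, L.sg_e_fix ha, L.sg_e_W ha hb,
    L.sg_e_f ha]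
  module

theorem delta_eq (D : Data π L) {a b : V} (ha : a ∈ L.W) (hb : b ∈ L.W) :
    delta D a b = 1 - polar Q a b + Q a * Q b := by
  rw [delta, act_xy_e D ha hb, polar_add_right, polar_add_right, polar_smul_right, polar_smul_right,
    L.hp.pol', L.hp.pol_ff, polar_sub_right, polar_smul_right, L.perp_f ha, L.perp_f hb]
  simp

namespace Sub

variable (S : Sub L) (D : Data π L)

/-- The group generated by the two families of the level below. -/
def low : Subgroup E :=
  Subgroup.closure ((fun v => mEl D (-v) S.s) '' (S.level.W : Set V) ∪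
    (fun v => mEl D (-v) S.s') '' (S.level.W : Set V))

theorem low_x {v : V} (hv : v ∈ S.level.W) : mEl D (-v) S.s ∈ S.low D :=
  Subgroup.subset_closure (Or.inl ⟨v, hv, rfl⟩)

theorem low_y {v : V} (hv : v ∈ S.level.W) : mEl D (-v) S.s' ∈ S.low D :=
  Subgroup.subset_closure (Or.inr ⟨v, hv, rfl⟩)

theorem m_inv {a b : V} (h : MPair L a b) : (mEl D a b)⁻¹ = mEl D (-a) b := by
  have h' : MPair L (-a) b := by simpa using h.smul (-1)
  rw [inv_eq_iff_mul_eq_one, ← m_add D h h', add_neg_cancel, m_zero_left]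

theorem low_le : S.low D ≤ admOne π L := by
  rw [low, Subgroup.closure_le]
  rintro _ (⟨v, hv, rfl⟩ | ⟨v, hv, rfl⟩)
  · refine ⟨m_adm D (S.pair_level hv), ?_⟩
    rw [m_inv D (S.pair_level hv), neg_neg]
    exact m_adm D (by simpa using (S.pair_level hv).smul (-1))
  · refine ⟨m_adm D (S.pair_level' hv), ?_⟩
    rw [m_inv D (S.pair_level' hv), neg_neg]
    exact m_adm D (by simpa using (S.pair_level' hv).smul (-1))

theorem low_adm {g : E} (hg : g ∈ S.low D) : Adm π L g 1 := (S.low_le D hg).1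

theorem low_y_mem [Finite F] (H : Ext π) {g : E} (hg : g ∈ S.low D) {w : V} (hw : w ∈ L.W) :
    g * D.Y w * g⁻¹ = D.Y (act π g w) := by
  rw [D.y_conj g 1 (S.low_adm D hg) w hw, inv_one, one_smul]

theorem tor_low_x [Finite F] (H : Ext π) {c : F} (hc : c ≠ 0) {v : V} (hv : v ∈ S.level.W) :
    S.tor D c * mEl D (-v) S.s * (S.tor D c)⁻¹ = mEl D (-(c • v)) S.s := by
  rw [m_conj D (S.tor_adm D hc) (S.pair_level hv), S.tor_s D hc, smul_smul, inv_mul_cancel₀ hc,
    one_smul, act_neg, S.tor_perp D c (L.perp_e hv.1) (L.perp_f hv.1) (S.perp_level hv).1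
      (S.perp_level hv).2, smul_neg]

theorem tor_low_y [Finite F] (H : Ext π) {c : F} (hc : c ≠ 0) {v : V} (hv : v ∈ S.level.W) :
    S.tor D c * mEl D (-v) S.s' * (S.tor D c)⁻¹ = mEl D (-(c⁻¹ • v)) S.s' := by
  rw [m_conj D (S.tor_adm D hc) (S.pair_level' hv), S.tor_s' D hc, smul_smul, act_neg,
    S.tor_perp D c (L.perp_e hv.1) (L.perp_f hv.1) (S.perp_level hv).1 (S.perp_level hv).2, smul_neg,
    show S.s' = S.swap.s from rfl,
    S.swap.scale D H (neg_mem (L.W.smul_mem _ hv.1)) (by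
      show polar Q S.s' (-(c • v)) = 0
      rw [polar_neg_right, polar_smul_right, (S.perp_level hv).2, smul_zero, neg_zero]),
    smul_neg, smul_smul]
  congr 2
  congr 1
  field_simp

theorem tor_inv [Finite F] (H : Ext π) {c : F} (hc : c ≠ 0) : (S.tor D c)⁻¹ = S.tor D c⁻¹ := by
  rw [inv_eq_iff_mul_eq_one, ← S.tor_mul D H hc (inv_ne_zero hc), mul_inv_cancel₀ hc, S.tor_one D H]

theorem tor_low [Finite F] (H : Ext π) {c : F} (hc : c ≠ 0) {d : E} (hd : d ∈ S.low D) :
    S.tor D c * d * (S.tor D c)⁻¹ ∈ S.low D := by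
  have : S.low D ≤ (S.low D).comap (MulAut.conj (S.tor D c)).toMonoidHom := by
    rw [low, Subgroup.closure_le]
    rintro _ (⟨v, hv, rfl⟩ | ⟨v, hv, rfl⟩)
    · show S.tor D c * _ * (S.tor D c)⁻¹ ∈ S.low D
      rw [S.tor_low_x D H hc hv]; exact S.low_x D (S.level.W.smul_mem c hv)
    · show S.tor D c * _ * (S.tor D c)⁻¹ ∈ S.low D
      rw [S.tor_low_y D H hc hv]; exact S.low_y D (S.level.W.smul_mem c⁻¹ hv)
  exact this hd

theorem tor_low' [Finite F] (H : Ext π) {c : F} (hc : c ≠ 0) {d : E} (hd : d ∈ S.low D) :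
    (S.tor D c)⁻¹ * d * S.tor D c ∈ S.low D := by
  have := S.tor_low D H (inv_ne_zero hc) hd
  rwa [← S.tor_inv D H hc, inv_inv] at this

/-- The middle group. -/
def mid [Finite F] (H : Ext π) : Subgroup E where
  carrier := {g | ∃ c : F, c ≠ 0 ∧ ∃ d ∈ S.low D, g = S.tor D c * d}
  one_mem' := ⟨1, one_ne_zero, 1, one_mem _, by rw [S.tor_one D H, one_mul]⟩
  mul_mem' := by
    rintro _ _ ⟨c, hc, d, hd, rfl⟩ ⟨c', hc', d', hd', rfl⟩
    refine ⟨c * c', mul_ne_zero hc hc', (S.tor D c')⁻¹ * d * S.tor D c' * d',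
      mul_mem (S.tor_low' D H hc' hd) hd', ?_⟩
    rw [S.tor_mul D H hc hc']
    group
  inv_mem' := by
    rintro _ ⟨c, hc, d, hd, rfl⟩
    refine ⟨c⁻¹, inv_ne_zero hc, S.tor D c * d⁻¹ * (S.tor D c)⁻¹, S.tor_low D H hc (inv_mem hd), ?_⟩
    rw [← S.tor_inv D H hc]
    group

variable [Finite F] (H : Ext π)

theorem low_le_mid : S.low D ≤ S.mid D H := fun d hd =>
  ⟨1, one_ne_zero, d, hd, by rw [S.tor_one D H, one_mul]⟩

theorem mid_adm {g : E} (hg : g ∈ S.mid D H) : ∃ c, Adm π L g c := by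
  obtain ⟨c, hc, d, hd, rfl⟩ := hg
  exact ⟨c, by simpa using (S.tor_adm D hc).mul (S.low_adm D hd)⟩

theorem mid_ker {g : E} (hg : g ∈ S.mid D H) (hk : g ∈ π.ker) : g ∈ S.low D := by
  obtain ⟨c, hc, d, hd, rfl⟩ := hg
  have h1 : act π (S.tor D c * d) L.e = L.e := by
    rw [act, MonoidHom.mem_ker.1 hk]; rfl
  rw [act_mul, (S.low_adm D hd).e_eq, one_smul, S.tor_e D hc] at h1
  have h2 : c = 1 := by
    have := congrArg (polar Q L.f) h1
    rwa [polar_smul_right, L.hp.pol', smul_eq_mul, mul_one] at this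
  rw [h2, S.tor_one D H, one_mul]
  exact hd

theorem low_conj_mid {g m : E} (hg : g ∈ S.low D) (hm : m ∈ S.mid D H) :
    g * m * g⁻¹ ∈ S.mid D H :=
  mul_mem (mul_mem (S.low_le_mid D H hg) hm) (inv_mem (S.low_le_mid D H hg))

omit [Finite F] in
theorem mul_x {g : E} {c : F} (hg : Adm π L g c) {w : V} (hw : w ∈ L.W) :
    g * D.X w = D.X (c • act π g w) * g :=
  mul_inv_eq_iff_eq_mul.1 (D.x_conj g c hg w hw)

omit [Finite F] in
theorem mul_y {g : E} {c : F} (hg : Adm π L g c) {w : V} (hw : w ∈ L.W) :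
    g * D.Y w = D.Y (c⁻¹ • act π g w) * g :=
  mul_inv_eq_iff_eq_mul.1 (D.y_conj g c hg w hw)

theorem x_mul {g : E} (hg : g ∈ S.mid D H) {w : V} (hw : w ∈ L.W) :
    ∃ w' ∈ L.W, D.X w * g = g * D.X w' := by
  obtain ⟨c, hc⟩ := S.mid_adm D H (inv_mem hg)
  refine ⟨c • act π g⁻¹ w, L.W.smul_mem _ (hc.w_mem _ hw), ?_⟩
  rw [← D.x_conj _ c hc w hw]
  group

omit [Finite F] in
/-- Every singular vector is moved to a multiple of the first vector of the pair. -/
theorem exists_move {b : V} (hb : b ∈ L.W) (h0 : b ≠ 0) (hq : Q b = 0) :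
    ∃ g ∈ S.low D, ∃ μ : F, μ ≠ 0 ∧ act π g b = μ • S.s := by
  have hkl : S.u ∈ S.level.W := ⟨S.umem, S.su, S.su'⟩
  have hkl' : S.k ∈ S.level.W := ⟨S.kmem, S.sk, S.sk'⟩
  have actY : ∀ v ∈ S.level.W, ∀ x, act π (mEl D (-v) S.s') x = (sg Q S.s' v).1 x := fun v hv x => by
    rw [m_act D (S.pair_level' hv), neg_neg]
  have actX : ∀ v ∈ S.level.W, ∀ x, act π (mEl D (-v) S.s) x = (sg Q S.s v).1 x := fun v hv x => by
    rw [m_act D (S.pair_level hv), neg_neg]
  -- the case with a non-zero coefficient at the first vector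
  have main : ∀ b ∈ L.W, Q b = 0 → polar Q S.s' b ≠ 0 →
      ∃ g ∈ S.low D, ∃ μ : F, μ ≠ 0 ∧ act π g b = μ • S.s := by
    intro b hb hq hα
    set α := polar Q S.s' b with hαdef
    have hr := S.rest_mem hb
    set r := b - polar Q S.s' b • S.s - polar Q S.s b • S.s' with hrdef
    set v := -(α⁻¹ • r) with hv
    have hvm : v ∈ S.level.W := neg_mem (S.level.W.smul_mem _ hr)
    refine ⟨_, S.low_y D hvm, α, hα, ?_⟩
    set g := mEl D (-v) S.s'
    have hgb : act π g b = α • S.s + (polar Q S.s b - polar Q v b - Q v * α) • S.s' := by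
      rw [actY v hvm, sg_apply ⟨S.hs.right, (S.perp_level hvm).2⟩, ← hαdef, hv, smul_neg, smul_smul,
        mul_inv_cancel₀ hα, one_smul, hrdef, ← hαdef]
      module
    have h0 : Q (act π g b) = 0 := by rw [Q_act, hq]
    rw [hgb, Q_comb, S.hs.left, S.hs.right, S.hs.pol] at h0
    have h1 : polar Q S.s b - polar Q v b - Q v * α = 0 := by
      have : α * (polar Q S.s b - polar Q v b - Q v * α) = 0 := by linear_combination h0
      exact (mul_eq_zero.1 this).resolve_left hα
    rw [hgb, h1, zero_smul, add_zero]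
  by_cases hα : polar Q S.s' b = 0
  swap
  · exact main b hb hq hα
  by_cases hex : ∃ v ∈ S.level.W, polar Q v b + Q v * polar Q S.s b ≠ 0
  · obtain ⟨v, hv, hne⟩ := hex
    have hA := S.low_adm D (S.low_x D hv)
    have h1 : polar Q S.s' (act π (mEl D (-v) S.s) b) = -(polar Q v b + Q v * polar Q S.s b) := by
      rw [actX v hv, sg_apply ⟨S.hs.left, (S.perp_level hv).1⟩, polar_sub_right, polar_add_right,
        polar_smul_right, polar_smul_right, (S.perp_level hv).2, S.hs.pol', hα]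
      simp
    obtain ⟨g, hg, μ, hμ, he⟩ := main _ (hA.w_mem b hb) (by rw [Q_act, hq])
      (by rw [h1]; exact neg_ne_zero.2 hne)
    exact ⟨g * _, mul_mem hg (S.low_x D hv), μ, hμ, by rw [act_mul, he]⟩
  push Not at hex
  exfalso
  have hβ : polar Q S.s b = 0 := by
    have h1 := hex _ hkl
    have h2 := hex _ hkl'
    have h3 := hex _ (add_mem hkl hkl')
    rw [polar_add_left, Q_add] at h3
    have : polar Q S.u S.k * polar Q S.s b = 0 := by linear_combination h3 - h1 - h2
    exact (mul_eq_zero.1 this).resolve_left S.uk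
  refine h0 (L.ndW b hb fun y hy => ?_)
  have hr := S.rest_mem hy
  set r := y - polar Q S.s' y • S.s - polar Q S.s y • S.s' with hrdef
  have h1 := hex r hr
  rw [hβ, mul_zero, add_zero] at h1
  have h2 : y = polar Q S.s' y • S.s + polar Q S.s y • S.s' + r := by rw [hrdef]; module
  rw [h2, polar_add_right, polar_add_right, polar_smul_right, polar_smul_right,
    (polar_comm Q b S.s).trans hβ, (polar_comm Q b S.s').trans hα, (polar_comm Q b r).trans h1]
  simp

include H in
theorem m_mem {a b : V} (h : MPair L a b) : mEl D a b ∈ S.low D := by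
  rcases eq_or_ne b 0 with rfl | hb0
  · rw [m_zero_right]; exact one_mem _
  obtain ⟨g, hg, μ, hμ, hgb⟩ := S.exists_move D h.bmem hb0 h.sing
  have hA := S.low_adm D hg
  set x := μ • act π g a with hx
  have hxm : x ∈ L.W := L.W.smul_mem _ (hA.w_mem _ h.amem)
  have hga : polar Q S.s (act π g a) = 0 := by
    have h1 := h.perp'
    rw [← polar_act π g, hgb, polar_smul_left, smul_eq_mul] at h1
    exact (mul_eq_zero.1 h1).resolve_left hμ
  have hxs : polar Q S.s x = 0 := by rw [hx, polar_smul_right, hga, smul_zero]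
  have hr := S.rest_mem hxm
  rw [hxs, zero_smul, sub_zero] at hr
  set r := x - polar Q S.s' x • S.s with hrdef
  have hsP := S.pairS (L.W.smul_mem (polar Q S.s' x) S.smem)
    (by rw [polar_smul_right, S.hs.pol_ee, smul_zero])
  have hm : mEl D x S.s ∈ S.low D := by
    rw [show x = r + polar Q S.s' x • S.s by rw [hrdef]; module,
      m_add D (S.pairS hr.1 hr.2.1) hsP]
    have := S.m_self_s D (polar Q S.s' x) 1
    rw [one_smul] at this
    rw [this, mul_one]
    simpa using S.low_x D (S.level.W.neg_mem hr)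
  have hconj := m_conj D hA h
  rw [one_smul, inv_one, one_smul, hgb, S.scale D H (hA.w_mem _ h.amem) hga, ← hx] at hconj
  have e : mEl D a b = g⁻¹ * mEl D x S.s * g := by rw [← hconj]; group
  rw [e]
  exact mul_mem (mul_mem (inv_mem hg) hm) hg

include H in
theorem m_mem_symm {a b : V} (h : MPair L.symm a b) : mEl D.symm a b ∈ S.low D := by
  rcases eq_or_ne b 0 with rfl | hb0
  · rw [m_zero_right]; exact one_mem _
  obtain ⟨g, hg, μ, hμ, hgb⟩ := S.exists_move D h.bmem hb0 h.sing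
  have hA := S.low_adm D hg
  have hA' : Adm π L.symm g 1 := by simpa using hA.symm
  set x := μ • act π g a with hx
  have hxm : x ∈ L.W := L.W.smul_mem _ (hA.w_mem _ h.amem)
  have hga : polar Q S.s (act π g a) = 0 := by
    have h1 := h.perp'
    rw [← polar_act π g, hgb, polar_smul_left, smul_eq_mul] at h1
    exact (mul_eq_zero.1 h1).resolve_left hμ
  have hxs : polar Q S.s x = 0 := by rw [hx, polar_smul_right, hga, smul_zero]
  have hr := S.rest_mem hxm
  rw [hxs, zero_smul, sub_zero] at hr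
  set r := x - polar Q S.s' x • S.s with hrdef
  let T : Sub L.symm := S.symm.swap
  have hss : polar Q S.s (polar Q S.s' x • S.s) = 0 := by
    rw [polar_smul_right, S.hs.pol_ee, smul_zero]
  have hm : mEl D.symm x S.s ∈ S.low D := by
    rw [show x = r + polar Q S.s' x • S.s by rw [hrdef]; module,
      show mEl D.symm (r + polar Q S.s' x • S.s) S.s = mEl D.symm (r + polar Q S.s' x • S.s) T.s from rfl,
      m_add D.symm (T.pairS hr.1 hr.2.1) (T.pairS (L.W.smul_mem _ S.smem) hss),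
      show mEl D.symm r T.s = mEl D.symm r S.s from rfl,
      show mEl D.symm (polar Q S.s' x • S.s) T.s = mEl D.symm (polar Q S.s' x • S.s) S.s from rfl,
      S.m_symm D H hr.1 hr.2.1 hr.2.2]
    have : mEl D.symm (polar Q S.s' x • S.s) S.s = 1 := by
      have := T.m_self_s D.symm (polar Q S.s' x) 1
      rw [one_smul] at this
      exact this
    rw [this, mul_one]
    simpa using S.low_x D (S.level.W.neg_mem hr)
  have hconj := m_conj D.symm hA' h
  have hsc : mEl D.symm (act π g a) (μ • S.s) = mEl D.symm x S.s :=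
    T.scale D.symm H (hA.w_mem _ h.amem) hga μ
  rw [one_smul, inv_one, one_smul, hgb, hsc] at hconj
  have e : mEl D.symm a b = g⁻¹ * mEl D.symm x S.s * g := by rw [← hconj]; group
  rw [e]
  exact mul_mem (mul_mem (inv_mem hg) hm) hg

/-- A root element passes one of the opposite root group within the middle group. -/
def Good (a b : V) : Prop :=
  ∃ m ∈ S.mid D H, ∃ a' ∈ L.W, ∃ b' ∈ L.W, D.X a * D.Y b = D.Y b' * m * D.X a'

theorem good_delta {a b : V} (h : S.Good D H a b) : delta D a b ≠ 0 := by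
  obtain ⟨m, hm, a', ha', b', hb', e⟩ := h
  obtain ⟨c, hc⟩ := S.mid_adm D H hm
  rw [delta, e, act_mul, act_mul, D.act_x ha', L.sg_e_fix ha', hc.e_eq, act_smul, D.act_y hb',
    show (sg Q L.f b').1 L.e = L.e + b' - Q b' • L.f from L.symm.sg_e_f hb', polar_smul_right,
    polar_sub_right, polar_add_right, polar_smul_right, L.hp.pol', L.perp_f hb', L.hp.pol_ff]
  simpa using hc.ne_zero

theorem good_of_perp {a b : V} (h : MPair L a b) : S.Good D H a b := by
  refine ⟨_, S.low_le_mid D H (S.m_mem D H h), _, h.mem, b, h.bmem, ?_⟩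
  rw [mul_assoc, ← move_eq]
  group

theorem good_of_perp' {a b : V} (ha : a ∈ L.W) (hb : b ∈ L.W) (hq : Q a = 0)
    (hab : polar Q a b = 0) :
    ∃ m ∈ S.mid D H, ∃ b' ∈ L.W, D.X a * D.Y b = D.Y b' * m * D.X a := by
  have h : MPair L.symm b (-a) := ⟨hb, neg_mem ha, by rw [QuadraticMap.map_neg, hq],
    by rw [polar_neg_right, polar_comm Q b a, hab, neg_zero]⟩
  have hm := S.m_mem_symm D H h
  have hA := S.low_adm D hm
  refine ⟨_, S.low_le_mid D H hm, (1 : F)⁻¹ • act π (mEl D.symm b (-a)) (b - Q b • -a),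
    L.W.smul_mem _ (hA.w_mem _ h.mem), ?_⟩
  rw [← mul_y D hA h.mem]
  have e := move_eq D.symm b (-a)
  rw [show (D.symm.Y (-a)) = D.X (-a) from rfl, D.x_neg ha, inv_inv] at e
  rw [show D.symm.X b = D.Y b from rfl,
    show D.symm.X (b - Q b • -a) = D.Y (b - Q b • -a) from rfl] at e
  rw [← e, inv_mul_cancel_right]

theorem good_conj {g : E} (hg : g ∈ S.low D) {a b : V} (ha : a ∈ L.W) (hb : b ∈ L.W)
    (h : S.Good D H (act π g a) (act π g b)) : S.Good D H a b := by
  obtain ⟨m, hm, a', ha', b', hb', e⟩ := h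
  have hi := S.low_adm D (inv_mem hg)
  refine ⟨_, S.low_conj_mid D H (inv_mem hg) hm, _, hi.w_mem _ ha', _, hi.w_mem _ hb', ?_⟩
  have hxa : g * D.X a = D.X (act π g a) * g := by
    rw [mul_x D (S.low_adm D hg) ha, one_smul]
  have hyb : g * D.Y b = D.Y (act π g b) * g := by
    rw [mul_y D (S.low_adm D hg) hb, inv_one, one_smul]
  have e1 : D.X a * D.Y b = g⁻¹ * (D.X (act π g a) * D.Y (act π g b)) * g := by
    rw [mul_assoc, mul_assoc (D.X (act π g a)), ← hyb, ← mul_assoc (D.X (act π g a)), ← hxa]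
    group
  have hx' := D.x_conj _ 1 hi a' ha'
  have hy' := D.y_conj _ 1 hi b' hb'
  rw [one_smul, inv_inv] at hx'
  rw [inv_one, one_smul, inv_inv] at hy'
  rw [e1, e, ← hx', ← hy', inv_inv]
  group

theorem good_sing_sing {a b : V} (ha : a ∈ L.W) (hb : b ∈ L.W) (hqa : Q a = 0) (hqb : Q b = 0)
    (hd : 1 - polar Q a b ≠ 0) : S.Good D H a b := by
  by_cases hab : polar Q a b = 0
  · exact S.good_of_perp D H ⟨ha, hb, hqb, hab⟩
  have ha0 : a ≠ 0 := fun h => hab (by rw [h, polar_zero_left])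
  obtain ⟨g, hg, μ, hμ, hga⟩ := S.exists_move D ha ha0 hqa
  refine S.good_conj D H hg ha hb ?_
  have hA := S.low_adm D hg
  set b₁ := act π g b with hb₁
  have hb₁m : b₁ ∈ L.W := hA.w_mem b hb
  have hp : μ * polar Q S.s b₁ = polar Q a b := by
    rw [← smul_eq_mul, ← polar_smul_left, ← hga, hb₁, polar_act]
  have hβ : polar Q S.s b₁ ≠ 0 := fun h0 => hab (by rw [← hp, h0, mul_zero])
  have hr := S.rest_mem hb₁m
  set r := b₁ - polar Q S.s' b₁ • S.s - polar Q S.s b₁ • S.s' with hrdef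
  set v := -((polar Q S.s b₁)⁻¹ • r) with hv
  have hvm : v ∈ S.level.W := neg_mem (S.level.W.smul_mem _ hr)
  have hd' := S.low_x D hvm
  refine S.good_conj D H hd' (hA.w_mem a ha) hb₁m ?_
  have actX : ∀ x, act π (mEl D (-v) S.s) x = (sg Q S.s v).1 x := fun x => by
    rw [m_act D (S.pair_level hvm), neg_neg]
  have hs : act π (mEl D (-v) S.s) S.s = S.s := by
    rw [actX, sg_apply ⟨S.hs.left, (S.perp_level hvm).1⟩, S.hs.pol_ee,
      (polar_comm Q v S.s).trans (S.perp_level hvm).1]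
    simp
  have hb2 : act π (mEl D (-v) S.s) b₁ = polar Q S.s b₁ • S.s' := by
    have hshape : act π (mEl D (-v) S.s) b₁ = polar Q S.s b₁ • S.s' +
        (polar Q S.s' b₁ - polar Q v b₁ - Q v * polar Q S.s b₁) • S.s := by
      rw [actX, sg_apply ⟨S.hs.left, (S.perp_level hvm).1⟩, hv, smul_neg, smul_smul,
        mul_inv_cancel₀ hβ, one_smul, hrdef]
      module
    have h0 : Q (act π (mEl D (-v) S.s) b₁) = 0 := by rw [Q_act, hb₁, Q_act, hqb]
    rw [hshape, Q_comb, S.hs.left, S.hs.right, S.hs.pol'] at h0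
    have h1 : polar Q S.s' b₁ - polar Q v b₁ - Q v * polar Q S.s b₁ = 0 := by
      have : polar Q S.s b₁ * (polar Q S.s' b₁ - polar Q v b₁ - Q v * polar Q S.s b₁) = 0 := by
        linear_combination h0
      exact (mul_eq_zero.1 this).resolve_left hβ
    rw [hshape, h1, zero_smul, add_zero]
  rw [hga, act_smul, hs, hb2]
  set β := polar Q S.s b₁
  have hne : 1 + -μ * β ≠ 0 := by rw [neg_mul, hp, ← sub_eq_add_neg]; exact hd
  have e := S.gauss D H (-μ) β hne
  simp only [fam, neg_smul, neg_neg] at e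
  exact ⟨_, ⟨_, hne, 1, one_mem _, (mul_one _).symm⟩, _,
    neg_mem (L.W.smul_mem _ S.smem), _, L.W.smul_mem _ S.smem', e⟩

include S D in
omit [Finite F] in
theorem exists_partner {a : V} (ha : a ∈ L.W) (h0 : a ≠ 0) (hq : Q a = 0) :
    ∃ t ∈ L.W, Q t = 0 ∧ polar Q a t = 1 := by
  obtain ⟨g, hg, μ, hμ, hga⟩ := S.exists_move D ha h0 hq
  refine ⟨act π g⁻¹ (μ⁻¹ • S.s'), (S.low_adm D (inv_mem hg)).w_mem _ (L.W.smul_mem _ S.smem'),
    by rw [Q_act, Q_smul, S.hs.right, mul_zero], ?_⟩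
  rw [← polar_act π g, act_act_inv, hga, polar_smul_left, polar_smul_right, S.hs.pol]
  simp [hμ]

theorem good_left {a b : V} (ha : a ∈ L.W) (hb : b ∈ L.W) (hq : Q a = 0)
    (hd : delta D a b ≠ 0) : S.Good D H a b := by
  rw [delta_eq D ha hb, hq, zero_mul, add_zero] at hd
  rcases eq_or_ne a 0 with rfl | h0
  · exact ⟨1, one_mem _, 0, L.W.zero_mem, b, hb, by rw [D.x_zero, one_mul, mul_one, mul_one]⟩
  obtain ⟨t, ht, htq, hat⟩ := S.exists_partner D ha h0 hq
  set γ := polar Q a b with hγ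
  have hperp : polar Q a (b - γ • t) = 0 := by
    rw [polar_sub_right, polar_smul_right, hat, smul_eq_mul, mul_one, hγ, sub_self]
  obtain ⟨m, hm, b₁, hb₁, e₁⟩ := S.good_of_perp' D H ha (sub_mem hb (L.W.smul_mem γ ht)) hq hperp
  obtain ⟨m', hm', a', ha', b₂, hb₂, e₂⟩ := S.good_sing_sing D H ha (L.W.smul_mem γ ht) hq
    (by rw [Q_smul, htq, mul_zero]) (by rwa [polar_smul_right, hat, smul_eq_mul, mul_one])
  obtain ⟨c, hc⟩ := S.mid_adm D H hm
  refine ⟨m * m', mul_mem hm hm', a', ha', b₁ + c⁻¹ • act π m b₂,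
    add_mem hb₁ (L.W.smul_mem _ (hc.w_mem _ hb₂)), ?_⟩
  rw [← sub_add_cancel b (γ • t), D.y_add _ (sub_mem hb (L.W.smul_mem γ ht)) _ (L.W.smul_mem γ ht),
    ← mul_assoc, e₁, mul_assoc _ (D.X a), e₂,
    D.y_add _ hb₁ _ (L.W.smul_mem _ (hc.w_mem _ hb₂))]
  rw [show D.Y b₁ * m * (D.Y b₂ * m' * D.X a') = D.Y b₁ * (m * D.Y b₂) * m' * D.X a' by group,
    mul_y D hc hb₂]
  group

theorem good_right {a b : V} (ha : a ∈ L.W) (hb : b ∈ L.W) (hq : Q b = 0)
    (hd : delta D a b ≠ 0) : S.Good D H a b := by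
  rw [delta_eq D ha hb, hq, mul_zero, add_zero] at hd
  rcases eq_or_ne b 0 with rfl | h0
  · exact ⟨1, one_mem _, a, ha, 0, L.W.zero_mem, by rw [D.y_zero, mul_one, one_mul, one_mul]⟩
  obtain ⟨t, ht, htq, hbt⟩ := S.exists_partner D hb h0 hq
  set γ := polar Q a b with hγ
  have hperp : polar Q (a - γ • t) b = 0 := by
    rw [polar_sub_left, polar_smul_left, polar_comm Q t b, hbt, smul_eq_mul, mul_one, hγ, sub_self]
  have hm0 : MPair L (a - γ • t) b := ⟨sub_mem ha (L.W.smul_mem γ ht), hb, hq, hperp⟩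
  obtain ⟨m', hm', a'', ha'', b₂, hb₂, e₂⟩ := S.good_sing_sing D H (L.W.smul_mem γ ht) hb
    (by rw [Q_smul, htq, mul_zero]) hq
    (by rwa [polar_smul_left, polar_comm Q t b, hbt, smul_eq_mul, mul_one])
  have hm := S.low_le_mid D H (S.m_mem D H hm0)
  have e₁ : D.X (a - γ • t) * D.Y b =
      D.Y b * mEl D (a - γ • t) b * D.X (a - γ • t - Q (a - γ • t) • b) := by
    rw [mul_assoc, ← move_eq]; group
  obtain ⟨w, hw, ew⟩ := S.x_mul D H hm ha''
  refine ⟨m' * mEl D (a - γ • t) b, mul_mem hm' hm, w + (a - γ • t - Q (a - γ • t) • b),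
    add_mem hw hm0.mem, b₂, hb₂, ?_⟩
  rw [show D.X a = D.X (γ • t) * D.X (a - γ • t) by
      rw [← D.x_add _ (L.W.smul_mem γ ht) _ hm0.amem, add_sub_cancel],
    mul_assoc, e₁, D.x_add _ hw _ hm0.mem,
    show D.X (γ • t) * (D.Y b * mEl D (a - γ • t) b * D.X (a - γ • t - Q (a - γ • t) • b)) =
      D.X (γ • t) * D.Y b * mEl D (a - γ • t) b * D.X (a - γ • t - Q (a - γ • t) • b) by group, e₂,
    mul_assoc (D.Y b₂ * m') (D.X a''), ew]
  group

/-- Adding a singular vector. -/
theorem good_step {a b c : V} (ha : a ∈ L.W) (hb : b ∈ L.W) (hc : c ∈ L.W) (hq : Q c = 0)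
    (hg : S.Good D H a b) (hd : delta D (c + a) b ≠ 0) : S.Good D H (c + a) b := by
  obtain ⟨m, hm, a', ha', b', hb', e⟩ := hg
  obtain ⟨k, hk⟩ := S.mid_adm D H hm
  have hd' : delta D c b' ≠ 0 := by
    intro h0
    apply hd
    rw [delta, D.x_add _ hc _ ha, mul_assoc, e, ← mul_assoc, ← mul_assoc, act_mul, act_mul,
      D.act_x ha', L.sg_e_fix ha', hk.e_eq, act_smul, polar_smul_right]
    rw [delta] at h0
    rw [h0, smul_zero]
  obtain ⟨m₂, hm₂, a₂, ha₂, b₂, hb₂, e₂⟩ := S.good_left D H hc hb' hq hd'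
  obtain ⟨w, hw, ew⟩ := S.x_mul D H hm ha₂
  refine ⟨m₂ * m, mul_mem hm₂ hm, w + a', add_mem hw ha', b₂, hb₂, ?_⟩
  rw [D.x_add _ hc _ ha, mul_assoc, e, D.x_add _ hw _ ha', ← mul_assoc, ← mul_assoc, e₂,
    mul_assoc (D.Y b₂ * m₂) (D.X a₂), ew]
  group

include S in
omit [Finite F] in
/-- Points of non-zero value are connected by singular steps. -/
theorem connected (P : V → Prop)
    (hstep : ∀ z c, z ∈ L.W → c ∈ L.W → Q c = 0 → Q (c + z) ≠ 0 → P z → P (c + z))
    {z₀ z : V} (hz₀ : z₀ ∈ L.W) (hq₀ : Q z₀ ≠ 0) (hz : z ∈ L.W) (hq : Q z ≠ 0) (h : P z₀) :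
    P z := by
  let R : V → V → Prop := fun x y => y - x ∈ L.W ∧ Q (y - x) = 0 ∧ x ∈ L.W ∧ y ∈ L.W ∧ Q x ≠ 0 ∧ Q y ≠ 0
  have hsym : ∀ {x y}, R x y → R y x := fun {x y} ⟨h1, h2, h3, h4, h5, h6⟩ =>
    ⟨by rw [← neg_sub]; exact neg_mem h1, by rw [← neg_sub, QuadraticMap.map_neg, h2], h4, h3, h6, h5⟩
  have hRP : ∀ {x y}, Relation.ReflTransGen R x y → P x → P y := by
    intro x y hxy hx
    induction hxy with
    | refl => exact hx
    | @tail u w _ huw ih =>
      obtain ⟨h1, h2, h3, -, -, h6⟩ := huw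
      have := hstep u (w - u) h3 h1 h2 (by rwa [sub_add_cancel]) ih
      rwa [sub_add_cancel] at this
  have hPlane : ∀ α β : F, α ≠ 0 → β ≠ 0 →
      Relation.ReflTransGen R (α • S.s + β • S.s') (S.s + S.s') := by
    intro α β hα hβ
    have key : ∀ a b : F, a ≠ 0 → b ≠ 0 → Q (a • S.s + b • S.s') ≠ 0 := fun a b h1 h2 => by
      rw [Q_comb, S.hs.left, S.hs.right, S.hs.pol]; simpa using mul_ne_zero h1 h2
    have mem : ∀ a b : F, a • S.s + b • S.s' ∈ L.W := fun a b =>
      add_mem (L.W.smul_mem _ S.smem) (L.W.smul_mem _ S.smem')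
    refine .head (b := (1 : F) • S.s + β • S.s')
      ⟨sub_mem (mem _ _) (mem _ _), ?_, mem _ _, mem _ _, key _ _ hα hβ, key _ _ one_ne_zero hβ⟩
      (.head (b := (1 : F) • S.s + (1 : F) • S.s') ⟨sub_mem (mem _ _) (mem _ _), ?_, mem _ _, mem _ _,
        key _ _ one_ne_zero hβ, key _ _ one_ne_zero one_ne_zero⟩ (by rw [one_smul, one_smul]))
    · rw [show (1 : F) • S.s + β • S.s' - (α • S.s + β • S.s') = (1 - α) • S.s by module, Q_smul,
        S.hs.left, mul_zero]
    · rw [show (1 : F) • S.s + (1 : F) • S.s' - ((1 : F) • S.s + β • S.s') = (1 - β) • S.s' by module,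
        Q_smul, S.hs.right, mul_zero]
  have hto : ∀ x, x ∈ L.W → Q x ≠ 0 → Relation.ReflTransGen R x (S.s + S.s') := by
    intro x hx hqx
    have hr := S.rest_mem hx
    set r := x - polar Q S.s' x • S.s - polar Q S.s x • S.s' with hrdef
    have hx' : x = polar Q S.s' x • S.s + polar Q S.s x • S.s' + r := by rw [hrdef]; module
    set α := polar Q S.s' x
    set β := polar Q S.s x
    have mem : ∀ a b : F, a • S.s + b • S.s' + r ∈ L.W := fun a b =>
      add_mem (add_mem (L.W.smul_mem _ S.smem) (L.W.smul_mem _ S.smem')) hr.1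
    have mem' : ∀ a b : F, a • S.s + b • S.s' ∈ L.W := fun a b =>
      add_mem (L.W.smul_mem _ S.smem) (L.W.smul_mem _ S.smem')
    have hQ : ∀ a b : F, Q (a • S.s + b • S.s' + r) = a * b + Q r := fun a b =>
      S.hs.Q_comb_core a b hr.2
    by_cases hr0 : Q r = 0
    · rw [hx', hQ, hr0, add_zero] at hqx
      obtain ⟨h1, h2⟩ := mul_ne_zero_iff.1 hqx
      refine .head (b := α • S.s + β • S.s') ⟨sub_mem (mem' _ _) hx, ?_, hx, mem' _ _,
        (by rw [hx', hQ, hr0, add_zero]; exact hqx),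
        (by rw [Q_comb, S.hs.left, S.hs.right, S.hs.pol]; simpa using hqx)⟩ (hPlane α β h1 h2)
      rw [hx', show α • S.s + β • S.s' - (α • S.s + β • S.s' + r) = -r by abel,
        QuadraticMap.map_neg, hr0]
    · refine .head (b := (0 : F) • S.s + β • S.s' + r) ⟨sub_mem (mem _ _) hx, ?_, hx, mem _ _, hqx,
        (by rw [hQ]; simpa using hr0)⟩
        (.head (b := (0 : F) • S.s + (0 : F) • S.s' + r) ⟨sub_mem (mem _ _) (mem _ _), ?_, mem _ _,
          mem _ _, (by rw [hQ]; simpa using hr0), (by rw [hQ]; simpa using hr0)⟩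
        (.head (b := (1 : F) • S.s + (-Q r) • S.s') ⟨sub_mem (mem' _ _) (mem _ _), ?_, mem _ _,
          mem' _ _, (by rw [hQ]; simpa using hr0),
          (by rw [Q_comb, S.hs.left, S.hs.right, S.hs.pol]; simpa using hr0)⟩
          (hPlane 1 (-Q r) one_ne_zero (neg_ne_zero.2 hr0))))
      · rw [hx', show (0 : F) • S.s + β • S.s' + r - (α • S.s + β • S.s' + r) = (-α) • S.s by module,
          Q_smul, S.hs.left, mul_zero]
      · rw [show (0 : F) • S.s + (0 : F) • S.s' + r - ((0 : F) • S.s + β • S.s' + r) = (-β) • S.s' by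
          module, Q_smul, S.hs.right, mul_zero]
      · rw [show (1 : F) • S.s + (-Q r) • S.s' - ((0 : F) • S.s + (0 : F) • S.s' + r) =
            (1 : F) • S.s + (-Q r) • S.s' + -r by module, S.hs.Q_comb_core _ _ (neg_mem hr.2),
          QuadraticMap.map_neg]
        ring
  have hrev : ∀ {x y}, Relation.ReflTransGen R x y → Relation.ReflTransGen R y x := by
    intro x y h
    induction h with
    | refl => exact .refl
    | tail _ huw ih => exact ih.head (hsym huw)
  exact hRP ((hto z₀ hz₀ hq₀).trans (hrev (hto z hz hq))) h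

/-- The Gauss decomposition. -/
theorem good_all {a b : V} (ha : a ∈ L.W) (hb : b ∈ L.W) (hd : delta D a b ≠ 0) :
    S.Good D H a b := by
  by_cases hq : Q b = 0
  · exact S.good_right D H ha hb hq hd
  set β := (Q b)⁻¹ • b with hβ
  have hβm : β ∈ L.W := L.W.smul_mem _ hb
  have hkey : ∀ x ∈ L.W, delta D x b = Q b * Q (x - β) := by
    intro x hx
    rw [delta_eq D hx hb, hβ, sub_eq_add_neg x, Q_add, QuadraticMap.map_neg, Q_smul, polar_neg_right,
      polar_smul_right, smul_eq_mul]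
    field_simp
    ring
  have h0 : S.Good D H 0 b :=
    ⟨1, one_mem _, 0, L.W.zero_mem, b, hb, by rw [D.x_zero, one_mul, mul_one, mul_one]⟩
  have := S.connected (fun z => S.Good D H (z + β) b) ?_ (z₀ := -β) (z := a - β) (neg_mem hβm) ?_
    (sub_mem ha hβm) ?_ (by rwa [neg_add_cancel])
  · rwa [sub_add_cancel] at this
  · intro z c hz hc hqc hne hgood
    rw [add_assoc]
    refine S.good_step D H (add_mem hz hβm) hb hc hqc hgood ?_
    rw [hkey _ (add_mem hc (add_mem hz hβm)), ← add_assoc, add_sub_cancel_right]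
    exact mul_ne_zero hq hne
  · rw [QuadraticMap.map_neg, hβ, Q_smul]
    exact mul_ne_zero (mul_ne_zero (inv_ne_zero hq) (inv_ne_zero hq)) hq
  · exact fun h1 => hd (by rw [hkey a ha, h1, mul_zero])

end Sub

end Cfsg.Agent.Lib.OrthMult
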