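import Cfsg.Agent.Lib.OrthMult.Cover

/-!
The hypotheses of the multiplier theorems for the coordinate forms.
-/

set_option autoImplicit false

namespace Cfsg.Agent.Lib.OrthMult

open Module QuadraticMap Cfsg.Agent.Lib.Forms Cfsg.Agent.Lib.OrthOmega

universe u

variable {F : Type u} [Field F] [Fintype F] {V : Type u} [AddCommGroup V] [Module F V]
variable {Q : QuadraticForm F V}

theorem eq_zero_or_one (h : Fintype.card F = 2) (x : F) : x = 0 ∨ x = 1 := by
  classical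
  have h1 : ({0, 1} : Finset F) = Finset.univ :=
    Finset.eq_univ_of_card _ (by rw [h]; exact Finset.card_pair zero_ne_one)
  have h2 : x ∈ ({0, 1} : Finset F) := h1 ▸ Finset.mem_univ x
  simpa using h2

theorem eq_zero_or_unit (h : Fintype.card F = 3) (h2 : (2 : F) ≠ 0) (x : F) :
    x = 0 ∨ x = 1 ∨ x = -1 := by
  classical
  have hne : (1 : F) ≠ -1 := fun e => h2 (by linear_combination e)
  have h1 : ({0, 1, -1} : Finset F) = Finset.univ := by
    refine Finset.eq_univ_of_card _ ?_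
    rw [h, Finset.card_eq_three]
    exact ⟨0, 1, -1, zero_ne_one, (neg_ne_zero.2 one_ne_zero).symm, hne, rfl⟩
  have h3 : x ∈ ({0, 1, -1} : Finset F) := h1 ▸ Finset.mem_univ x
  simpa using h3

/-- Generic, from the number of elements of the field and the dimension. -/
theorem generic_of_card (hQ : Nondeg Q) (hn : 7 ≤ finrank F V)
    (h3 : Fintype.card F = 3 → 8 ≤ finrank F V)
    (h2 : Fintype.card F = 2 → 8 ≤ finrank F V ∧ (10 ≤ finrank F V ∨
      ∀ (L : Level Q) (t t' r r' : V) (h : L.In t t') (h' : (Level.inner h).In r r'),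
        ∀ u ∈ (Level.inner h').W, Q u = 0 → u = 0)) : Generic Q := by
  classical
  refine ⟨hQ, hn, ?_⟩
  by_cases hμ : ∃ μ : F, μ ≠ 0 ∧ μ * μ ≠ 1
  · exact Or.inl hμ
  push Not at hμ
  have hle : Fintype.card F ≤ 3 := by
    have hsub : (Finset.univ : Finset F) ⊆ {0, 1, -1} := fun x _ => by
      rcases eq_or_ne x 0 with h | h
      · simp [h]
      · rcases mul_self_eq_one_iff.1 (hμ x h) with e | e <;> simp [e]
    exact (Finset.card_le_card hsub).trans Finset.card_le_three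
  have hge : 2 ≤ Fintype.card F := Fintype.one_lt_card
  rcases (show Fintype.card F = 2 ∨ Fintype.card F = 3 by omega) with h | h
  · exact Or.inr (Or.inr ⟨eq_zero_or_one h, h2 h⟩)
  · have h20 : (2 : F) ≠ 0 := two_ne_zero_of_odd (by rw [h]; decide)
    exact Or.inr (Or.inl ⟨eq_zero_or_unit h h20, h20, h3 h⟩)

omit [Fintype F] in
theorem hasNeg_iff [Finite F] [FiniteDimensional F V] (hQ : Nondeg Q) (h5 : 5 ≤ finrank F V) :
    HasNeg Q ↔ ∃ g ∈ commutator (orth Q), ∀ x, g.1 x = -x := by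
  rw [commutator_eq_EG hQ h5]
  rfl

theorem not_hasNeg_of_odd [FiniteDimensional F V] (hQ : Nondeg Q) (h5 : 5 ≤ finrank F V)
    (hodd : Odd (finrank F V)) (h2 : (2 : F) ≠ 0) : ¬ HasNeg Q := by
  rw [hasNeg_iff hQ h5]
  rintro ⟨g, hg, hneg⟩
  have hd : LinearEquiv.det g.1 = 1 := by
    have hle : commutator (orth Q) ≤ (LinearEquiv.det.comp (orth Q).subtype).ker :=
      Abelianization.commutator_subset_ker _
    exact hle hg
  have h1 : (g.1 : V →ₗ[F] V) = -LinearMap.id := LinearMap.ext fun x => hneg x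
  have h3 := congrArg Units.val hd
  rw [LinearEquiv.coe_det, h1, Units.val_one, ← neg_one_smul F LinearMap.id, LinearMap.det_smul,
    LinearMap.det_id, mul_one, hodd.neg_one_pow] at h3
  exact h2 (by linear_combination -h3)

theorem hasNeg_iff_four {ι : Type} [Fintype ι] [DecidableEq ι] {Q : QuadraticForm F (ι → F)}
    (hQ : Nondeg Q) (h2 : (2 : F) ≠ 0) {m e k : ℕ} (hm : 3 ≤ m)
    (hn : finrank F (ι → F) = 2 * m)
    (hlev : levelCard Q (1 : F) = k * Fintype.card F ^ e) (hk : Even k)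
    (hq : Odd (Fintype.card F)) : HasNeg Q ↔ 4 ∣ k := by
  have h5 : 5 ≤ finrank F (ι → F) := by omega
  rw [hasNeg_iff hQ h5, neg_one_mem_commutator_iff hQ h2 (by omega) ⟨m, by omega⟩ one_ne_zero]
  obtain ⟨j, rfl⟩ := hk
  rw [hlev, ← two_mul, mul_assoc, Nat.mul_div_cancel_left _ two_pos, Nat.even_mul,
    show 4 = 2 * 2 by rfl, Nat.mul_dvd_mul_iff_left two_pos, ← even_iff_two_dvd]
  exact ⟨fun h => h.resolve_right (Nat.not_even_iff_odd.mpr hq.pow), Or.inl⟩

/-- Over the field with two elements the minus space of dimension eight has no four pairs. -/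
theorem no_four {a b : F} (hab : ∀ z₁ z₂ : F, z₁ ^ 2 + a * z₁ * z₂ + b * z₂ ^ 2 = 0 → z₁ = 0 ∧ z₂ = 0)
    (L : Level (qMinus 3 a b)) (t t' r r' : (Fin 3 ⊕ Fin 3) ⊕ Fin 2 → F) (h : L.In t t')
    (h' : (Level.inner h).In r r') :
    ∀ u ∈ (Level.inner h').W, qMinus 3 a b u = 0 → u = 0 := by
  intro u hu hqu
  by_contra h0
  obtain ⟨u', h''⟩ := (Level.inner h').exists_in_of_singular hu h0 hqu
  let f : (Fin 4 ⊕ Fin 4 → F) →ₗ[F] ((Fin 3 ⊕ Fin 3) ⊕ Fin 2 → F) :=
    { toFun := fun v => v (.inl 0) • L.e + v (.inr 0) • L.f + (v (.inl 1) • t + v (.inr 1) • t' +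
        (v (.inl 2) • r + v (.inr 2) • r' + (v (.inl 3) • u + v (.inr 3) • u')))
      map_add' := fun v w => by simp only [Pi.add_apply]; module
      map_smul' := fun c v => by
        simp only [Pi.smul_apply, smul_eq_mul, RingHom.id_apply]; module }
  have hf : ∀ v, qMinus 3 a b (f v) = qPlus 4 v := by
    intro v
    have m3 : v (.inl 3) • u + v (.inr 3) • u' ∈ (Level.inner h').W :=
      add_mem (Submodule.smul_mem _ _ h''.mem) (Submodule.smul_mem _ _ h''.mem')
    have m2 : v (.inl 2) • r + v (.inr 2) • r' + (v (.inl 3) • u + v (.inr 3) • u') ∈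
        (Level.inner h).W :=
      add_mem (add_mem (Submodule.smul_mem _ _ h'.mem) (Submodule.smul_mem _ _ h'.mem')) m3.1
    have m1 : v (.inl 1) • t + v (.inr 1) • t' + (v (.inl 2) • r + v (.inr 2) • r' +
        (v (.inl 3) • u + v (.inr 3) • u')) ∈ L.W :=
      add_mem (add_mem (Submodule.smul_mem _ _ h.mem) (Submodule.smul_mem _ _ h.mem')) m2.1
    show qMinus 3 a b (v (.inl 0) • L.e + v (.inr 0) • L.f + _) = _
    rw [L.hp.Q_comb_core _ _ (L.le m1), h.hp.Q_comb_core _ _ m2.2, h'.hp.Q_comb_core _ _ m3.2,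
      Q_comb, h''.hp.left, h''.hp.right, h''.hp.pol, qPlus_apply, Fin.sum_univ_four]
    ring
  have hinj : Function.Injective f := injective_of_isometry (qPlus_nondeg 4) f hf
  have hfr : finrank F (Fin 4 ⊕ Fin 4 → F) = finrank F ((Fin 3 ⊕ Fin 3) ⊕ Fin 2 → F) := by
    rw [finrank_fun, finrank_fun]; simp
  let e : (qPlus (F := F) 4).IsometryEquiv (qMinus 3 a b) :=
    { LinearMap.linearEquivOfInjective f hinj hfr with map_app' := fun v => hf v }
  have hc : levelCard (qPlus (F := F) 4) (1 : F) = levelCard (qMinus 3 a b) (1 : F) := card_level_congr ⟨e⟩ 1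
  rw [levelCard_qPlus 4 one_ne_zero, levelCard_qMinus 3 hab one_ne_zero,
    show (4 : ℕ) - 1 = 3 from rfl, show (3 : ℕ) + 1 = 4 from rfl] at hc
  have hq : 1 ≤ Nat.card F := Nat.card_pos
  have h4 := Nat.eq_of_mul_eq_mul_right (pow_pos (by omega : 0 < Nat.card F) 3) hc
  have h5 : 1 ≤ Nat.card F ^ 4 := Nat.one_le_pow _ _ hq
  omega

theorem four_dvd_pow_sub_one {q l : ℕ} (hq : Odd q) (hl : Even l) : 4 ∣ q ^ l - 1 := by
  obtain ⟨j, rfl⟩ := hl
  obtain ⟨i, hi⟩ := hq.pow (n := j)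
  rw [pow_add, hi, show (2 * i + 1) * (2 * i + 1) = 4 * (i * i + i) + 1 by ring, Nat.add_sub_cancel]
  exact dvd_mul_right 4 _

theorem not_four_dvd_pow_add_one {q l : ℕ} (hq : Odd q) (hl : Even l) : ¬ 4 ∣ q ^ l + 1 := by
  obtain ⟨j, rfl⟩ := hl
  obtain ⟨i, hi⟩ := hq.pow (n := j)
  rw [pow_add, hi, show (2 * i + 1) * (2 * i + 1) = 4 * (i * i + i) + 1 by ring]
  omega

theorem gcd_two_or_one {q n : ℕ} (h : Even n ↔ Odd q) :
    (Odd q → Nat.gcd 2 n = 2) ∧ (¬ Odd q → Nat.gcd 2 n = 1 ∧ Nat.gcd 4 n = 1) := by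
  refine ⟨fun hq => Nat.gcd_eq_left (even_iff_two_dvd.mp (h.2 hq)), fun hq => ?_⟩
  have hn : ¬ 2 ∣ n := fun hd => hq (h.1 (even_iff_two_dvd.mpr hd))
  have hc : Nat.Coprime 2 n := (Nat.Prime.coprime_iff_not_dvd Nat.prime_two).mpr hn
  exact ⟨hc, Nat.Coprime.pow_left 2 hc⟩

end Cfsg.Agent.Lib.OrthMult
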