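import Cfsg.Agent.Lib.OrthMult.Gauss

/-!
The kernel elements generated by the two root groups of a level already lie in the level below.
-/

set_option autoImplicit false

namespace Cfsg.Agent.Lib.OrthMult

open QuadraticMap Cfsg.Agent.Lib.Forms Cfsg.Agent.Lib.OrthOmega
open Cfsg.Agent.Lib.Schur.SteinbergSL2

variable {F : Type*} [Field F] {V : Type*} [AddCommGroup V] [Module F V]
variable {Q : QuadraticForm F V} {E : Type*} [Group E]
variable {π : E →* orth Q} {L : Level Q}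

/-- The group generated by the two families of a level. -/
def span (D : Data π L) : Subgroup E :=
  Subgroup.closure (D.X '' (L.W : Set V) ∪ D.Y '' (L.W : Set V))

theorem coef_act_y_e (D : Data π L) {b : V} (hb : b ∈ L.W) :
    act π (D.Y b) L.e = L.e + b - Q b • L.f := by
  rw [D.act_y hb]; exact L.symm.sg_e_f hb

theorem level_zero {v : V} (hv : v ∈ L.W) {c d : F} (h : v = c • L.e + d • L.f) : v = 0 :=
  L.ndW v hv fun y hy => by
    rw [h, polar_add_left, polar_smul_left, polar_smul_left, L.perp_e hy, L.perp_f hy]; simp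

theorem coef_x (D : Data π L) {u : V} (hu : u ∈ L.W) {w : V} (hw : w ∈ L.W) (α β : F) :
    polar Q L.f (act π (D.X (-u)) (α • L.e + w + β • L.f)) = α + polar Q u w - β * Q u := by
  have hn := neg_mem hu
  rw [act_add, act_add, act_smul, act_smul, D.act_x hn, D.act_x hn, D.act_x hn, L.sg_e_fix hn,
    L.sg_e_W hn hw, L.sg_e_f hn, QuadraticMap.map_neg, polar_neg_left]
  simp only [polar_add_right, polar_sub_right, polar_smul_right, L.hp.pol', L.hp.pol_ff, L.perp_f hn,
    L.perp_f hw, smul_eq_mul]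
  ring

namespace Sub

variable [Finite F] (S : Sub L) (D : Data π L) (H : Ext π)

/-- The elements in the union of the chosen cosets. -/
def InZ (g : E) : Prop :=
  ∃ a ∈ L.W, ∃ b ∈ L.W, ∃ m ∈ S.mid D H, ∃ w ∈ L.W, g = D.X a * D.Y b * m * D.X w

theorem inZ_one : S.InZ D H 1 :=
  ⟨0, L.W.zero_mem, 0, L.W.zero_mem, 1, one_mem _, 0, L.W.zero_mem, by
    simp [D.x_zero, D.y_zero]⟩

theorem inZ_x {c : V} (hc : c ∈ L.W) {g : E} (h : S.InZ D H g) : S.InZ D H (D.X c * g) := by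
  obtain ⟨a, ha, b, hb, m, hm, w, hw, rfl⟩ := h
  refine ⟨c + a, add_mem hc ha, b, hb, m, hm, w, hw, ?_⟩
  rw [D.x_add _ hc _ ha]; group

theorem inZ_low {d : E} (hd : d ∈ S.low D) {g : E} (h : S.InZ D H g) : S.InZ D H (d * g) := by
  obtain ⟨a, ha, b, hb, m, hm, w, hw, rfl⟩ := h
  have hA := S.low_adm D hd
  refine ⟨_, hA.w_mem a ha, _, hA.w_mem b hb, d * m, mul_mem (S.low_le_mid D H hd) hm, w, hw, ?_⟩
  have h1 : d * D.X a = D.X (act π d a) * d := by rw [mul_x D hA ha, one_smul]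
  have h2 : d * D.Y b = D.Y (act π d b) * d := by rw [mul_y D hA hb, inv_one, one_smul]
  rw [show d * (D.X a * D.Y b * m * D.X w) = d * D.X a * D.Y b * m * D.X w by group, h1,
    mul_assoc (D.X (act π d a)) d, h2]
  group

theorem inZ_y_s (μ : F) {g : E} (h : S.InZ D H g) : S.InZ D H (D.Y (μ • S.s) * g) := by
  obtain ⟨a, ha, b, hb, m, hm, w₀, hw₀, rfl⟩ := h
  set c := μ • S.s with hc
  have hcm : c ∈ L.W := L.W.smul_mem _ S.smem
  have hcq : Q c = 0 := by rw [hc, Q_smul, S.hs.left, mul_zero]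
  set x := act π (D.X a * D.Y b) L.e with hx
  set wx := b - Q b • a with hwx
  have hwm : wx ∈ L.W := sub_mem hb (L.W.smul_mem _ ha)
  have hxe : x = delta D a b • L.e + wx + (-Q b) • L.f := by
    rw [hx, delta_eq D ha hb, act_xy_e D ha hb, hwx]; module
  by_cases hd : delta D a b = 0
  swap
  · obtain ⟨m', hm', a', ha', b', hb', e⟩ := S.good_all D H ha hb hd
    obtain ⟨w', hw', ew⟩ := S.x_mul D H hm ha'
    refine ⟨0, L.W.zero_mem, c + b', add_mem hcm hb', m' * m, mul_mem hm' hm, w' + w₀,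
      add_mem hw' hw₀, ?_⟩
    rw [D.x_zero, one_mul, e, D.y_add _ hcm _ hb', D.x_add _ hw' _ hw₀,
      show D.Y c * (D.Y b' * m' * D.X a' * m * D.X w₀) = D.Y c * D.Y b' * m' * (D.X a' * m) * D.X w₀ by
        group, ew]
    group
  rw [hd, zero_smul, zero_add] at hxe
  set β' := -Q b - polar Q c wx with hβ'
  have hy : act π (D.Y c) x = (0 : F) • L.e + wx + β' • L.f := by
    rw [hxe, act_add, act_smul, D.act_y hcm, D.act_y hcm,
      show (sg Q L.f c).1 wx = wx - polar Q c wx • L.f from L.symm.sg_e_W hcm hwm,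
      show (sg Q L.f c).1 L.f = L.f from L.symm.sg_e_fix hcm, hβ']
    module
  by_cases hex : ∃ u ∈ L.W, polar Q S.s u = 0 ∧ polar Q u wx - β' * Q u ≠ 0
  · obtain ⟨u, hu, hsu, hne⟩ := hex
    have hd₁ : delta D (-u) c ≠ 0 := by
      rw [delta_eq D (neg_mem hu) hcm, hcq, hc, polar_neg_left, polar_smul_right,
        (polar_comm Q u S.s).trans hsu]
      simp
    obtain ⟨m₁, hm₁, u₁, hu₁, c₁, hc₁, e₁⟩ := S.good_all D H (neg_mem hu) hcm hd₁
    obtain ⟨k, hk⟩ := S.mid_adm D H hm₁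
    have hd₂ : delta D (u₁ + a) b ≠ 0 := by
      intro h0
      apply hne
      have h1 : polar Q L.f (act π (D.X (-u) * D.Y c) x) = k * delta D (u₁ + a) b := by
        rw [e₁, hx, act_mul, act_mul, delta, D.x_add _ hu₁ _ ha, mul_assoc (D.X u₁), act_mul π (D.X u₁),
          D.act_y hc₁]
        set z := act π (D.X u₁) (act π (D.X a * D.Y b) L.e)
        have h2 : polar Q L.f ((sg Q L.f c₁).1 (act π m₁ z)) = polar Q L.f (act π m₁ z) := by
          have hfx : (sg Q L.f c₁).1 L.f = L.f := L.symm.sg_e_fix hc₁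
          conv_lhs => arg 2; rw [← hfx]
          exact orth_polar (sg Q L.f c₁).2 _ _
        have hf : L.f = k • act π m₁ L.f := by
          rw [hk.f_eq, smul_smul, mul_inv_cancel₀ hk.ne_zero, one_smul]
        rw [h2]
        conv_lhs => rw [hf, polar_smul_left, polar_act]
        rfl
      rw [act_mul, hy, coef_x D hu hwm, zero_add, h0, mul_zero] at h1
      exact h1
    obtain ⟨m₂, hm₂, u₂, hu₂, c₂, hc₂, e₂⟩ := S.good_all D H (add_mem hu₁ ha) hb hd₂
    obtain ⟨w', hw', ew⟩ := S.x_mul D H hm hu₂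
    refine ⟨u, hu, c₁ + k⁻¹ • act π m₁ c₂, add_mem hc₁ (L.W.smul_mem _ (hk.w_mem _ hc₂)),
      m₁ * m₂ * m, mul_mem (mul_mem hm₁ hm₂) hm, w' + w₀, add_mem hw' hw₀, ?_⟩
    have hYc : D.Y c = D.X u * (D.Y c₁ * m₁ * D.X u₁) := by
      rw [← e₁, D.x_neg hu]; group
    rw [hYc, D.y_add _ hc₁ _ (L.W.smul_mem _ (hk.w_mem _ hc₂)), D.x_add _ hw' _ hw₀,
      show D.X u * (D.Y c₁ * m₁ * D.X u₁) * (D.X a * D.Y b * m * D.X w₀) =
        D.X u * D.Y c₁ * m₁ * (D.X u₁ * D.X a * D.Y b) * m * D.X w₀ by group,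
      ← D.x_add _ hu₁ _ ha, e₂,
      show D.X u * D.Y c₁ * m₁ * (D.Y c₂ * m₂ * D.X u₂) * m * D.X w₀ =
        D.X u * D.Y c₁ * (m₁ * D.Y c₂) * m₂ * (D.X u₂ * m) * D.X w₀ by group, ew, mul_y D hk hc₂]
    group
  -- the point is the first vector of the pair
  push Not at hex
  have hU : S.u ∈ S.level.W := ⟨S.umem, S.su, S.su'⟩
  have hK : S.k ∈ S.level.W := ⟨S.kmem, S.sk, S.sk'⟩
  have hβ0 : β' = 0 := by
    have h1 := hex _ S.umem S.su
    have h2 := hex _ S.kmem S.sk
    have h3 := hex _ (add_mem S.umem S.kmem) (by rw [polar_add_right, S.su, S.sk, add_zero])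
    rw [polar_add_left, Q_add] at h3
    have : polar Q S.u S.k * β' = 0 := by linear_combination h1 + h2 - h3
    exact (mul_eq_zero.1 this).resolve_left S.uk
  have hsw : polar Q S.s wx = 0 := by
    have := hex _ S.smem S.hs.pol_ee
    rwa [hβ0, zero_mul, sub_zero] at this
  have hwx' : wx = polar Q S.s' wx • S.s := by
    refine sub_eq_zero.1 (L.ndW _ (sub_mem hwm (L.W.smul_mem _ S.smem)) fun y hy' => ?_)
    have hr := S.rest_mem hy'
    set r := y - polar Q S.s' y • S.s - polar Q S.s y • S.s' with hrdef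
    have h1 := hex r hr.1 hr.2.1
    rw [hβ0, zero_mul, sub_zero] at h1
    have h2 : y = polar Q S.s' y • S.s + polar Q S.s y • S.s' + r := by rw [hrdef]; module
    rw [h2]
    simp only [polar_sub_left, polar_add_right, polar_smul_left, polar_smul_right, S.hs.pol_ee,
      S.hs.pol, (polar_comm Q wx S.s).trans hsw, polar_comm Q wx S.s', (polar_comm Q wx r).trans h1,
      (show polar Q S.s r = 0 from hr.2.1), smul_eq_mul]
    ring
  have hcw : polar Q c wx = 0 := by rw [hc, polar_smul_left, hsw, smul_zero]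
  have hQb : Q b = 0 := by
    rw [hβ', hcw, sub_zero, neg_eq_zero] at hβ0
    exact hβ0
  set κ := polar Q S.s' wx with hκdef
  have hxs : x = κ • S.s := by rw [hxe, hQb, neg_zero, zero_smul, add_zero, hwx']
  have hκ : κ ≠ 0 := by
    intro h0
    rw [h0, zero_smul] at hxs
    have h1 := congrArg (act π (D.X a * D.Y b)⁻¹) hxs
    rw [hx, act_inv_act, act_zero] at h1
    exact L.hp.left_ne h1
  have hs's : polar Q S.s' S.s = 1 := S.hs.pol'
  have himg : act π (D.X S.s') (κ • S.s) = κ • (S.s - L.e) := by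
    rw [act_smul, D.act_x S.smem', L.sg_e_W S.smem' S.smem, hs's, one_smul]
  have hd₃ : delta D (S.s' + a) b ≠ 0 := by
    rw [delta, D.x_add _ S.smem' _ ha, mul_assoc, act_mul, ← hx, hxs, himg, polar_smul_right,
      polar_sub_right, L.perp_f S.smem, L.hp.pol']
    simpa using hκ
  obtain ⟨m₃, hm₃, a₃, ha₃, b₃, hb₃, e₃⟩ := S.good_all D H (add_mem S.smem' ha) hb hd₃
  obtain ⟨k, hk⟩ := S.mid_adm D H hm₃
  have hb₃' : b₃ = -S.s := by
    have h1 : act π (D.X (S.s' + a) * D.Y b) L.e = κ • (S.s - L.e) := by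
      rw [D.x_add _ S.smem' _ ha, mul_assoc, act_mul, ← hx, hxs, himg]
    rw [e₃, act_mul, act_mul, D.act_x ha₃, L.sg_e_fix ha₃, hk.e_eq, act_smul,
      coef_act_y_e D hb₃] at h1
    have h2 : k = -κ := by
      have h := congrArg (polar Q L.f) h1
      simp only [polar_smul_right, polar_sub_right, polar_add_right, L.hp.pol', L.hp.pol_ff,
        L.perp_f hb₃, L.perp_f S.smem, smul_eq_mul] at h
      linear_combination h
    rw [h2] at h1
    have h3 : (-κ) • (b₃ + S.s) = (-κ * Q b₃) • L.f := by linear_combination (norm := module) h1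
    have h4 : b₃ + S.s = (0 : F) • L.e + Q b₃ • L.f := by
      have := congrArg (fun v => (-κ)⁻¹ • v) h3
      simp only [smul_smul] at this
      rw [inv_mul_cancel₀ (neg_ne_zero.2 hκ), one_smul, ← mul_assoc,
        inv_mul_cancel₀ (neg_ne_zero.2 hκ), one_mul] at this
      rw [this, zero_smul, zero_add]
    exact eq_neg_of_add_eq_zero_left (level_zero (add_mem hb₃ S.smem) h4)
  set n' := wElt (S.swap.fam D) true 1 with hn'
  have hn'e : n' = D.X (-S.s') * D.Y (-S.s) * D.X (-S.s') := by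
    rw [hn', wElt, Bool.not_true, inv_one]
    simp only [fam, Sub.swap, one_smul, neg_smul]
  have hconj : D.Y c * n' = n' * D.X (μ • S.s') := by
    have h := (S.swap.fam_rel D H).conj true 1 (-μ) one_ne_zero
    simp only [inv_one, one_pow, one_mul, neg_neg, Bool.not_true] at h
    rw [← hn'] at h
    simp only [fam, Sub.swap, neg_smul, neg_neg] at h
    rw [hc, ← h]; group
  obtain ⟨w', hw', ew⟩ := S.x_mul D H hm₃ (add_mem (L.W.smul_mem μ S.smem') S.smem')
  obtain ⟨w₁, hw₁, ew₁⟩ := S.x_mul D H hm (ha₃)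
  obtain ⟨w₂, hw₂, ew₂⟩ := S.x_mul D H (mul_mem hm₃ hm)
    (add_mem (add_mem (neg_mem S.smem') (L.W.smul_mem μ S.smem')) S.smem')
  refine ⟨-S.s', neg_mem S.smem', -S.s, neg_mem S.smem, m₃ * m, mul_mem hm₃ hm, w₂ + (w₁ + w₀),
    add_mem hw₂ (add_mem hw₁ hw₀), ?_⟩
  have hz : D.X a * D.Y b = D.X (-S.s') * (D.Y b₃ * m₃ * D.X a₃) := by
    rw [← e₃, D.x_add _ S.smem' _ ha, D.x_neg S.smem']; group
  have hn2 : D.X (-S.s') * D.Y (-S.s) = n' * D.X S.s' := by
    rw [hn'e, D.x_neg S.smem']; group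
  rw [hz, hb₃', D.x_add _ hw₂ _ (add_mem hw₁ hw₀), D.x_add _ hw₁ _ hw₀,
    show D.Y c * (D.X (-S.s') * (D.Y (-S.s) * m₃ * D.X a₃) * m * D.X w₀) =
      D.Y c * (D.X (-S.s') * D.Y (-S.s)) * m₃ * (D.X a₃ * m) * D.X w₀ by group, hn2, ew₁,
    ← mul_assoc (D.Y c), hconj, hn'e,
    show D.X (-S.s') * D.Y (-S.s) * D.X (-S.s') * D.X (μ • S.s') * D.X S.s' * m₃ * (m * D.X w₁) *
      D.X w₀ = D.X (-S.s') * D.Y (-S.s) * (D.X (-S.s') * D.X (μ • S.s') * D.X S.s' * (m₃ * m)) *
        (D.X w₁ * D.X w₀) by group,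
    ← D.x_add _ (neg_mem S.smem') _ (L.W.smul_mem μ S.smem'),
    ← D.x_add _ (add_mem (neg_mem S.smem') (L.W.smul_mem μ S.smem')) _ S.smem', ew₂]
  simp only [D.x_neg S.smem']
  group

theorem inZ_y_sing {c : V} (hc : c ∈ L.W) (hq : Q c = 0) {g : E} (h : S.InZ D H g) :
    S.InZ D H (D.Y c * g) := by
  rcases eq_or_ne c 0 with rfl | h0
  · rwa [D.y_zero, one_mul]
  obtain ⟨d, hd, μ, hμ, he⟩ := S.exists_move D hc h0 hq
  have h1 : d * D.Y c = D.Y (μ • S.s) * d := by
    rw [mul_y D (S.low_adm D hd) hc, inv_one, one_smul, he]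
  rw [show D.Y c * g = d⁻¹ * (D.Y (μ • S.s) * (d * g)) by
    rw [← mul_assoc (D.Y (μ • S.s)), ← h1]; group]
  exact S.inZ_low D H (inv_mem hd) (S.inZ_y_s D H μ (S.inZ_low D H hd h))

theorem inZ_y {c : V} (hc : c ∈ L.W) {g : E} (h : S.InZ D H g) : S.InZ D H (D.Y c * g) := by
  have hr := S.rest_mem hc
  set r := c - polar Q S.s' c • S.s - polar Q S.s c • S.s' with hrdef
  have h1m : polar Q S.s' c • S.s - (1 : F) • S.s ∈ L.W :=
    sub_mem (L.W.smul_mem _ S.smem) (L.W.smul_mem _ S.smem)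
  have h2m : (polar Q S.s c + Q r) • S.s' ∈ L.W := L.W.smul_mem _ S.smem'
  have h3m : (1 : F) • S.s + (-Q r) • S.s' + r ∈ L.W :=
    add_mem (add_mem (L.W.smul_mem _ S.smem) (L.W.smul_mem _ S.smem')) hr.1
  have e : c = (polar Q S.s' c • S.s - (1 : F) • S.s) + (polar Q S.s c + Q r) • S.s' +
      ((1 : F) • S.s + (-Q r) • S.s' + r) := by rw [hrdef]; module
  rw [e, D.y_add _ (add_mem h1m h2m) _ h3m, D.y_add _ h1m _ h2m, mul_assoc, mul_assoc]
  refine S.inZ_y_sing D H h1m ?_ (S.inZ_y_sing D H h2m ?_ (S.inZ_y_sing D H h3m ?_ h))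
  · rw [← sub_smul, Q_smul, S.hs.left, mul_zero]
  · rw [Q_smul, S.hs.right, mul_zero]
  · rw [S.hs.Q_comb_core _ _ hr.2, one_mul, neg_add_cancel]

include H in
/-- The kernel part generated by a level lies in the level below. -/
theorem ker_span_le {g : E} (hg : g ∈ span D) (hk : g ∈ π.ker) : g ∈ S.low D := by
  have hall : S.InZ D H g := by
    refine Subgroup.closure_induction_left (p := fun g _ => S.InZ D H g) (S.inZ_one D H) ?_ ?_ hg
    · rintro x (⟨v, hv, rfl⟩ | ⟨v, hv, rfl⟩) y _ ih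
      · exact S.inZ_x D H hv ih
      · exact S.inZ_y D H hv ih
    · rintro x (⟨v, hv, rfl⟩ | ⟨v, hv, rfl⟩) y _ ih
      · rw [← D.x_neg hv]; exact S.inZ_x D H (neg_mem hv) ih
      · rw [← D.y_neg hv]; exact S.inZ_y D H (neg_mem hv) ih
  obtain ⟨a, ha, b, hb, m, hm, w, hw, rfl⟩ := hall
  have hfix : ∀ x, act π (D.X a * D.Y b * m * D.X w) x = x := fun x => by
    rw [act, MonoidHom.mem_ker.1 hk]; rfl
  obtain ⟨c, hc⟩ := S.mid_adm D H hm
  have h1 := hfix L.e
  rw [act_mul, D.act_x hw, L.sg_e_fix hw, act_mul, hc.e_eq, act_smul] at h1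
  have hd : delta D a b ≠ 0 := by
    intro h0
    have := congrArg (polar Q L.f) h1
    rw [polar_smul_right, show polar Q L.f (act π (D.X a * D.Y b) L.e) = delta D a b from rfl, h0,
      L.hp.pol', smul_zero] at this
    exact zero_ne_one this
  obtain ⟨m', hm', a', ha', b', hb', e⟩ := S.good_all D H ha hb hd
  obtain ⟨w', hw', ew⟩ := S.x_mul D H hm ha'
  have hg' : D.X a * D.Y b * m * D.X w = D.Y b' * (m' * m) * D.X (w' + w) := by
    rw [e, D.x_add _ hw' _ hw, show D.Y b' * m' * D.X a' * m * D.X w =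
      D.Y b' * m' * (D.X a' * m) * D.X w by group, ew]
    group
  rw [hg'] at hk ⊢
  obtain ⟨c', hc'⟩ := S.mid_adm D H (mul_mem hm' hm)
  have hfix' : ∀ x, act π (D.Y b' * (m' * m) * D.X (w' + w)) x = x := fun x => by
    rw [act, MonoidHom.mem_ker.1 hk]; rfl
  have h2 := hfix' L.e
  rw [act_mul, D.act_x (add_mem hw' hw), L.sg_e_fix (add_mem hw' hw), act_mul, hc'.e_eq, act_smul,
    coef_act_y_e D hb'] at h2
  have hc1 : c' = 1 := by
    have := congrArg (polar Q L.f) h2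
    simpa [polar_smul_right, polar_sub_right, polar_add_right, L.hp.pol', L.hp.pol_ff,
      L.perp_f hb'] using this
  rw [hc1, one_smul] at h2
  have hb0 : b' = 0 := level_zero hb' (c := 0) (d := Q b') (by
    linear_combination (norm := module) h2)
  have h3 := hfix' L.f
  rw [hb0, D.y_zero, one_mul, act_mul, D.act_x (add_mem hw' hw), L.sg_e_f (add_mem hw' hw),
    act_sub, act_add, act_smul, hc'.e_eq, hc'.f_eq, hc1] at h3
  have hw0 : act π (m' * m) (w' + w) = 0 :=
    level_zero (hc'.w_mem _ (add_mem hw' hw)) (c := Q (w' + w)) (d := 0) (by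
      linear_combination (norm := module) h3)
  have hw00 : w' + w = 0 := by
    have := congrArg (act π (m' * m)⁻¹) hw0
    rwa [act_inv_act, act_zero] at this
  rw [hb0, hw00, D.y_zero, D.x_zero, one_mul, mul_one] at hk ⊢
  exact S.mid_ker D H (mul_mem hm' hm) hk

end Sub

end Cfsg.Agent.Lib.OrthMult
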