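import Cfsg.Agent.Lib.OrthMult.Rho
import Cfsg.Agent.Lib.Schur.Fusion

/-!
Levels of an orthogonal group inside a central extension: a hyperbolic pair, the part of its complement
that is used, and two families of lifts of the opposite root groups.
-/

set_option autoImplicit false

namespace Cfsg.Agent.Lib.OrthMult

open QuadraticMap Cfsg.Agent.Lib.Forms Cfsg.Agent.Lib.OrthOmega
open scoped commutatorElement

variable {F : Type*} [Field F] {V : Type*} [AddCommGroup V] [Module F V]

/-- A hyperbolic pair with a non-degenerate subspace orthogonal to it. -/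
structure Level (Q : QuadraticForm F V) where
  /-- the first vector -/
  e : V
  /-- the second vector -/
  f : V
  /-- the subspace -/
  W : Submodule F V
  hp : HypPair Q e f
  le : W ≤ core Q e f
  ndW : ∀ x ∈ W, (∀ y ∈ W, polar Q x y = 0) → x = 0

variable {Q : QuadraticForm F V} {E : Type*} [Group E]

namespace Level

variable (L : Level Q)

theorem perp_e {w : V} (hw : w ∈ L.W) : polar Q L.e w = 0 := (L.le hw).1

theorem perp_f {w : V} (hw : w ∈ L.W) : polar Q L.f w = 0 := (L.le hw).2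

theorem perp_e' {w : V} (hw : w ∈ L.W) : polar Q w L.e = 0 :=
  (polar_comm Q w L.e).trans (L.perp_e hw)

theorem perp_f' {w : V} (hw : w ∈ L.W) : polar Q w L.f = 0 :=
  (polar_comm Q w L.f).trans (L.perp_f hw)

theorem sp_e {w : V} (hw : w ∈ L.W) : SPair Q L.e w := ⟨L.hp.left, L.perp_e hw⟩

theorem sp_f {w : V} (hw : w ∈ L.W) : SPair Q L.f w := ⟨L.hp.right, L.perp_f hw⟩

/-- The level with the two vectors exchanged. -/
def symm : Level Q where
  e := L.f
  f := L.e
  W := L.W
  hp := L.hp.symm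
  le _ hx := ⟨(L.le hx).2, (L.le hx).1⟩
  ndW := L.ndW

/-- Orthogonal to the pair and to the subspace. -/
def Out (x : V) : Prop :=
  polar Q L.e x = 0 ∧ polar Q L.f x = 0 ∧ ∀ w ∈ L.W, polar Q w x = 0

theorem sg_e_fix {w : V} (hw : w ∈ L.W) : (sg Q L.e w).1 L.e = L.e := by
  rw [sg_apply (L.sp_e hw), L.hp.pol_ee, L.perp_e' hw]; simp

theorem sg_e_f {w : V} (hw : w ∈ L.W) : (sg Q L.e w).1 L.f = L.f + w - Q w • L.e := by
  rw [sg_apply (L.sp_e hw), L.hp.pol, L.perp_f' hw]; simp

theorem sg_e_W {w x : V} (hw : w ∈ L.W) (hx : x ∈ L.W) :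
    (sg Q L.e w).1 x = x - polar Q w x • L.e := by
  rw [sg_apply (L.sp_e hw), L.perp_e hx]; simp

theorem sg_e_out {w x : V} (hw : w ∈ L.W) (hx : L.Out x) : (sg Q L.e w).1 x = x := by
  rw [sg_apply (L.sp_e hw), hx.1, hx.2.2 w hw]; simp

theorem sg_inj {v w : V} (hv : v ∈ L.W) (hw : w ∈ L.W) (h : sg Q L.e v = sg Q L.e w) : v = w := by
  have h1 := congrArg (fun g : orth Q => g.1 L.f) h
  simp only [L.sg_e_f hv, L.sg_e_f hw] at h1
  have h2 : v - w = (Q v - Q w) • L.e := by
    linear_combination (norm := module) h1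
  have h3 : ∀ y ∈ L.W, polar Q (v - w) y = 0 := fun y hy => by
    rw [h2, polar_smul_left, L.perp_e hy, smul_zero]
  exact sub_eq_zero.1 (L.ndW _ (sub_mem hv hw) h3)

end Level

/-- The image of a vector. -/
def act (π : E →* orth Q) (g : E) (x : V) : V := (π g).1 x

section

variable (π : E →* orth Q) (L : Level Q)

theorem act_one (x : V) : act π 1 x = x := by rw [act, map_one]; rfl

theorem act_mul (g h : E) (x : V) : act π (g * h) x = act π g (act π h x) := by
  rw [act, map_mul]; rfl

theorem act_inv_act (g : E) (x : V) : act π g⁻¹ (act π g x) = x := by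
  rw [← act_mul, inv_mul_cancel, act_one]

theorem act_act_inv (g : E) (x : V) : act π g (act π g⁻¹ x) = x := by
  rw [← act_mul, mul_inv_cancel, act_one]

theorem act_add (g : E) (x y : V) : act π g (x + y) = act π g x + act π g y := map_add _ x y

theorem act_sub (g : E) (x y : V) : act π g (x - y) = act π g x - act π g y := map_sub _ x y

theorem act_neg (g : E) (x : V) : act π g (-x) = -act π g x := map_neg _ x

theorem act_zero (g : E) : act π g 0 = 0 := map_zero _

theorem act_smul (g : E) (c : F) (x : V) : act π g (c • x) = c • act π g x := map_smul _ c x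

theorem Q_act (g : E) (x : V) : Q (act π g x) = Q x := (π g).2 x

theorem polar_act (g : E) (x y : V) : polar Q (act π g x) (act π g y) = polar Q x y :=
  orth_polar (π g).2 x y

/-- An element scaling the pair, preserving the subspace and fixing what is orthogonal to all. -/
structure Adm (g : E) (c : F) : Prop where
  e_eq : act π g L.e = c • L.e
  f_eq : act π g L.f = c⁻¹ • L.f
  w_mem : ∀ w ∈ L.W, act π g w ∈ L.W
  out_eq : ∀ x, L.Out x → act π g x = x

variable {π L}

theorem Adm.ne_zero {g : E} {c : F} (h : Adm π L g c) : c ≠ 0 := by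
  rintro rfl
  have := congrArg (act π g⁻¹) h.e_eq
  rw [act_inv_act, zero_smul, act_zero] at this
  exact L.hp.left_ne this

theorem Adm.one : Adm π L 1 1 :=
  ⟨by rw [act_one, one_smul], by rw [act_one, inv_one, one_smul],
    fun w hw => by rwa [act_one], fun x _ => act_one π x⟩

theorem Adm.mul {g h : E} {c d : F} (hg : Adm π L g c) (hh : Adm π L h d) :
    Adm π L (g * h) (c * d) where
  e_eq := by rw [act_mul, hh.e_eq, act_smul, hg.e_eq, smul_smul, mul_comm d]
  f_eq := by rw [act_mul, hh.f_eq, act_smul, hg.f_eq, smul_smul, mul_inv, mul_comm d⁻¹]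
  w_mem w hw := by rw [act_mul]; exact hg.w_mem _ (hh.w_mem w hw)
  out_eq x hx := by rw [act_mul, hh.out_eq x hx, hg.out_eq x hx]

theorem Adm.of_eq {g h : E} {c : F} (hg : Adm π L g c) (e : π g = π h) : Adm π L h c := by
  have : ∀ x, act π h x = act π g x := fun x => by rw [act, act, e]
  exact ⟨by rw [this]; exact hg.e_eq, by rw [this]; exact hg.f_eq,
    fun w hw => by rw [this]; exact hg.w_mem w hw, fun x hx => by rw [this]; exact hg.out_eq x hx⟩

theorem Adm.symm {g : E} {c : F} (h : Adm π L g c) : Adm π L.symm g c⁻¹ :=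
  ⟨h.f_eq, by rw [inv_inv]; exact h.e_eq, h.w_mem,
    fun x hx => h.out_eq x ⟨hx.2.1, hx.1, hx.2.2⟩⟩

theorem Adm.of_sg {g : E} {a u : V} (ha : a ∈ L.W) (hu : u ∈ L.W) (h : SPair Q a u)
    (hg : π g = sg Q a u) : Adm π L g 1 := by
  have hfix : ∀ x, polar Q a x = 0 → polar Q u x = 0 → act π g x = x := fun x h1 h2 => by
    rw [act, hg, sg_apply h, h1, h2]; simp
  refine ⟨?_, ?_, fun w hw => ?_, fun x hx => hfix x (hx.2.2 a ha) (hx.2.2 u hu)⟩
  · rw [hfix _ (L.perp_e' ha) (L.perp_e' hu), one_smul]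
  · rw [hfix _ (L.perp_f' ha) (L.perp_f' hu), inv_one, one_smul]
  · rw [act, hg, sg_apply h]
    exact sub_mem (add_mem hw (L.W.smul_mem _ hu)) (L.W.smul_mem _ ha)

end

/-- Lifts of the two root groups that are additive and equivariant. -/
structure Data (π : E →* orth Q) (L : Level Q) where
  /-- lifts of the root group of the first vector -/
  X : V → E
  /-- lifts of the root group of the second vector -/
  Y : V → E
  x_map : ∀ w ∈ L.W, π (X w) = sg Q L.e w
  y_map : ∀ w ∈ L.W, π (Y w) = sg Q L.f w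
  x_add : ∀ v ∈ L.W, ∀ w ∈ L.W, X (v + w) = X v * X w
  y_add : ∀ v ∈ L.W, ∀ w ∈ L.W, Y (v + w) = Y v * Y w
  x_conj : ∀ g c, Adm π L g c → ∀ w ∈ L.W, g * X w * g⁻¹ = X (c • act π g w)
  y_conj : ∀ g c, Adm π L g c → ∀ w ∈ L.W, g * Y w * g⁻¹ = Y (c⁻¹ • act π g w)

namespace Data

variable {π : E →* orth Q} {L : Level Q} (D : Data π L)

/-- The data of the exchanged level. -/
def symm : Data π L.symm where
  X := D.Y
  Y := D.X
  x_map := D.y_map
  y_map := D.x_map
  x_add := D.y_add
  y_add := D.x_add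
  x_conj g c h w hw := by
    have := D.y_conj g c⁻¹ (Adm.symm (L := L.symm) h) w hw
    rwa [inv_inv] at this
  y_conj g c h w hw := D.x_conj g c⁻¹ (Adm.symm (L := L.symm) h) w hw

theorem x_zero : D.X 0 = 1 := by
  have := D.x_add 0 L.W.zero_mem 0 L.W.zero_mem
  rw [add_zero] at this
  exact left_eq_mul.1 this

theorem y_zero : D.Y 0 = 1 := D.symm.x_zero

theorem x_neg {w : V} (hw : w ∈ L.W) : D.X (-w) = (D.X w)⁻¹ := by
  rw [eq_inv_iff_mul_eq_one, ← D.x_add _ (neg_mem hw) _ hw, neg_add_cancel, D.x_zero]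

theorem y_neg {w : V} (hw : w ∈ L.W) : D.Y (-w) = (D.Y w)⁻¹ := D.symm.x_neg hw

theorem x_comm {v w : V} (hv : v ∈ L.W) (hw : w ∈ L.W) : D.X v * D.X w = D.X w * D.X v := by
  rw [← D.x_add _ hv _ hw, add_comm, D.x_add _ hw _ hv]

theorem act_x {v : V} (hv : v ∈ L.W) (x : V) : act π (D.X v) x = (sg Q L.e v).1 x := by
  rw [act, D.x_map v hv]

theorem act_y {v : V} (hv : v ∈ L.W) (x : V) : act π (D.Y v) x = (sg Q L.f v).1 x := by
  rw [act, D.y_map v hv]

theorem x_inj {v w : V} (hv : v ∈ L.W) (hw : w ∈ L.W) (h : π (D.X v) = π (D.X w)) : v = w :=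
  L.sg_inj hv hw (by rw [← D.x_map v hv, h, D.x_map w hw])

theorem y_inj {v w : V} (hv : v ∈ L.W) (hw : w ∈ L.W) (h : π (D.Y v) = π (D.Y w)) : v = w :=
  D.symm.x_inj hv hw h

/-- A product with an element fixing the second vector is determined by its image. -/
theorem eq_of_fix_mul {g h : E} {v : V} (hv : v ∈ L.W) (hg : act π g L.f = L.f)
    (hh : act π h L.f = L.f) (heq : π (g * D.X v) = π h) : v = 0 := by
  refine D.x_inj hv L.W.zero_mem ?_
  have h1 : act π (g * D.X v) L.f = act π h L.f := by rw [act, act, heq]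
  rw [act_mul, hh] at h1
  have h2 := congrArg (act π g⁻¹) h1
  rw [act_inv_act] at h2
  have h4 : act π g⁻¹ L.f = L.f := by
    conv_lhs => rw [← hg, act_inv_act]
  rw [h4, D.act_x hv, L.sg_e_f hv] at h2
  have h3 : v = Q v • L.e := by linear_combination (norm := module) h2
  have hzero : v = 0 := L.ndW v hv fun y hy => by
    rw [h3, polar_smul_left, L.perp_e hy, smul_zero]
  rw [hzero]

end Data

end Cfsg.Agent.Lib.OrthMult
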