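import Cfsg.Agent.Lib.OrthMult.TopData
import Cfsg.Agent.Lib.Multiplier.Central

/-!
Every perfect central extension of the group generated by the Siegel transformations of a large
orthogonal space has kernel of order at most two, and trivial in characteristic two.
-/

set_option autoImplicit false

namespace Cfsg.Agent.Lib.OrthMult

open Module QuadraticMap Cfsg.Agent.Lib.Forms Cfsg.Agent.Lib.OrthOmega
open Cfsg.Agent.Lib.Multiplier
open scoped commutatorElement

variable {F : Type*} [Field F] {V : Type*} [AddCommGroup V] [Module F V]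

/-- The spaces for which the multiplier is the generic one. -/
structure Generic (Q : QuadraticForm F V) : Prop where
  nd : Nondeg Q
  dim : 7 ≤ finrank F V
  small : (∃ μ : F, μ ≠ 0 ∧ μ * μ ≠ 1) ∨
    ((∀ x : F, x = 0 ∨ x = 1 ∨ x = -1) ∧ (2 : F) ≠ 0 ∧ 8 ≤ finrank F V) ∨
    ((∀ x : F, x = 0 ∨ x = 1) ∧ 8 ≤ finrank F V ∧ (10 ≤ finrank F V ∨
      ∀ (L : Level Q) (t t' r r' : V) (h : L.In t t') (h' : (Level.inner h).In r r'),
        ∀ u ∈ (Level.inner h').W, Q u = 0 → u = 0))

variable {Q : QuadraticForm F V} {E : Type*} [Group E] {π : E →* orth Q}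

/-- The level of a hyperbolic pair of the whole space. -/
def topLevel (hQ : Nondeg Q) {e f : V} (hp : HypPair Q e f) : Level Q where
  e := e
  f := f
  W := core Q e f
  hp := hp
  le := le_rfl
  ndW x hx h := congrArg Subtype.val (hp.nondeg_core hQ ⟨x, hx⟩ fun y => h y.1 y.2)

variable [Finite F] [FiniteDimensional F V]

omit [Finite F] in
theorem big_top (G : Generic Q) {e f : V} (hp : HypPair Q e f) : Big (topLevel G.nd hp) := by
  have hd : finrank F (topLevel G.nd hp).W + 2 = finrank F V := hp.finrank_core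
  have := G.dim
  refine ⟨G.nd, by omega, ?_⟩
  rcases G.small with h | ⟨h1, h2, h3⟩ | ⟨h1, h2, h3⟩
  · exact Or.inl h
  · exact Or.inr (Or.inl ⟨h1, h2, by omega⟩)
  · refine Or.inr (Or.inr ⟨h1, by omega, h3.imp (fun _ => by omega) fun h3 => h3 _⟩)

omit [Finite F] [FiniteDimensional F V] in
/-- A subgroup containing the two root groups of a pair contains every Siegel transformation. -/
theorem EG_le_of_roots (hQ : Nondeg Q) {e f : V} (hp : HypPair Q e f)
    (huniv : ∀ x ∈ core Q e f, x ≠ 0 → ∃ u ∈ core Q e f, polar Q u x ≠ 0)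
    (hne : ∃ u ∈ core Q e f, Q u ≠ 0) {N : Subgroup (orth Q)}
    (he : ∀ w ∈ core Q e f, sg Q e w ∈ N) (hf : ∀ w ∈ core Q e f, sg Q f w ∈ N) : EG Q ≤ N := by
  have shift : ∀ v, polar Q e v = 0 → sg Q e v ∈ N := fun v hv => by
    have hw := hp.proj_mem v
    rw [hv, zero_smul, sub_zero] at hw
    have h1 : SPair Q e (v - polar Q f v • e) := ⟨hp.left, hw.1⟩
    have h2 : SPair Q e ((v - polar Q f v • e) + polar Q f v • e) :=
      ⟨hp.left, by rw [sub_add_cancel]; exact hv⟩
    have := he _ hw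
    rwa [sg_eq h1, ← rho_shift h1 _ h2, ← sg_eq h2, sub_add_cancel] at this
  -- the coordinate at the second vector is non-zero
  have step1 : ∀ {x : V}, Q x = 0 → polar Q f x ≠ 0 →
      ∃ g ∈ N, ∃ μ : F, μ ≠ 0 ∧ g.1 x = μ • e := by
    intro x hx hb
    have hw := hp.proj_mem x
    set w := x - polar Q f x • e - polar Q e x • f with hwdef
    set b := polar Q f x
    set u := (-b⁻¹) • w with hu
    have hum : u ∈ core Q e f := Submodule.smul_mem _ _ hw
    have hs : SPair Q f u := ⟨hp.right, hum.2⟩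
    refine ⟨_, hf u hum, b, hb, ?_⟩
    have hbu : b • u = -w := by
      rw [hu, smul_smul, mul_neg, mul_inv_cancel₀ hb, neg_one_smul]
    have h1 : (sg Q f u).1 x =
        b • e + (polar Q e x - (polar Q u x + Q u * b)) • f := by
      rw [sg_apply hs, hbu, hwdef]
      module
    have h0 : Q ((sg Q f u).1 x) = 0 := ((sg Q f u).2 x).trans hx
    rw [h1, Q_comb, hp.left, hp.right, hp.pol] at h0
    have h2 : polar Q e x - (polar Q u x + Q u * b) = 0 :=
      (mul_eq_zero.1 (show b * (polar Q e x - (polar Q u x + Q u * b)) = 0 by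
        linear_combination h0)).resolve_left hb
    rw [h1, h2, zero_smul, add_zero]
  -- the coordinate at the first vector is non-zero
  have step2 : ∀ {x : V}, Q x = 0 → polar Q e x ≠ 0 →
      ∃ g ∈ N, ∃ μ : F, μ ≠ 0 ∧ g.1 x = μ • e := by
    intro x hx hb
    by_cases hfx : polar Q f x ≠ 0
    · exact step1 hx hfx
    push Not at hfx
    obtain ⟨u₀, hu₀, hQu⟩ := hne
    have hw := hp.proj_mem x
    by_cases hk : ∃ u ∈ core Q e f, polar Q u x + Q u * polar Q e x ≠ 0
    · obtain ⟨u, hu, hne'⟩ := hk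
      have hs : SPair Q e u := ⟨hp.left, hu.1⟩
      have h1 : polar Q f ((sg Q e u).1 x) ≠ 0 := by
        rw [sg_apply hs]
        simp only [polar_sub_right, polar_add_right, polar_smul_right, hfx,
          show polar Q f u = 0 from hu.2, hp.pol', smul_eq_mul]
        intro h0
        apply hne'
        linear_combination -h0
      obtain ⟨g, hg, μ, hμ, hgx⟩ := step1 (((sg Q e u).2 x).trans hx) h1
      exact ⟨g * sg Q e u, mul_mem hg (he u hu), μ, hμ, hgx⟩
    push Not at hk
    exfalso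
    set b := polar Q e x
    obtain ⟨w, hwc, hB⟩ : ∃ w ∈ core Q e f, polar Q u₀ w ≠ 0 := by
      obtain ⟨w, hwc, hB⟩ := huniv u₀ hu₀ (fun h => hQu (by rw [h, QuadraticMap.map_zero]))
      exact ⟨w, hwc, by rwa [polar_comm]⟩
    have h1 := hk u₀ hu₀
    have h2 := hk w hwc
    have h3 := hk (u₀ + w) (add_mem hu₀ hwc)
    rw [polar_add_left, Q_add] at h3
    have : polar Q u₀ w * b = 0 := by linear_combination h3 - h1 - h2
    exact hb ((mul_eq_zero.1 this).resolve_left hB)
  have trans_e : ∀ {x : V}, x ≠ 0 → Q x = 0 → ∃ g ∈ N, ∃ μ : F, μ ≠ 0 ∧ g.1 x = μ • e := by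
    intro x hx0 hx
    by_cases hb : polar Q e x ≠ 0
    · exact step2 hx hb
    push Not at hb
    by_cases hfx : polar Q f x ≠ 0
    · exact step1 hx hfx
    push Not at hfx
    obtain ⟨u, hu, hne'⟩ := huniv x ⟨hb, hfx⟩ hx0
    have hs : SPair Q e u := ⟨hp.left, hu.1⟩
    have h1 : polar Q f ((sg Q e u).1 x) ≠ 0 := by
      rw [sg_apply hs, hb]
      simp only [polar_sub_right, polar_add_right, polar_smul_right, hfx, hp.pol', smul_eq_mul]
      simpa using hne'
    obtain ⟨g, hg, μ, hμ, hgx⟩ := step1 (((sg Q e u).2 x).trans hx) h1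
    exact ⟨g * sg Q e u, mul_mem hg (he u hu), μ, hμ, hgx⟩
  refine OrthOmega.EG_le fun x v hxv => ?_
  rw [← sg_eq hxv]
  rcases eq_or_ne x 0 with rfl | hx0
  · rw [show sg Q (0 : V) v = 1 from orth_ext fun y => by rw [sg_apply hxv]; simp]
    exact one_mem _
  obtain ⟨g, hg, μ, hμ, hgx⟩ := trans_e hx0 hxv.sing
  have hperp : polar Q e (g.1 v) = 0 := by
    have := (hxv.map g).perp
    rw [hgx, polar_smul_left, smul_eq_mul] at this
    exact (mul_eq_zero.1 this).resolve_left hμ
  have h : g * sg Q x v * g⁻¹ ∈ N := by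
    rw [sg_conj g hxv, hgx, sg_smul_left _ ⟨hp.left, hperp⟩]
    exact shift _ (by rw [polar_smul_right, hperp, smul_zero])
  have := mul_mem (mul_mem (inv_mem hg) h) hg
  rwa [show g⁻¹ * (g * sg Q x v * g⁻¹) * g = sg Q x v by group] at this

variable (π₀ : E →* EG Q)

/-- The kernel of a perfect central extension has at most two elements, one in characteristic two. -/
theorem ker_bound (G : Generic Q) (hsurj : Function.Surjective π₀)
    (hcent : π₀.ker ≤ Subgroup.center E) (hperf : commutator E = ⊤) :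
    ∃ z : E, ∀ g ∈ π₀.ker, g = 1 ∨ ((2 : F) ≠ 0 ∧ g = z) := by
  set π : E →* orth Q := (EG Q).subtype.comp π₀ with hπ
  have hker : π.ker = π₀.ker := by
    ext x
    simp [hπ, MonoidHom.mem_ker]
  have H : Ext π := by
    refine ⟨hker.le.trans hcent, fun e u hu => ?_⟩
    obtain ⟨g, hg⟩ := hsurj ⟨rho hu, rho_mem hu⟩
    exact ⟨g, by rw [sg_eq hu]; exact congrArg Subtype.val hg⟩
  obtain ⟨e, f, hp⟩ := exists_hyp G.nd (by have := G.dim; omega)
  set L := topLevel G.nd hp
  have B : Big L := big_top G hp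
  obtain ⟨D⟩ := nonempty_data (π := π) H B
  obtain ⟨s, s', hs⟩ := L.exists_in (by have := B.dim; omega)
  obtain ⟨u, hu, hu0⟩ := (Level.inner hs).exists_ne_zero (by
    have := Level.le_finrank_inner hs; have := B.dim; omega)
  obtain ⟨k, hk, huk⟩ := (Level.inner hs).exists_polar hu hu0
  let S : Sub L :=
    { s := s
      s' := s'
      k := k
      u := u
      hs := hs.hp
      smem := hs.mem
      smem' := hs.mem'
      kmem := hk.1
      umem := hu.1
      sk := hk.2.1
      sk' := hk.2.2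
      su := hu.2.1
      su' := hu.2.2
      uk := huk }
  obtain ⟨z, hz⟩ := span_bound H _ L rfl S D
  refine ⟨z, fun g hg => hz g ?_ (hker.ge hg)⟩
  have hN : EG Q ≤ (span D).map π := by
    refine EG_le_of_roots G.nd hp (fun x hx hx0 => ?_) ⟨s + s', add_mem hs.mem hs.mem', ?_⟩
      (fun w hw => ⟨D.X w, Subgroup.subset_closure (Or.inl ⟨w, hw, rfl⟩), D.x_map w hw⟩)
      (fun w hw => ⟨D.Y w, Subgroup.subset_closure (Or.inr ⟨w, hw, rfl⟩), D.y_map w hw⟩)
    · obtain ⟨y, hy, hp'⟩ := L.exists_polar hx hx0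
      exact ⟨y, hy, by rwa [polar_comm]⟩
    · rw [Q_add, hs.hp.left, hs.hp.right, hs.hp.pol]; simp
  have hsup : span D ⊔ π₀.ker = ⊤ := top_le_iff.1 fun x _ => by
    obtain ⟨y, hy, hxy⟩ := hN (π₀ x).2
    have h1 : y⁻¹ * x ∈ π₀.ker := by
      rw [← hker, MonoidHom.mem_ker, map_mul, map_inv, hxy]
      exact inv_mul_cancel _
    have := (span D ⊔ π₀.ker).mul_mem (Subgroup.mem_sup_left hy) (Subgroup.mem_sup_right h1)
    rwa [mul_inv_cancel_left] at this
  exact ((commutator_le_of_sup_central _ _ hcent hsup).trans (Subgroup.commutator_le_self _))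
    (hperf ▸ Subgroup.mem_top g)

end Cfsg.Agent.Lib.OrthMult
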