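import Cfsg.Agent.Lib.OrthMult.Level

/-!
The element of the middle group obtained by moving a root element past one of the opposite root group.
-/

set_option autoImplicit false

namespace Cfsg.Agent.Lib.OrthMult

open QuadraticMap Cfsg.Agent.Lib.Forms Cfsg.Agent.Lib.OrthOmega
open scoped commutatorElement

variable {F : Type*} [Field F] {V : Type*} [AddCommGroup V] [Module F V]
variable {Q : QuadraticForm F V} {E : Type*} [Group E] {π : E →* orth Q} {L : Level Q}

/-- A pair for which the middle element is used. -/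
structure MPair (L : Level Q) (a b : V) : Prop where
  amem : a ∈ L.W
  bmem : b ∈ L.W
  sing : Q b = 0
  perp : polar Q a b = 0

namespace MPair

variable {a a' b b' : V}

theorem perp' (h : MPair L a b) : polar Q b a = 0 := (polar_comm Q b a).trans h.perp

theorem mem (h : MPair L a b) : a - Q a • b ∈ L.W := sub_mem h.amem (L.W.smul_mem _ h.bmem)

theorem sp (h : MPair L a b) : SPair Q b (-a) :=
  ⟨h.sing, by rw [polar_neg_right, h.perp', neg_zero]⟩

theorem bb (h : MPair L a b) : polar Q b b = 0 := by rw [polar_self', h.sing, mul_zero]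

theorem add (h : MPair L a b) (h' : MPair L a' b) : MPair L (a + a') b :=
  ⟨add_mem h.amem h'.amem, h.bmem, h.sing, by rw [polar_add_left, h.perp, h'.perp, add_zero]⟩

theorem smul (h : MPair L a b) (c : F) : MPair L (c • a) b :=
  ⟨L.W.smul_mem _ h.amem, h.bmem, h.sing, by rw [polar_smul_left, h.perp, smul_zero]⟩

theorem smul_right (h : MPair L a b) (c : F) : MPair L a (c • b) :=
  ⟨h.amem, L.W.smul_mem _ h.bmem, by rw [Q_smul, h.sing, mul_zero],
    by rw [polar_smul_right, h.perp, smul_zero]⟩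

theorem right (h : MPair L a b) (c : F) : MPair L (c • b) b :=
  ⟨L.W.smul_mem _ h.bmem, h.bmem, h.sing, by rw [polar_smul_left, h.bb, smul_zero]⟩

theorem act_adm (h : MPair L a b) {g : E} {c d : F} (hg : Adm π L g c) :
    MPair L (d • act π g a) (c⁻¹ • act π g b) :=
  ⟨L.W.smul_mem _ (hg.w_mem _ h.amem), L.W.smul_mem _ (hg.w_mem _ h.bmem),
    by rw [Q_smul, Q_act, h.sing, mul_zero],
    by rw [polar_smul_left, polar_smul_right, polar_act, h.perp]; simp⟩

end MPair

/-- The middle element. -/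
def mEl (D : Data π L) (a b : V) : E :=
  (D.Y b)⁻¹ * D.X a * D.Y b * (D.X (a - Q a • b))⁻¹

variable (D : Data π L) {a a' b b' : V}

theorem move_eq (D : Data π L) (a b : V) :
    (D.Y b)⁻¹ * D.X a * D.Y b = mEl D a b * D.X (a - Q a • b) := by
  rw [mEl, inv_mul_cancel_right]

theorem m_map (h : MPair L a b) : π (mEl D a b) = sg Q b (-a) := by
  have e1 : (π (D.Y b))⁻¹ = sg Q L.f (-b) := by
    rw [D.y_map b h.bmem, sg_neg (L.sp_f h.bmem)]
  have e2 : (sg Q L.f (-b)).1 L.e = L.e - b := by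
    rw [sg_apply (L.sp_f h.bmem).neg, L.hp.pol', polar_neg_left, L.perp_e' h.bmem,
      QuadraticMap.map_neg, h.sing]
    simp [sub_eq_add_neg]
  have e3 : (sg Q L.f (-b)).1 a = a := by
    rw [sg_apply (L.sp_f h.bmem).neg, L.perp_f h.amem, polar_neg_left, h.perp',
      QuadraticMap.map_neg, h.sing]
    simp
  have key : π ((D.Y b)⁻¹ * D.X a * D.Y b) = sg Q (L.e - b) a := by
    rw [map_mul, map_mul, map_inv, e1, D.x_map a h.amem,
      show π (D.Y b) = (sg Q L.f (-b))⁻¹ by rw [← e1, inv_inv],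
      sg_conj _ (L.sp_e h.amem), e2, e3]
  have h4 : sg Q (-b) a * sg Q L.e (a - Q a • b) = sg Q (L.e - b) a := by
    have := sg_add_left (Q := Q) (e := L.e) (t := -b) (u := a) L.hp.left
      (by rw [QuadraticMap.map_neg, h.sing]) (by rw [polar_neg_right, L.perp_e h.bmem, neg_zero])
      (L.perp_e h.amem) (by rw [polar_neg_left, h.perp', neg_zero])
    rwa [smul_neg, ← sub_eq_add_neg, ← sub_eq_add_neg] at this
  have h5 : sg Q (-b) a = sg Q b (-a) := by
    rw [show (-b : V) = (-1 : F) • b by simp, sg_smul_left _ ⟨h.sing, h.perp'⟩]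
    simp
  rw [mEl, map_mul, key, map_inv, D.x_map _ h.mem, ← h4, h5, mul_inv_cancel_right]

theorem m_act (h : MPair L a b) (x : V) : act π (mEl D a b) x = (sg Q b (-a)).1 x := by
  rw [act, m_map D h]

theorem m_adm (h : MPair L a b) : Adm π L (mEl D a b) 1 :=
  Adm.of_sg h.bmem (neg_mem h.amem) h.sp (m_map D h)

theorem m_fix (h : MPair L a b) {x : V} (h1 : polar Q b x = 0) (h2 : polar Q a x = 0) :
    act π (mEl D a b) x = x := by
  rw [m_act D h, sg_apply h.sp, h1, polar_neg_left, h2]; simp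

theorem m_conj {g : E} {c : F} (hg : Adm π L g c) (h : MPair L a b) :
    g * mEl D a b * g⁻¹ = mEl D (c • act π g a) (c⁻¹ • act π g b) := by
  have hq : c • act π g (a - Q a • b) =
      c • act π g a - Q (c • act π g a) • (c⁻¹ • act π g b) := by
    have := hg.ne_zero
    rw [act_sub, act_smul, Q_smul, Q_act]
    match_scalars <;> field_simp
  simp only [mEl]
  rw [← D.y_conj g c hg b h.bmem, ← D.x_conj g c hg a h.amem, ← hq,
    ← D.x_conj g c hg _ h.mem]
  group

theorem m_zero_left : mEl D 0 b = 1 := by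
  simp [mEl, D.x_zero]

theorem m_zero_right : mEl D a 0 = 1 := by
  simp [mEl, D.y_zero]

theorem m_add (h : MPair L a b) (h' : MPair L a' b) :
    mEl D (a + a') b = mEl D a b * mEl D a' b := by
  set m₁ := mEl D a b with hm₁
  set m₂ := mEl D a' b with hm₂
  set m₃ := mEl D (a + a') b with hm₃
  set w₁ := a - Q a • b with hw₁
  set w₂ := a' - Q a' • b with hw₂
  set w₃ := (a + a') - Q (a + a') • b with hw₃
  have hstar : D.X w₁ * m₂ = m₂ * D.X (act π m₂⁻¹ w₁) := by
    have hinv : Adm π L m₂⁻¹ 1 :=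
      Adm.of_sg h'.bmem h'.amem ⟨h'.sing, h'.perp'⟩ (by
        rw [map_inv, hm₂, m_map D h', ← sg_neg h'.sp, neg_neg])
    have := D.x_conj _ 1 hinv w₁ h.mem
    rw [one_smul, inv_inv] at this
    rw [← this, ← mul_assoc, ← mul_assoc, mul_inv_cancel, one_mul]
  have hmem : act π m₂⁻¹ w₁ ∈ L.W := by
    have hinv : Adm π L m₂⁻¹ 1 :=
      Adm.of_sg h'.bmem h'.amem ⟨h'.sing, h'.perp'⟩ (by
        rw [map_inv, hm₂, m_map D h', ← sg_neg h'.sp, neg_neg])
    exact hinv.w_mem _ h.mem
  have e : (D.Y b)⁻¹ * D.X (a + a') * D.Y b = m₁ * m₂ * D.X (act π m₂⁻¹ w₁ + w₂) := by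
    rw [D.x_add a h.amem a' h'.amem,
      show (D.Y b)⁻¹ * (D.X a * D.X a') * D.Y b =
        ((D.Y b)⁻¹ * D.X a * D.Y b) * ((D.Y b)⁻¹ * D.X a' * D.Y b) by group,
      move_eq, move_eq, ← hm₁, ← hm₂, ← hw₁, ← hw₂, D.x_add _ hmem _ h'.mem,
      show m₁ * D.X w₁ * (m₂ * D.X w₂) = m₁ * (D.X w₁ * m₂) * D.X w₂ by group, hstar]
    simp only [mul_assoc, hw₂]
  rw [move_eq, ← hm₃, ← hw₃] at e
  set v := act π m₂⁻¹ w₁ + w₂ - w₃ with hv
  have hvmem : v ∈ L.W := sub_mem (add_mem hmem h'.mem) (h.add h').mem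
  have e2 : m₁ * m₂ * D.X v = m₃ := by
    have hw : D.X (act π m₂⁻¹ w₁ + w₂) = D.X v * D.X w₃ := by
      rw [← D.x_add _ hvmem _ (h.add h').mem, hv, sub_add_cancel]
    rw [hw, ← mul_assoc] at e
    exact (mul_right_cancel e).symm
  have h1 : act π (m₁ * m₂) L.f = L.f := by
    rw [act_mul, m_fix D h' (L.perp_f' h'.bmem) (L.perp_f' h'.amem),
      m_fix D h (L.perp_f' h.bmem) (L.perp_f' h.amem)]
  have hv0 := D.eq_of_fix_mul hvmem h1
    (m_fix D (h.add h') (L.perp_f' h'.bmem) (L.perp_f' (h.add h').amem)) (by rw [e2])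
  rw [hv0, D.x_zero, mul_one] at e2
  exact e2.symm

theorem m_comm (h : MPair L a b) (h' : MPair L a' b) :
    mEl D a b * mEl D a' b = mEl D a' b * mEl D a b := by
  rw [← m_add D h h', add_comm, m_add D h' h]

/-- The middle element of two proportional vectors is trivial. -/
theorem m_self {u k : V} (hu : MPair L u b) (hk : MPair L k b) (huk : polar Q u k ≠ 0) (c : F) :
    mEl D (c • b) b = 1 := by
  have hu' := hu.smul (c / polar Q u k)
  set g := mEl D ((c / polar Q u k) • u) b with hg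
  have hgb : act π g b = b := m_fix D hu' hu.bb hu'.perp
  have hgk : act π g k = k + c • b := by
    rw [m_act D hu', sg_apply hu'.sp, hk.perp', polar_neg_left, polar_smul_left, smul_eq_mul,
      div_mul_cancel₀ _ huk]
    simp
  have h1 := m_conj D (m_adm D hu') hk
  rw [one_smul, inv_one, one_smul, hgb, hgk, m_add D hk (hk.right c), ← hg, m_comm D hu' hk,
    mul_inv_cancel_right] at h1
  exact left_eq_mul.1 h1

theorem m_add_right (h : MPair L a b) (h' : MPair L a b') (hbb : polar Q b b' = 0) :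
    mEl D a (b + b') = mEl D a b * mEl D (a - Q a • b) b' := by
  have hw : MPair L (a - Q a • b) b' :=
    ⟨h.mem, h'.bmem, h'.sing,
      by rw [polar_sub_left, polar_smul_left, h'.perp, hbb, smul_zero, sub_zero]⟩
  have hq : Q (a - Q a • b) = Q a := by
    rw [sub_eq_add_neg, Q_add, QuadraticMap.map_neg, Q_smul, h.sing, polar_neg_right,
      polar_smul_right, h.perp]
    simp
  have hfix : act π (mEl D a b) b' = b' := m_fix D h hbb h'.perp
  have hy : (D.Y b')⁻¹ * mEl D a b = mEl D a b * (D.Y b')⁻¹ := by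
    have := D.y_conj _ 1 (m_adm D h) b' h'.bmem
    rw [inv_one, one_smul, hfix] at this
    have hcomm : mEl D a b * D.Y b' = D.Y b' * mEl D a b := mul_inv_eq_iff_eq_mul.1 this
    rw [inv_mul_eq_iff_eq_mul, ← mul_assoc, ← hcomm, mul_inv_cancel_right]
  have e : (D.Y (b + b'))⁻¹ * D.X a * D.Y (b + b') =
      mEl D a b * mEl D (a - Q a • b) b' * D.X (a - Q a • (b + b')) := by
    rw [D.y_add b h.bmem b' h'.bmem,
      show (D.Y b * D.Y b')⁻¹ * D.X a * (D.Y b * D.Y b') =
        (D.Y b')⁻¹ * ((D.Y b)⁻¹ * D.X a * D.Y b) * D.Y b' by group,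
      move_eq, ← mul_assoc (D.Y b')⁻¹, hy,
      show mEl D a b * (D.Y b')⁻¹ * D.X (a - Q a • b) * D.Y b' =
        mEl D a b * ((D.Y b')⁻¹ * D.X (a - Q a • b) * D.Y b') by group,
      move_eq, hq, show a - Q a • b - Q a • b' = a - Q a • (b + b') by module, mul_assoc]
  rw [move_eq] at e
  exact mul_right_cancel e

end Cfsg.Agent.Lib.OrthMult
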