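import Cfsg.Agent.Lib.OrthMult.Middle
import Cfsg.Agent.Lib.Schur.SteinbergSL2

/-!
A hyperbolic pair inside a level gives a homomorphism of SL₂ into the extension.
-/

set_option autoImplicit false

namespace Cfsg.Agent.Lib.OrthMult

open QuadraticMap Cfsg.Agent.Lib.Forms Cfsg.Agent.Lib.OrthOmega
open Cfsg.Agent.Lib.Schur.SteinbergSL2
open scoped commutatorElement

variable {F : Type*} [Field F] {V : Type*} [AddCommGroup V] [Module F V]
variable {Q : QuadraticForm F V} {E : Type*} [Group E]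

/-- The kernel is central and every Siegel transformation has a preimage. -/
structure Ext (π : E →* orth Q) : Prop where
  central : π.ker ≤ Subgroup.center E
  lift : ∀ e u, SPair Q e u → ∃ g, π g = sg Q e u

theorem Ext.comm_congr {π : E →* orth Q} (H : Ext π) {a a' b b' : E} (ha : π a = π a') (hb : π b = π b') :
    ⁅a, b⁆ = ⁅a', b'⁆ :=
  Cfsg.Agent.Lib.Schur.Fusion.commutator_congr H.central ha hb

theorem trv_true_coe (t : F) :
    ((trv F true t : Matrix.SpecialLinearGroup (Fin 2) F) : Matrix (Fin 2) (Fin 2) F) = !![1, t; 0, 1] :=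
  rfl

theorem trv_false_coe (t : F) :
    ((trv F false t : Matrix.SpecialLinearGroup (Fin 2) F) : Matrix (Fin 2) (Fin 2) F) = !![1, 0; t, 1] :=
  rfl

/-- A hyperbolic pair of a level with two auxiliary vectors orthogonal to it. -/
structure Sub (L : Level Q) where
  /-- the first vector -/
  s : V
  /-- the second vector -/
  s' : V
  /-- first auxiliary vector -/
  k : V
  /-- second auxiliary vector -/
  u : V
  hs : HypPair Q s s'
  smem : s ∈ L.W
  smem' : s' ∈ L.W
  kmem : k ∈ L.W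
  umem : u ∈ L.W
  sk : polar Q s k = 0
  sk' : polar Q s' k = 0
  su : polar Q s u = 0
  su' : polar Q s' u = 0
  uk : polar Q u k ≠ 0

namespace Sub

variable {L : Level Q} (S : Sub L)

/-- The pair seen in the exchanged level. -/
def symm : Sub L.symm where
  s := S.s'
  s' := S.s
  k := S.k
  u := S.u
  hs := S.hs.symm
  smem := S.smem'
  smem' := S.smem
  kmem := S.kmem
  umem := S.umem
  sk := S.sk'
  sk' := S.sk
  su := S.su'
  su' := S.su
  uk := S.uk

/-- The exchanged pair in the same level. -/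
def swap : Sub L where
  s := S.s'
  s' := S.s
  k := S.k
  u := S.u
  hs := S.hs.symm
  smem := S.smem'
  smem' := S.smem
  kmem := S.kmem
  umem := S.umem
  sk := S.sk'
  sk' := S.sk
  su := S.su'
  su' := S.su
  uk := S.uk

theorem rest_mem {w : V} (hw : w ∈ L.W) :
    w - polar Q S.s' w • S.s - polar Q S.s w • S.s' ∈ L.W ⊓ core Q S.s S.s' :=
  ⟨sub_mem (sub_mem hw (L.W.smul_mem _ S.smem)) (L.W.smul_mem _ S.smem'), S.hs.proj_mem w⟩

variable {π : E →* orth Q} (D : Data π L)

/-- The two families of the pair. -/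
def fam : Bool → F → E
  | true, t => D.X (-(t • S.s))
  | false, t => D.Y (t • S.s')

theorem fam_symm (b : Bool) (t : F) : S.symm.fam D.symm b t = S.fam D (!b) (-t) := by
  cases b
  · show D.X (t • S.s) = D.X (-((-t) • S.s))
    rw [neg_smul, neg_neg]
  · show D.Y (-(t • S.s')) = D.Y ((-t) • S.s')
    rw [neg_smul]

theorem x_e (t : F) : act π (S.fam D true t) L.e = L.e := by
  rw [fam, D.act_x (neg_mem (L.W.smul_mem _ S.smem)),
    L.sg_e_fix (neg_mem (L.W.smul_mem _ S.smem))]

theorem x_f (t : F) : act π (S.fam D true t) L.f = L.f - t • S.s := by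
  rw [fam, D.act_x (neg_mem (L.W.smul_mem _ S.smem)),
    L.sg_e_f (neg_mem (L.W.smul_mem _ S.smem)), QuadraticMap.map_neg, Q_smul, S.hs.left]
  simp [sub_eq_add_neg]

theorem x_s (t : F) : act π (S.fam D true t) S.s = S.s := by
  rw [fam, D.act_x (neg_mem (L.W.smul_mem _ S.smem)),
    L.sg_e_W (neg_mem (L.W.smul_mem _ S.smem)) S.smem, polar_neg_left, polar_smul_left, S.hs.pol_ee]
  simp

theorem x_s' (t : F) : act π (S.fam D true t) S.s' = S.s' + t • L.e := by
  rw [fam, D.act_x (neg_mem (L.W.smul_mem _ S.smem)),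
    L.sg_e_W (neg_mem (L.W.smul_mem _ S.smem)) S.smem', polar_neg_left, polar_smul_left, S.hs.pol]
  simp

theorem x_perp (t : F) {x : V} (he : polar Q L.e x = 0) (hs : polar Q S.s x = 0) :
    act π (S.fam D true t) x = x := by
  rw [fam, D.act_x (neg_mem (L.W.smul_mem _ S.smem)),
    sg_apply (L.sp_e (neg_mem (L.W.smul_mem _ S.smem))), he, polar_neg_left, polar_smul_left, hs]
  simp

theorem y_e (t : F) : act π (S.fam D false t) L.e = L.e + t • S.s' := by
  rw [fam, D.act_y (L.W.smul_mem _ S.smem'),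
    show (sg Q L.f (t • S.s')).1 L.e = _ from L.symm.sg_e_f (L.W.smul_mem _ S.smem'), Q_smul,
    S.hs.right]
  simp [Level.symm]

theorem y_f (t : F) : act π (S.fam D false t) L.f = L.f := by
  rw [fam, D.act_y (L.W.smul_mem _ S.smem'),
    show (sg Q L.f (t • S.s')).1 L.f = _ from L.symm.sg_e_fix (L.W.smul_mem _ S.smem')]
  rfl

theorem y_s (t : F) : act π (S.fam D false t) S.s = S.s - t • L.f := by
  rw [fam, D.act_y (L.W.smul_mem _ S.smem'),
    show (sg Q L.f (t • S.s')).1 S.s = _ from L.symm.sg_e_W (L.W.smul_mem _ S.smem') S.smem,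
    polar_smul_left, S.hs.pol']
  simp [Level.symm]

theorem y_s' (t : F) : act π (S.fam D false t) S.s' = S.s' := by
  rw [fam, D.act_y (L.W.smul_mem _ S.smem'),
    show (sg Q L.f (t • S.s')).1 S.s' = _ from L.symm.sg_e_W (L.W.smul_mem _ S.smem') S.smem',
    polar_smul_left, S.hs.pol_ff]
  simp

theorem y_perp (t : F) {x : V} (hf : polar Q L.f x = 0) (hs : polar Q S.s' x = 0) :
    act π (S.fam D false t) x = x := by
  rw [fam, D.act_y (L.W.smul_mem _ S.smem'), sg_apply (L.sp_f (L.W.smul_mem _ S.smem')), hf,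
    polar_smul_left, hs]
  simp

theorem n_e {t : F} (ht : t ≠ 0) :
    act π (wElt (S.fam D) true t) L.e = -(t⁻¹ • S.s') := by
  rw [wElt, act_mul, act_mul, S.x_e, Bool.not_true, S.y_e, act_add, S.x_e, act_smul, S.x_s',
    smul_add, smul_smul, neg_mul, inv_mul_cancel₀ ht]
  module

theorem n_s' {t : F} (ht : t ≠ 0) : act π (wElt (S.fam D) true t) S.s' = t • L.e := by
  rw [wElt, act_mul, act_mul, S.x_s', act_add, act_smul, Bool.not_true, S.y_s', S.y_e, act_add,
    act_smul, act_add, act_smul, S.x_s', S.x_e]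
  match_scalars <;> field_simp <;> ring

theorem n_s {t : F} (ht : t ≠ 0) : act π (wElt (S.fam D) true t) S.s = t⁻¹ • L.f := by
  rw [wElt, act_mul, act_mul, S.x_s, Bool.not_true, S.y_s, act_sub, S.x_s, act_smul, S.x_f]
  match_scalars <;> field_simp <;> ring

theorem n_f {t : F} (ht : t ≠ 0) : act π (wElt (S.fam D) true t) L.f = -(t • S.s) := by
  rw [wElt, act_mul, act_mul, S.x_f, act_sub, act_smul, Bool.not_true, S.y_f, S.y_s, act_sub,
    act_smul, act_sub, act_smul, S.x_s, S.x_f]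
  match_scalars <;> field_simp <;> ring

theorem n_perp (t : F) {x : V} (he : polar Q L.e x = 0) (hf : polar Q L.f x = 0)
    (hs : polar Q S.s x = 0) (hs' : polar Q S.s' x = 0) : act π (wElt (S.fam D) true t) x = x := by
  rw [wElt, act_mul, act_mul, S.x_perp D t he hs, Bool.not_true, S.y_perp D _ hf hs',
    S.x_perp D t he hs]

theorem conj_true (H : Ext π) {t : F} (ht : t ≠ 0) (v : F) :
    wElt (S.fam D) true t * S.fam D true v * (wElt (S.fam D) true t)⁻¹ =
      S.fam D false (-(t⁻¹ ^ 2 * v)) := by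
  set n := wElt (S.fam D) true t with hn
  set c : F := v / polar Q S.u S.k with hc
  have hcu : c • S.u ∈ L.W := L.W.smul_mem _ S.umem
  have hsp : SPair Q S.s (c • S.u) := ⟨S.hs.left, by rw [polar_smul_right, S.su, smul_zero]⟩
  obtain ⟨d, hd⟩ := H.lift _ _ hsp
  have hdA : Adm π L d 1 := Adm.of_sg S.smem hcu hsp hd
  have hdk : act π d S.k = S.k + -(v • S.s) := by
    rw [act, hd, sg_apply hsp, S.sk, polar_smul_left, smul_eq_mul, hc, div_mul_cancel₀ _ S.uk]
    simp [sub_eq_add_neg]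
  have hvs : -(v • S.s) ∈ L.W := neg_mem (L.W.smul_mem _ S.smem)
  have hx : S.fam D true v = ⁅d, D.X S.k⁆ := by
    rw [commutatorElement_def, D.x_conj d 1 hdA _ S.kmem, one_smul, hdk, add_comm,
      D.x_add _ hvs _ S.kmem, mul_inv_cancel_right]
    rfl
  have hconj : n * ⁅d, D.X S.k⁆ * n⁻¹ = ⁅n * d * n⁻¹, n * D.X S.k * n⁻¹⁆ := by
    simp only [commutatorElement_def]; group
  have hsp2 : SPair Q S.s' (-(t⁻¹ • S.k)) :=
    ⟨S.hs.right, by rw [polar_neg_right, polar_smul_right, S.sk', smul_zero, neg_zero]⟩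
  have hA : π (n * D.X S.k * n⁻¹) = sg Q S.s' (-(t⁻¹ • S.k)) := by
    rw [map_mul, map_mul, map_inv, D.x_map _ S.kmem, sg_conj _ (L.sp_e S.kmem),
      show (π n).1 L.e = act π n L.e from rfl, show (π n).1 S.k = act π n S.k from rfl,
      S.n_e D ht, S.n_perp D t (L.perp_e S.kmem) (L.perp_f S.kmem) S.sk S.sk',
      show -(t⁻¹ • S.s') = (-t⁻¹) • S.s' by module, sg_smul_left _ ⟨S.hs.right, S.sk'⟩, neg_smul]
  have hAA : Adm π L (n * D.X S.k * n⁻¹) 1 :=
    Adm.of_sg S.smem' (neg_mem (L.W.smul_mem _ S.kmem)) hsp2 hA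
  have hv : t⁻¹ • c • S.u ∈ L.W := L.W.smul_mem _ hcu
  have hd' : π (n * d * n⁻¹) = π (D.Y (t⁻¹ • c • S.u)) := by
    rw [map_mul, map_mul, map_inv, hd, sg_conj _ hsp,
      show (π n).1 S.s = act π n S.s from rfl, show (π n).1 (c • S.u) = act π n (c • S.u) from rfl,
      S.n_s D ht, act_smul, S.n_perp D t (L.perp_e S.umem) (L.perp_f S.umem) S.su S.su',
      sg_smul_left _ (L.sp_f hcu), D.y_map _ hv]
  have hAv : act π (n * D.X S.k * n⁻¹) (t⁻¹ • c • S.u) =
      t⁻¹ • c • S.u + (t⁻¹ ^ 2 * v) • S.s' := by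
    rw [act, hA, sg_apply hsp2]
    simp only [polar_smul_right, polar_smul_left, polar_neg_left, S.su', QuadraticMap.map_neg,
      Q_smul, smul_eq_mul, polar_comm Q S.k S.u]
    have : c * polar Q S.u S.k = v := by rw [hc, div_mul_cancel₀ _ S.uk]
    match_scalars <;> first | ring1 | linear_combination (t⁻¹ ^ 2) * this
  rw [hx, hconj, H.comm_congr hd' rfl, commutatorElement_def,
    show D.Y (t⁻¹ • c • S.u) * (n * D.X S.k * n⁻¹) * (D.Y (t⁻¹ • c • S.u))⁻¹ *
      (n * D.X S.k * n⁻¹)⁻¹ = D.Y (t⁻¹ • c • S.u) * ((n * D.X S.k * n⁻¹) *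
        (D.Y (t⁻¹ • c • S.u))⁻¹ * (n * D.X S.k * n⁻¹)⁻¹) by group,
    ← D.y_neg hv, D.y_conj _ 1 hAA _ (neg_mem hv), inv_one, one_smul, act_neg, hAv,
    ← D.y_add _ hv _ (neg_mem (add_mem hv (L.W.smul_mem _ S.smem')))]
  exact congrArg D.Y (by module)

theorem fam_rel (H : Ext π) : IsSL2Rel (S.fam D) := by
  refine ⟨fun b t u => ?_, fun b t u ht => ?_⟩
  · cases b
    · rw [fam, fam, fam, add_smul, D.y_add _ (L.W.smul_mem _ S.smem') _ (L.W.smul_mem _ S.smem')]
    · rw [fam, fam, fam, add_smul, neg_add,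
        D.x_add _ (neg_mem (L.W.smul_mem _ S.smem)) _ (neg_mem (L.W.smul_mem _ S.smem))]
  · cases b
    · have h := S.symm.conj_true D.symm H (neg_ne_zero.2 ht) (-u)
      simp only [wElt, fam_symm, Bool.not_true, Bool.not_false, neg_neg, inv_neg] at h
      simp only [wElt, Bool.not_false]
      rw [h]; congr 1; ring
    · exact S.conj_true D H ht u

/-- The homomorphism of SL₂. -/
noncomputable def phi [Finite F] (H : Ext π) : Matrix.SpecialLinearGroup (Fin 2) F →* E :=
  (PresentedGroup.toGroup (rels_eval (S.fam_rel D H))).comp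
    (exists_presentation F).choose.symm.toMonoidHom

theorem phi_trv [Finite F] (H : Ext π) (b : Bool) (t : F) :
    S.phi D H (trv F b t) = S.fam D b t := by
  have h := (exists_presentation F).choose_spec b t
  rw [phi, MonoidHom.comp_apply, ← h]
  simp

/-- The torus element of the pair. -/
def tor (c : F) : E := hElt (S.fam D) c

theorem tor_eq_phi [Finite F] (H : Ext π) (c : F) : S.tor D c = S.phi D H (hElt (trv F) c) := by
  simp only [tor, hElt, wElt, map_mul, phi_trv]

theorem hElt_trv_mul (a b : F) (ha : a ≠ 0) (hb : b ≠ 0) :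
    hElt (trv F) (a * b) = hElt (trv F) a * hElt (trv F) b := by
  have key : ∀ c : F, c ≠ 0 → ((hElt (trv F) c : Matrix.SpecialLinearGroup (Fin 2) F) :
      Matrix (Fin 2) (Fin 2) F) = !![c, 0; 0, c⁻¹] := by
    intro c hc
    ext i j
    fin_cases i <;> fin_cases j <;>
      simp [hElt, wElt, trv_true_coe, trv_false_coe, Matrix.mul_apply, Fin.sum_univ_two, Matrix.SpecialLinearGroup.coe_mul] <;>
      field_simp <;> simp
  apply Matrix.SpecialLinearGroup.ext
  intro i j
  rw [key _ (mul_ne_zero ha hb), Matrix.SpecialLinearGroup.coe_mul, key a ha, key b hb]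
  fin_cases i <;> fin_cases j <;> simp [Matrix.mul_apply, Fin.sum_univ_two, mul_comm]

theorem tor_mul [Finite F] (H : Ext π) {a b : F} (ha : a ≠ 0) (hb : b ≠ 0) :
    S.tor D (a * b) = S.tor D a * S.tor D b := by
  rw [S.tor_eq_phi D H, hElt_trv_mul a b ha hb, map_mul, ← S.tor_eq_phi D H, ← S.tor_eq_phi D H]

theorem tor_one [Finite F] (H : Ext π) : S.tor D 1 = 1 := by
  have := S.tor_mul D H (one_ne_zero (α := F)) one_ne_zero
  rw [mul_one] at this
  exact left_eq_mul.1 this

theorem tor_e {c : F} (hc : c ≠ 0) : act π (S.tor D c) L.e = c • L.e := by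
  rw [tor, hElt, act_mul, S.n_e D (neg_ne_zero.2 one_ne_zero), act_neg, act_smul, S.n_s' D hc]
  simp

theorem tor_f {c : F} (hc : c ≠ 0) : act π (S.tor D c) L.f = c⁻¹ • L.f := by
  rw [tor, hElt, act_mul, S.n_f D (neg_ne_zero.2 one_ne_zero), act_neg, act_smul, S.n_s D hc]
  simp

theorem tor_s {c : F} (hc : c ≠ 0) : act π (S.tor D c) S.s = c • S.s := by
  rw [tor, hElt, act_mul, S.n_s D (neg_ne_zero.2 one_ne_zero), act_smul, S.n_f D hc]
  simp

theorem tor_s' {c : F} (hc : c ≠ 0) : act π (S.tor D c) S.s' = c⁻¹ • S.s' := by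
  rw [tor, hElt, act_mul, S.n_s' D (neg_ne_zero.2 one_ne_zero), act_smul, S.n_e D hc]
  simp

theorem tor_perp (c : F) {x : V} (he : polar Q L.e x = 0) (hf : polar Q L.f x = 0)
    (hs : polar Q S.s x = 0) (hs' : polar Q S.s' x = 0) : act π (S.tor D c) x = x := by
  rw [tor, hElt, act_mul, S.n_perp D _ he hf hs hs', S.n_perp D _ he hf hs hs']

theorem tor_adm {c : F} (hc : c ≠ 0) : Adm π L (S.tor D c) c where
  e_eq := S.tor_e D hc
  f_eq := S.tor_f D hc
  w_mem w hw := by
    have hr := S.rest_mem hw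
    set r := w - polar Q S.s' w • S.s - polar Q S.s w • S.s' with hrdef
    have h : w = polar Q S.s' w • S.s + polar Q S.s w • S.s' + r := by rw [hrdef]; module
    rw [h, act_add, act_add, act_smul, act_smul, S.tor_s D hc, S.tor_s' D hc,
      S.tor_perp D c (L.perp_e hr.1) (L.perp_f hr.1) hr.2.1 hr.2.2]
    exact add_mem (add_mem (L.W.smul_mem _ (L.W.smul_mem _ S.smem))
      (L.W.smul_mem _ (L.W.smul_mem _ S.smem'))) hr.1
  out_eq x hx := S.tor_perp D c hx.1 hx.2.1 (hx.2.2 _ S.smem) (hx.2.2 _ S.smem')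

theorem gauss [Finite F] (H : Ext π) (a b : F) (hab : 1 + a * b ≠ 0) :
    S.fam D true a * S.fam D false b =
      S.fam D false (b / (1 + a * b)) * S.tor D (1 + a * b) *
        S.fam D true (a / (1 + a * b)) := by
  rw [S.tor_eq_phi D H, ← S.phi_trv D H, ← S.phi_trv D H, ← S.phi_trv D H, ← S.phi_trv D H,
    ← map_mul, ← map_mul, ← map_mul]
  congr 1
  generalize hd : 1 + a * b = d at hab
  apply Matrix.SpecialLinearGroup.ext
  intro i j
  fin_cases i <;> fin_cases j <;>
    simp [hElt, wElt, trv_true_coe, trv_false_coe, Matrix.mul_apply, Fin.sum_univ_two, Matrix.SpecialLinearGroup.coe_mul] <;>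
    field_simp <;> first | ring1 | linear_combination hd | linear_combination -hd

end Sub

end Cfsg.Agent.Lib.OrthMult
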