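import Cfsg.Agent.Lib.OrthOmega.Siegel

/-!
Identities between Siegel transformations used for central extensions of orthogonal groups.
-/

set_option autoImplicit false

namespace Cfsg.Agent.Lib.OrthMult

open QuadraticMap Cfsg.Agent.Lib.Forms Cfsg.Agent.Lib.OrthOmega

variable {F : Type*} [Field F] {V : Type*} [AddCommGroup V] [Module F V]
variable {Q : QuadraticForm F V}

open Classical in
/-- The Siegel transformation, as a function of all pairs of vectors. -/
noncomputable def sg (Q : QuadraticForm F V) (e u : V) : orth Q :=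
  if h : SPair Q e u then rho h else 1

theorem sg_eq {e u : V} (h : SPair Q e u) : sg Q e u = rho h := dif_pos h

theorem sg_apply {e u : V} (h : SPair Q e u) (x : V) : (sg Q e u).1 x =
    x + polar Q e x • u - (polar Q u x + Q u * polar Q e x) • e := by
  rw [sg_eq h, rho_apply]

theorem sg_mul {e u w : V} (hu : SPair Q e u) (hw : SPair Q e w) :
    sg Q e u * sg Q e w = sg Q e (u + w) := by
  rw [sg_eq hu, sg_eq hw, sg_eq (hu.add hw), rho_mul]

theorem sg_zero {e : V} (he : Q e = 0) : sg Q e 0 = 1 := by
  rw [sg_eq (SPair.zero he), rho_zero]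

theorem sg_neg {e u : V} (hu : SPair Q e u) : sg Q e (-u) = (sg Q e u)⁻¹ := by
  rw [sg_eq hu.neg, sg_eq hu, rho_inv]

theorem sg_conj (g : orth Q) {e u : V} (hu : SPair Q e u) :
    g * sg Q e u * g⁻¹ = sg Q (g.1 e) (g.1 u) := by
  rw [sg_eq hu, sg_eq (hu.map g), rho_conj]

/-- The Siegel transformation of a singular pair in the other order. -/
theorem sg_swap {a b : V} (ha : Q a = 0) (hb : Q b = 0) (h : polar Q a b = 0) :
    sg Q a b = sg Q b (-a) := by
  have h' : polar Q b a = 0 := (polar_comm Q b a).trans h
  refine orth_ext fun x => ?_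
  rw [sg_apply ⟨ha, h⟩, sg_apply ⟨hb, by rw [polar_neg_right, h', neg_zero]⟩]
  simp only [polar_neg_left, QuadraticMap.map_neg, ha, hb]
  module

theorem sg_smul_left {e u : V} (c : F) (h : SPair Q e u) : sg Q (c • e) u = sg Q e (c • u) := by
  have h' : SPair Q (c • e) u :=
    ⟨by rw [Q_smul, h.sing, mul_zero], by rw [polar_smul_left, h.perp, smul_zero]⟩
  rw [sg_eq h', sg_eq (h.smul c), rho_vec_smul h' (h.smul c)]

/-- The Siegel transformation attached to a sum of two singular orthogonal vectors. -/
theorem sg_add_left {e t u : V} (he : Q e = 0) (ht : Q t = 0) (het : polar Q e t = 0)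
    (heu : polar Q e u = 0) (htu : polar Q t u = 0) :
    sg Q t u * sg Q e (u + Q u • t) = sg Q (e + t) u := by
  have hte : polar Q t e = 0 := (polar_comm Q t e).trans het
  have hut : polar Q u t = 0 := (polar_comm Q u t).trans htu
  have hue : polar Q u e = 0 := (polar_comm Q u e).trans heu
  have h1 : SPair Q t u := ⟨ht, htu⟩
  have h2 : SPair Q e (u + Q u • t) := ⟨he, by simp [polar_add_right, polar_smul_right, heu, het]⟩
  have h3 : SPair Q (e + t) u :=
    ⟨by rw [Q_add, he, ht, het]; ring, by rw [polar_add_left, heu, htu, add_zero]⟩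
  have htt : polar Q t t = 0 := by rw [polar_self', ht, mul_zero]
  have hqw : Q (u + Q u • t) = Q u := by
    rw [Q_add, Q_smul, ht, polar_smul_right, hut]; simp
  refine orth_ext fun x => ?_
  rw [orth_mul_apply, sg_apply h2, sg_apply h1, sg_apply h3, hqw]
  simp only [polar_add_left, polar_smul_left, polar_add_right, polar_sub_right, polar_smul_right,
    het, hte, htu, hut, hue, heu, htt, polar_self' Q u, smul_eq_mul]
  match_scalars <;> ring

end Cfsg.Agent.Lib.OrthMult
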