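import Cfsg.Agent.Lib.OrthMult.Pair

/-!
Scaling of the middle elements, their symmetry, and the data of the level below.
-/

set_option autoImplicit false

namespace Cfsg.Agent.Lib.OrthMult

open QuadraticMap Cfsg.Agent.Lib.Forms Cfsg.Agent.Lib.OrthOmega
open Cfsg.Agent.Lib.Schur.SteinbergSL2
open scoped commutatorElement

variable {F : Type*} [Field F] {V : Type*} [AddCommGroup V] [Module F V]
variable {Q : QuadraticForm F V} {E : Type*} [Group E] {π : E →* orth Q} {L : Level Q}

/-- Every element of a finite field is a sum of two squares. -/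
theorem exists_two_squares [Finite F] (x : F) : ∃ a b : F, a * a + b * b = x := by
  by_cases h2 : (2 : F) = 0
  · obtain ⟨r, hr⟩ := exists_sqrt h2 x
    exact ⟨r, 0, by rw [hr]; ring⟩
  · haveI := Fintype.ofFinite F
    obtain ⟨a, b, hab⟩ := FiniteField.exists_root_sum_quadratic
      (f := Polynomial.X ^ 2) (g := Polynomial.X ^ 2 - Polynomial.C x)
      (by simp) (Polynomial.degree_X_pow_sub_C two_pos x)
      (FiniteField.odd_card_of_char_ne_two fun hc => h2 (by
        have : (((2 : ℕ)) : F) = 0 := (ringChar.spec F 2).mpr (hc ▸ dvd_rfl)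
        exact_mod_cast this))
    refine ⟨a, b, ?_⟩
    simp only [Polynomial.eval_pow, Polynomial.eval_X, Polynomial.eval_sub, Polynomial.eval_C] at hab
    linear_combination hab

theorem m_pow (D : Data π L) {a b : V} (h : MPair L a b) (n : ℕ) :
    mEl D a b ^ n = mEl D ((n : F) • a) b := by
  induction n with
  | zero => rw [pow_zero, Nat.cast_zero, zero_smul, m_zero_left]
  | succ n ih => rw [pow_succ, ih, ← m_add D (h.smul _) h, Nat.cast_succ, add_smul, one_smul]

namespace Sub

variable (S : Sub L) (D : Data π L)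

theorem pairS {v : V} (hv : v ∈ L.W) (h : polar Q S.s v = 0) : MPair L v S.s :=
  ⟨hv, S.smem, S.hs.left, (polar_comm Q v S.s).trans h⟩

theorem pairMul {v : V} (hv : v ∈ L.W) (h : polar Q S.s v = 0) (c : F) : MPair L v (c • S.s) :=
  (S.pairS hv h).smul_right c

theorem m_self_s (c d : F) : mEl D (c • S.s) (d • S.s) = 1 := by
  rcases eq_or_ne d 0 with rfl | hd
  · rw [zero_smul, m_zero_right]
  have := m_self D (S.pairMul S.umem S.su d) (S.pairMul S.kmem S.sk d) S.uk (c / d)
  rwa [smul_smul, div_mul_cancel₀ _ hd] at this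

theorem scale_sq [Finite F] (H : Ext π) {a : V} (ha : a ∈ L.W) (hs : polar Q S.s a = 0)
    (hs' : polar Q S.s' a = 0) {c : F} (hc : c ≠ 0) (ν : F) :
    mEl D a ((c * c * ν) • S.s) = mEl D ((c * c) • a) (ν • S.s) := by
  haveI := Fintype.ofFinite F
  classical
  have he := L.perp_e ha
  have hf := L.perp_f ha
  -- the conjugation by the product of the two torus elements
  have conjg : ∀ (x : F), x ≠ 0 → ∀ μ : F,
      (S.tor D x * S.swap.tor D x) * mEl D a (μ • S.s) * (S.tor D x * S.swap.tor D x)⁻¹ =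
        mEl D ((x * x) • a) ((μ / (x * x)) • S.s) := by
    intro x hx μ
    have h1 := m_conj D (S.swap.tor_adm D hx) (S.pairMul ha hs μ)
    rw [S.swap.tor_perp D x he hf hs' hs, act_smul,
      show act π (S.swap.tor D x) S.s = x⁻¹ • S.s from S.swap.tor_s' D hx, smul_smul, smul_smul] at h1
    have hxa : MPair L (x • a) ((x⁻¹ * μ * x⁻¹) • S.s) := ((S.pairMul ha hs _)).smul x
    have h2 := m_conj D (S.tor_adm D hx) hxa
    rw [act_smul, S.tor_perp D x he hf hs hs', act_smul, S.tor_s D hx, smul_smul, smul_smul,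
      smul_smul] at h2
    rw [mul_inv_rev, show S.tor D x * S.swap.tor D x * mEl D a (μ • S.s) *
      ((S.swap.tor D x)⁻¹ * (S.tor D x)⁻¹) = S.tor D x * (S.swap.tor D x * mEl D a (μ • S.s) *
        (S.swap.tor D x)⁻¹) * (S.tor D x)⁻¹ by group, h1, h2]
    congr 2
    field_simp
  -- the discrepancy
  set M := mEl D a ((c * c * ν) • S.s) with hM
  let del : F → E := fun x => mEl D ((x * x) • a) ((c * c * ν / (x * x)) • S.s) * M⁻¹
  have hker : ∀ x : F, x ≠ 0 → del x ∈ π.ker := by
    intro x hx
    rw [MonoidHom.mem_ker, map_mul, map_inv, m_map D ((S.pairMul ha hs _).smul _),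
      hM, m_map D (S.pairMul ha hs _), mul_inv_eq_one]
    have hsp : SPair Q S.s (-((x * x) • a)) :=
      ⟨S.hs.left, by rw [polar_neg_right, polar_smul_right, hs, smul_zero, neg_zero]⟩
    have hsp' : SPair Q S.s (-a) := ⟨S.hs.left, by rw [polar_neg_right, hs, neg_zero]⟩
    rw [sg_smul_left _ hsp, sg_smul_left _ hsp', smul_neg, smul_neg, smul_smul,
      div_mul_cancel₀ _ (mul_ne_zero hx hx)]
  have hcen : ∀ x : F, x ≠ 0 → ∀ g : E, g * del x = del x * g := fun x hx g =>
    Subgroup.mem_center_iff.1 (H.central (hker x hx)) g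
  have hmul : ∀ x y : F, x ≠ 0 → y ≠ 0 → del (x * y) = del x * del y := by
    intro x y hx hy
    set g := S.tor D x * S.swap.tor D x with hg
    have hMM : ∀ z : F, mEl D ((z * z) • a) ((c * c * ν / (z * z)) • S.s) = del z * M := fun z => by
      simp [del]
    have hgy := conjg y hy (c * c * ν)
    have hgx := conjg x hx (c * c * ν)
    rw [← hM, hMM, ← hg] at hgx
    have hp : (S.tor D y * S.swap.tor D y) * M * (S.tor D y * S.swap.tor D y)⁻¹ = del y * M := by
      rw [hM, hgy, hMM]
    have h3 : g * (del y * M) * g⁻¹ = del y * (del x * M) := by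
      rw [← hgx, show g * (del y * M) * g⁻¹ = (g * del y) * M * g⁻¹ by group, hcen y hy g]
      group
    have h4 : g * (del y * M) * g⁻¹ = del (x * y) * M := by
      rw [← hMM, ← hMM]
      have h1 := m_conj D (S.swap.tor_adm D hx)
        ((S.pairMul ha hs (c * c * ν / (y * y))).smul (y * y))
      rw [act_smul, S.swap.tor_perp D x he hf hs' hs, act_smul,
        show act π (S.swap.tor D x) S.s = x⁻¹ • S.s from S.swap.tor_s' D hx, smul_smul, smul_smul,
        smul_smul] at h1
      have h2 := m_conj D (S.tor_adm D hx)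
        ((S.pairMul ha hs (x⁻¹ * (c * c * ν / (y * y)) * x⁻¹)).smul (x * (y * y)))
      rw [act_smul, S.tor_perp D x he hf hs hs', act_smul, S.tor_s D hx, smul_smul, smul_smul,
        smul_smul] at h2
      rw [hg, mul_inv_rev, show S.tor D x * S.swap.tor D x *
        mEl D ((y * y) • a) ((c * c * ν / (y * y)) • S.s) *
        ((S.swap.tor D x)⁻¹ * (S.tor D x)⁻¹) = S.tor D x * (S.swap.tor D x *
          mEl D ((y * y) • a) ((c * c * ν / (y * y)) • S.s) *
        (S.swap.tor D x)⁻¹) * (S.tor D x)⁻¹ by group, h1, h2]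
      congr 2
      · ring
      · field_simp
    rw [h4, ← mul_assoc] at h3
    rw [mul_right_cancel h3, hcen y hy]
  have hone : del 1 = 1 := by
    have := hmul 1 1 one_ne_zero one_ne_zero
    rw [mul_one] at this
    exact left_eq_mul.1 this
  let δ : Fˣ →* E :=
    { toFun := fun x => del x
      map_one' := by simpa using hone
      map_mul' := fun x y => by rw [Units.val_mul]; exact hmul _ _ x.ne_zero y.ne_zero }
  have h1 : del c ^ (Fintype.card F - 1) = 1 := by
    have := congrArg δ (pow_card_eq_one (x := Units.mk0 c hc))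
    rw [map_pow, map_one, Fintype.card_units] at this
    exact this
  obtain ⟨p, hchar⟩ := CharP.exists F
  obtain ⟨n, hp, hcard⟩ := FiniteField.card F p
  have h2 : del c ^ p = 1 := by
    have hp0 : ((p : ℕ) : F) = 0 := CharP.cast_eq_zero F p
    have hc2 : Commute (del c) M := (hcen c hc M).symm
    have e : (del c * M) ^ p = del c ^ p * M ^ p := hc2.mul_pow p
    have eM : M ^ p = 1 := by rw [hM, m_pow D (S.pairMul ha hs _), hp0, zero_smul, m_zero_left]
    rw [show del c * M = mEl D ((c * c) • a) ((c * c * ν / (c * c)) • S.s) by simp [del],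
      m_pow D ((S.pairMul ha hs _).smul _), hp0, zero_smul, m_zero_left, eM, mul_one] at e
    exact e.symm
  have hg : Nat.gcd (Fintype.card F - 1) p = 1 := by
    refine Nat.Coprime.symm ((Nat.Prime.coprime_iff_not_dvd hp).2 fun hd => ?_)
    have hdq : p ∣ Fintype.card F := hcard ▸ dvd_pow_self p n.ne_zero
    have h1le : 1 ≤ Fintype.card F := Fintype.card_pos
    have := Nat.dvd_sub hdq hd
    rw [Nat.sub_sub_self h1le] at this
    exact hp.not_dvd_one this
  have h3 : del c ^ Nat.gcd (Fintype.card F - 1) p = 1 := pow_gcd_eq_one.mpr ⟨h1, h2⟩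
  rw [hg, pow_one, mul_inv_eq_one] at h3
  rw [← h3]
  congr 2
  field_simp

theorem m_add_scalar {a : V} (ha : a ∈ L.W) (hs : polar Q S.s a = 0) (c d : F) :
    mEl D a ((c + d) • S.s) = mEl D a (c • S.s) * mEl D a (d • S.s) := by
  have h := S.pairMul ha hs c
  have h' := S.pairMul ha hs d
  rw [add_smul, m_add_right D h h' (by rw [polar_smul_left, polar_smul_right, S.hs.pol_ee]; simp),
    sub_eq_add_neg, ← neg_smul, smul_smul, m_add D h'
      ⟨L.W.smul_mem _ S.smem, L.W.smul_mem _ S.smem, h'.sing,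
        by rw [polar_smul_left, polar_smul_right, S.hs.pol_ee]; simp⟩,
    S.m_self_s D, mul_one]

/-- The scalar moves from one argument of the middle element to the other. -/
theorem scale [Finite F] (H : Ext π) {a : V} (ha : a ∈ L.W) (hs : polar Q S.s a = 0) (μ : F) :
    mEl D a (μ • S.s) = mEl D (μ • a) S.s := by
  set α := polar Q S.s' a with hα
  set a₂ := a - α • S.s with ha₂
  have hm₂ : a₂ ∈ L.W := sub_mem ha (L.W.smul_mem _ S.smem)
  have h1 : polar Q S.s a₂ = 0 := by rw [ha₂, polar_sub_right, polar_smul_right, hs, S.hs.pol_ee]; simp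
  have h2 : polar Q S.s' a₂ = 0 := by
    rw [ha₂, polar_sub_right, polar_smul_right, S.hs.pol']; simp [hα]
  have hsame : ∀ ν : F, MPair L (α • S.s) (ν • S.s) := fun ν =>
    S.pairMul (L.W.smul_mem _ S.smem) (by rw [polar_smul_right, S.hs.pol_ee]; simp) ν
  have e : a = a₂ + α • S.s := by rw [ha₂]; module
  have key : ∀ c : F, mEl D a₂ ((c * c) • S.s) = mEl D ((c * c) • a₂) S.s := by
    intro c
    rcases eq_or_ne c 0 with rfl | hc
    · rw [zero_mul, zero_smul, zero_smul, m_zero_right, m_zero_left]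
    have := S.scale_sq D H hm₂ h1 h2 hc 1
    rwa [mul_one, one_smul] at this
  obtain ⟨c, d, rfl⟩ := exists_two_squares μ
  rw [e, m_add D (S.pairMul hm₂ h1 _) (hsame _), S.m_self_s D, mul_one, smul_add,
    m_add D ((S.pairS hm₂ h1).smul _)
      (((S.pairS (L.W.smul_mem _ S.smem) (by rw [polar_smul_right, S.hs.pol_ee]; simp))).smul _),
    smul_smul]
  have := S.m_self_s D ((c * c + d * d) * α) 1
  rw [one_smul] at this
  rw [this, mul_one, S.m_add_scalar D hm₂ h1, key, key, add_smul,
    m_add D ((S.pairS hm₂ h1).smul _) ((S.pairS hm₂ h1).smul _)]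

theorem x_comm_y (a c : F) :
    Commute (D.X (a • S.s)) (D.Y (c • S.s)) := by
  have h : (D.Y (c • S.s))⁻¹ * D.X (a • S.s) * D.Y (c • S.s) = D.X (a • S.s) := by
    rw [move_eq, S.m_self_s D, one_mul, Q_smul, S.hs.left]
    simp
  rw [mul_assoc, inv_mul_eq_iff_eq_mul] at h
  exact h

/-- The two middle elements attached to `(v, s)` agree. -/
theorem m_symm (H : Ext π) {v : V} (hv : v ∈ L.W) (hs : polar Q S.s v = 0)
    (hs' : polar Q S.s' v = 0) : mEl D.symm v S.s = mEl D v S.s := by
  have R := S.fam_rel D H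
  have R' := S.swap.fam_rel D H
  set n := wElt (S.fam D) true 1 with hn
  set n' := wElt (S.swap.fam D) true 1 with hn'
  have he := L.perp_e hv
  have hf := L.perp_f hv
  have hp : MPair L v S.s := S.pairS hv hs
  have hp' : MPair L.symm v S.s := ⟨hv, S.smem, S.hs.left, hp.perp⟩
  have fixn : act π n v = v := S.n_perp D 1 he hf hs hs'
  have fixn' : act π n' v = v := S.swap.n_perp D 1 he hf hs' hs
  have nf : act π n L.f = -S.s := by
    have := S.n_f D (one_ne_zero (α := F))
    rwa [one_smul] at this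
  have n'e : act π n' L.e = -S.s := by
    have := S.swap.n_e D (one_ne_zero (α := F))
    rwa [inv_one, one_smul] at this
  have himg : sg Q (-S.s) v = sg Q S.s (-v) := by
    rw [show -S.s = (-1 : F) • S.s by simp, sg_smul_left _ ⟨S.hs.left, hs⟩]; simp
  -- first conjugate
  have e1 : n * D.Y v * n⁻¹ = mEl D.symm v S.s := by
    have hyv : S.fam D false (-1) * D.Y v * (S.fam D false (-1))⁻¹ = D.Y v := by
      rw [mul_inv_eq_iff_eq_mul, fam, ← D.y_add _ (L.W.smul_mem _ S.smem') _ hv, add_comm,
        D.y_add _ hv _ (L.W.smul_mem _ S.smem')]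
    have hxv : S.fam D true 1 * D.Y v * (S.fam D true 1)⁻¹ =
        mEl D.symm v S.s * D.Y (v - Q v • S.s) := by
      rw [fam, one_smul, D.x_neg S.smem, inv_inv]
      exact move_eq D.symm v S.s
    set m' := mEl D.symm v S.s with hm'
    set z := act π m'⁻¹ ((-1 : F) • S.s') with hz
    have hm'A : Adm π L m'⁻¹ 1 := Adm.of_sg S.smem hv ⟨S.hs.left, hs⟩ (by
      rw [map_inv, hm', m_map D.symm hp', ← sg_neg hp'.sp, neg_neg])
    have hzm : z ∈ L.W := hm'A.w_mem _ (L.W.smul_mem _ S.smem')
    have hym : S.fam D false (-1) * m' = m' * D.Y z := by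
      have := D.y_conj _ 1 hm'A _ (L.W.smul_mem (-1) S.smem')
      rw [inv_one, one_smul, inv_inv, ← hz] at this
      rw [fam, ← this, ← mul_assoc, ← mul_assoc, mul_inv_cancel, one_mul]
    set w := z + (v - Q v • S.s) - (-1 : F) • S.s' with hw
    have hwm : w ∈ L.W := sub_mem (add_mem hzm hp.mem) (L.W.smul_mem _ S.smem')
    have e : n * D.Y v * n⁻¹ = m' * D.Y w := by
      rw [hn, w_swap R true one_ne_zero, inv_one, wElt, Bool.not_true, Bool.not_false, inv_neg,
        inv_one, neg_neg,
        show S.fam D false (-1) * S.fam D true 1 * S.fam D false (-1) * D.Y v *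
          (S.fam D false (-1) * S.fam D true 1 * S.fam D false (-1))⁻¹ =
          S.fam D false (-1) * (S.fam D true 1 * (S.fam D false (-1) * D.Y v *
            (S.fam D false (-1))⁻¹) * (S.fam D true 1)⁻¹) * (S.fam D false (-1))⁻¹ by group,
        hyv, hxv, ← mul_assoc (S.fam D false (-1)), hym, fam,
        mul_assoc m', ← D.y_add _ hzm _ hp.mem, mul_assoc m', ← D.y_neg (L.W.smul_mem _ S.smem'),
        ← D.y_add _ (add_mem hzm hp.mem) _ (neg_mem (L.W.smul_mem _ S.smem')), ← sub_eq_add_neg, hw]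
    have h1 : π (D.Y w) = π (D.Y 0) := by
      have h2 := congrArg π e
      rw [map_mul, map_mul, map_inv, D.y_map v hv, sg_conj _ (L.sp_f hv),
        show (π n).1 L.f = -S.s from nf, show (π n).1 v = v from fixn, himg, map_mul, hm',
        m_map D.symm hp'] at h2
      rw [left_eq_mul.1 h2, D.y_zero, map_one]
    rw [e, D.y_inj hwm L.W.zero_mem h1, D.y_zero, mul_one]
  -- second conjugate
  have e2 : n' * D.X v * n'⁻¹ = mEl D v S.s := by
    have hxv : S.swap.fam D true 1 * D.X v * (S.swap.fam D true 1)⁻¹ = D.X v := by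
      rw [mul_inv_eq_iff_eq_mul, fam]
      exact D.x_comm (neg_mem (L.W.smul_mem _ S.smem')) hv
    have hyv : S.swap.fam D false (-1) * D.X v * (S.swap.fam D false (-1))⁻¹ =
        mEl D v S.s * D.X (v - Q v • S.s) := by
      rw [fam, show ((-1 : F) • S.swap.s') = -S.s by simp [Sub.swap], D.y_neg S.smem, inv_inv]
      exact move_eq D v S.s
    set m := mEl D v S.s with hm
    set z := act π m⁻¹ (-((1 : F) • S.s')) with hz
    have hmA : Adm π L m⁻¹ 1 := Adm.of_sg S.smem hv ⟨S.hs.left, hs⟩ (by
      rw [map_inv, hm, m_map D hp, ← sg_neg hp.sp, neg_neg])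
    have hzm : z ∈ L.W := hmA.w_mem _ (neg_mem (L.W.smul_mem _ S.smem'))
    have hxm : S.swap.fam D true 1 * m = m * D.X z := by
      have := D.x_conj _ 1 hmA _ (neg_mem (L.W.smul_mem (1 : F) S.smem'))
      rw [one_smul F (act π m⁻¹ _), inv_inv, ← hz] at this
      rw [fam, ← this, ← mul_assoc, ← mul_assoc, mul_inv_cancel, one_mul]
      rfl
    set w := z + (v - Q v • S.s) - -((1 : F) • S.s') with hw
    have hwm : w ∈ L.W :=
      sub_mem (add_mem hzm hp.mem) (neg_mem (L.W.smul_mem _ S.smem'))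
    have e : n' * D.X v * n'⁻¹ = m * D.X w := by
      rw [hn', wElt, Bool.not_true, inv_one,
        show S.swap.fam D true 1 * S.swap.fam D false (-1) * S.swap.fam D true 1 * D.X v *
          (S.swap.fam D true 1 * S.swap.fam D false (-1) * S.swap.fam D true 1)⁻¹ =
          S.swap.fam D true 1 * (S.swap.fam D false (-1) * (S.swap.fam D true 1 * D.X v *
            (S.swap.fam D true 1)⁻¹) * (S.swap.fam D false (-1))⁻¹) * (S.swap.fam D true 1)⁻¹ by group,
        hxv, hyv, ← mul_assoc (S.swap.fam D true 1), hxm, fam,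
        mul_assoc m, ← D.x_add _ hzm _ hp.mem, mul_assoc m,
        show D.X (-((1 : F) • S.swap.s)) = D.X (-((1 : F) • S.s')) from rfl,
        ← D.x_neg (neg_mem (L.W.smul_mem _ S.smem')),
        ← D.x_add _ (add_mem hzm hp.mem) _ (neg_mem (neg_mem (L.W.smul_mem _ S.smem'))),
        ← sub_eq_add_neg, hw]
    have h1 : π (D.X w) = π (D.X 0) := by
      have h2 := congrArg π e
      rw [map_mul, map_mul, map_inv, D.x_map v hv, sg_conj _ (L.sp_e hv),
        show (π n').1 L.e = -S.s from n'e, show (π n').1 v = v from fixn', himg, map_mul, hm,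
        m_map D hp] at h2
      rw [left_eq_mul.1 h2, D.x_zero, map_one]
    rw [e, D.x_inj hwm L.W.zero_mem h1, D.x_zero, mul_one]
  -- the element exchanging the two root groups
  set w := n'⁻¹ * n with hw
  have conj_w : ∀ g, w * g * w⁻¹ = n'⁻¹ * (n * g * n⁻¹) * n' := fun g => by rw [hw]; group
  have hws : ∀ γ : F, w * D.Y (γ • S.s) * w⁻¹ = D.X (γ • S.s') := by
    intro γ
    have hc : Commute n (D.Y (γ • S.s)) := by
      have hx : ∀ t, Commute (S.fam D true t) (D.Y (γ • S.s)) := fun t => by
        rw [fam, ← neg_smul]; exact S.x_comm_y D _ _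
      have hy : ∀ t, Commute (S.fam D false t) (D.Y (γ • S.s)) := fun t => by
        rw [fam]
        exact (D.y_add _ (L.W.smul_mem _ S.smem') _ (L.W.smul_mem _ S.smem)).symm.trans
          (by rw [add_comm, D.y_add _ (L.W.smul_mem _ S.smem) _ (L.W.smul_mem _ S.smem')])
      exact ((hx 1).mul_left (hy _)).mul_left (hx 1)
    have h := R'.conj true 1 (-γ) one_ne_zero
    simp only [inv_one, one_pow, one_mul, neg_neg, Bool.not_true] at h
    rw [conj_w, hc.eq, mul_inv_cancel_right,
      show D.Y (γ • S.s) = S.swap.fam D false γ from rfl, ← h, ← hn']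
    simp only [fam, Sub.swap, neg_smul, neg_neg]
    group
  have hws' : ∀ γ : F, w * D.Y (γ • S.s') * w⁻¹ = D.X (γ • S.s) := by
    intro γ
    have h := R.conj false (-1) γ (neg_ne_zero.2 one_ne_zero)
    have hsw : wElt (S.fam D) false (-1) = n := by
      rw [hn, w_swap R true one_ne_zero, Bool.not_true, inv_one]
    simp only [inv_neg, inv_one, neg_sq, one_pow, one_mul, Bool.not_false] at h
    rw [hsw] at h
    have hc : Commute n' (D.X (γ • S.s)) := by
      have hx : ∀ t, Commute (S.swap.fam D true t) (D.X (γ • S.s)) := fun t => by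
        rw [fam]; exact D.x_comm (neg_mem (L.W.smul_mem _ S.smem')) (L.W.smul_mem _ S.smem)
      have hy : ∀ t, Commute (S.swap.fam D false t) (D.X (γ • S.s)) := fun t =>
        (S.x_comm_y D γ t).symm
      exact ((hx 1).mul_left (hy _)).mul_left (hx 1)
    rw [conj_w, show D.Y (γ • S.s') = S.fam D false γ from rfl, h, fam, neg_smul, neg_neg,
      mul_assoc, ← hc.eq, inv_mul_cancel_left]
  have hwv : w * D.Y v * w⁻¹ = D.X v := by
    have hsp : SPair Q S.s' v := ⟨S.hs.right, hs'⟩
    obtain ⟨d, hd⟩ := H.lift _ _ hsp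
    have hdA : Adm π L d 1 := Adm.of_sg S.smem' hv hsp hd
    have hds : act π d S.s = S.s + (v - Q v • S.s') := by
      rw [act, hd, sg_apply hsp, S.hs.pol', (polar_comm Q v S.s).trans hs]
      simp [add_sub_assoc]
    have hmem : v - Q v • S.s' ∈ L.W := sub_mem hv (L.W.smul_mem _ S.smem')
    have hcomm : D.Y v = ⁅d, D.Y S.s⁆ * D.Y (Q v • S.s') := by
      rw [commutatorElement_def, D.y_conj d 1 hdA _ S.smem, inv_one, one_smul, hds,
        D.y_add _ S.smem _ hmem, ← D.y_neg S.smem, ← D.y_add _ S.smem _ hmem,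
        ← D.y_add _ (add_mem S.smem hmem) _ (neg_mem S.smem),
        ← D.y_add _ (add_mem (add_mem S.smem hmem) (neg_mem S.smem)) _ (L.W.smul_mem _ S.smem')]
      congr 1
      module
    have hspA : SPair Q S.s v := ⟨S.hs.left, hs⟩
    have n's : act π w S.s' = S.s := by
      have hh : act π n' S.s = L.e := by
        have := S.swap.n_s' D (one_ne_zero (α := F))
        rwa [one_smul] at this
      rw [hw, act_mul, S.n_s' D one_ne_zero, one_smul, ← hh, act_inv_act]
    have n'v : act π w v = v := by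
      rw [hw, act_mul, fixn]; conv_lhs => rw [← fixn', act_inv_act]
    have hA : π (w * d * w⁻¹) = sg Q S.s v := by
      rw [map_mul, map_mul, map_inv, hd, sg_conj _ hsp, show (π w).1 S.s' = S.s from n's,
        show (π w).1 v = v from n'v]
    have hAA : Adm π L (w * d * w⁻¹) 1 := Adm.of_sg S.smem hv hspA hA
    have hAs' : act π (w * d * w⁻¹) S.s' = S.s' + (v - Q v • S.s) := by
      rw [act, hA, sg_apply hspA, S.hs.pol, (polar_comm Q v S.s').trans hs']
      simp [add_sub_assoc]
    have hY1 : w * D.Y S.s * w⁻¹ = D.X S.s' := by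
      have := hws 1
      rwa [one_smul, one_smul] at this
    rw [hcomm, show w * (⁅d, D.Y S.s⁆ * D.Y (Q v • S.s')) * w⁻¹ =
      ⁅w * d * w⁻¹, w * D.Y S.s * w⁻¹⁆ * (w * D.Y (Q v • S.s') * w⁻¹) by
        simp only [commutatorElement_def]; group, hY1, hws', commutatorElement_def,
      D.x_conj _ 1 hAA _ S.smem', one_smul, hAs', ← D.x_neg S.smem',
      ← D.x_add _ (add_mem S.smem' hp.mem) _ (neg_mem S.smem'),
      ← D.x_add _ (add_mem (add_mem S.smem' hp.mem) (neg_mem S.smem')) _ (L.W.smul_mem _ S.smem)]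
    congr 1
    module
  rw [← e1, ← e2, ← hwv, conj_w]
  group

/-- The level below. -/
def level : Level Q where
  e := S.s
  f := S.s'
  W := L.W ⊓ core Q S.s S.s'
  hp := S.hs
  le := inf_le_right
  ndW x hx h := L.ndW x hx.1 fun y hy => by
    have h1 := h _ (S.rest_mem hy)
    rw [polar_sub_right, polar_sub_right, polar_smul_right, polar_smul_right,
      (polar_comm Q x S.s).trans hx.2.1, (polar_comm Q x S.s').trans hx.2.2] at h1
    simpa using h1

theorem adm_of_level {g : E} {c : F} (hg : Adm π S.level g c) : Adm π L g 1 := by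
  have hout : ∀ x, polar Q S.s x = 0 → polar Q S.s' x = 0 →
      (∀ w ∈ L.W ⊓ core Q S.s S.s', polar Q w x = 0) → act π g x = x :=
    fun x h1 h2 h3 => hg.out_eq x ⟨h1, h2, h3⟩
  refine ⟨?_, ?_, fun w hw => ?_, fun x hx => ?_⟩
  · rw [one_smul]
    exact hout _ (L.perp_e' S.smem) (L.perp_e' S.smem') fun w hw => L.perp_e' hw.1
  · rw [inv_one, one_smul]
    exact hout _ (L.perp_f' S.smem) (L.perp_f' S.smem') fun w hw => L.perp_f' hw.1
  · have hr := S.rest_mem hw
    set r := w - polar Q S.s' w • S.s - polar Q S.s w • S.s' with hrdef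
    have h : w = polar Q S.s' w • S.s + polar Q S.s w • S.s' + r := by rw [hrdef]; module
    rw [h, act_add, act_add, act_smul, act_smul, show act π g S.s = c • S.s from hg.e_eq,
      show act π g S.s' = c⁻¹ • S.s' from hg.f_eq]
    exact add_mem (add_mem (L.W.smul_mem _ (L.W.smul_mem _ S.smem))
      (L.W.smul_mem _ (L.W.smul_mem _ S.smem'))) (hg.w_mem r hr).1
  · exact hout _ (hx.2.2 _ S.smem) (hx.2.2 _ S.smem') fun w hw => hx.2.2 w hw.1

theorem perp_level {v : V} (hv : v ∈ S.level.W) : polar Q S.s v = 0 ∧ polar Q S.s' v = 0 :=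
  ⟨hv.2.1, hv.2.2⟩

theorem pair_level {v : V} (hv : v ∈ S.level.W) : MPair L (-v) S.s :=
  S.pairS (neg_mem hv.1) (by rw [polar_neg_right, (S.perp_level hv).1, neg_zero])

theorem pair_level' {v : V} (hv : v ∈ S.level.W) : MPair L (-v) S.s' :=
  S.swap.pairS (neg_mem hv.1) (by
    show polar Q S.s' (-v) = 0
    rw [polar_neg_right, (S.perp_level hv).2, neg_zero])

/-- The data of the level below. -/
noncomputable def data [Finite F] (H : Ext π) : Data π S.level where
  X v := mEl D (-v) S.s
  Y v := mEl D (-v) S.s'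
  x_map v hv := by rw [m_map D (S.pair_level hv), neg_neg]; rfl
  y_map v hv := by rw [m_map D (S.pair_level' hv), neg_neg]; rfl
  x_add v hv w hw := by rw [neg_add, m_add D (S.pair_level hv) (S.pair_level hw)]
  y_add v hv w hw := by rw [neg_add, m_add D (S.pair_level' hv) (S.pair_level' hw)]
  x_conj g c hg v hv := by
    have hgw := hg.w_mem v hv
    rw [m_conj D (S.adm_of_level hg) (S.pair_level hv), one_smul, inv_one, one_smul,
      show act π g S.s = c • S.s from hg.e_eq, act_neg,
      S.scale D H (neg_mem hgw.1) (S.pair_level hgw).perp', smul_neg]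
  y_conj g c hg v hv := by
    have hgw := hg.w_mem v hv
    rw [m_conj D (S.adm_of_level hg) (S.pair_level' hv), one_smul, inv_one, one_smul,
      show act π g S.s' = c⁻¹ • S.s' from hg.f_eq, act_neg]
    show mEl D (-act π g v) (c⁻¹ • S.swap.s) = mEl D (-(c⁻¹ • act π g v)) S.swap.s
    rw [S.swap.scale D H (neg_mem hgw.1) (S.pair_level' hgw).perp', smul_neg]

end Sub

end Cfsg.Agent.Lib.OrthMult
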