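import Cfsg.Agent.Lib.OrthMult.TopP

/-!
An additive equivariant family of lifts of the root group of a big level.
-/

set_option autoImplicit false

namespace Cfsg.Agent.Lib.OrthMult

open Module QuadraticMap Cfsg.Agent.Lib.Forms Cfsg.Agent.Lib.OrthOmega
open scoped commutatorElement

variable {F : Type*} [Field F] {V : Type*} [AddCommGroup V] [Module F V]
variable {Q : QuadraticForm F V} {E : Type*} [Group E] {π : E →* orth Q} {L : Level Q}
variable [Finite F] [FiniteDimensional F V]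

open Classical in
/-- The lift attached to a singular vector. -/
noncomputable def chi (π : E →* orth Q) (L : Level Q) (t : V) : E :=
  if h : ∃ p : V × V, p.1 ∈ L.W ∧ polar Q t p.1 = 0 ∧ p.2 ∈ L.W ∧ polar Q t p.2 = 0 ∧
      polar Q p.1 p.2 = 1 then pp π L t h.choose.1 h.choose.2 else 1

variable (H : Ext π) (B : Big L)

include H B

theorem exists_ab {t : V} (ht : t ∈ L.W) (hq : Q t = 0) :
    ∃ p : V × V, p.1 ∈ L.W ∧ polar Q t p.1 = 0 ∧ p.2 ∈ L.W ∧ polar Q t p.2 = 0 ∧
      polar Q p.1 p.2 = 1 := by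
  rcases eq_or_ne t 0 with rfl | h0
  · obtain ⟨s, s', h⟩ := L.exists_in (by have := B.dim; omega)
    exact ⟨(s, s'), h.mem, by simp, h.mem', by simp, h.hp.pol⟩
  obtain ⟨t', h⟩ := L.exists_in_of_singular ht h0 hq
  obtain ⟨r, r', h'⟩ := (Level.inner h).exists_in (by
    have := Level.le_finrank_inner h; have := B.dim; omega)
  exact ⟨(r, r'), h'.mem.1, h'.mem.2.1, h'.mem'.1, h'.mem'.2.1, h'.hp.pol⟩

theorem chi_spec {t : V} (ht : t ∈ L.W) (hq : Q t = 0) :
    ∃ a b, a ∈ L.W ∧ polar Q t a = 0 ∧ b ∈ L.W ∧ polar Q t b = 0 ∧ polar Q a b = 1 ∧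
      chi π L t = pp π L t a b := by
  have h := exists_ab H B ht hq
  obtain ⟨h1, h2, h3, h4, h5⟩ := h.choose_spec
  exact ⟨_, _, h1, h2, h3, h4, h5, by rw [chi, dif_pos h]⟩

omit [Finite F] [FiniteDimensional F V] B in
theorem pp_t_zero (a b : V) : pp π L 0 a b = 1 := by
  rw [pp, H.comm_congr (a' := lf π L.e a) (b' := 1) rfl ?_]
  · exact commutatorElement_one_right _
  · rw [lf_map H, map_one]
    refine orth_ext fun x => ?_
    rw [sg_apply ⟨QuadraticMap.map_zero _, by rw [polar_zero_left]⟩]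
    simp

theorem chi_zero : chi π L 0 = 1 := by
  obtain ⟨a, b, -, -, -, -, -, e⟩ := chi_spec H B L.W.zero_mem (QuadraticMap.map_zero Q)
  rw [e, pp_t_zero H]

theorem chi_eq {t a b : V} (ht : t ∈ L.W) (hq : Q t = 0) (ha : a ∈ L.W) (hta : polar Q t a = 0)
    (hb : b ∈ L.W) (htb : polar Q t b = 0) : pp π L t a b = chi π L (polar Q a b • t) := by
  set x := polar Q a b with hx
  rcases eq_or_ne x 0 with h0 | h0
  · rw [h0, zero_smul, chi_zero H B,
      pp_const H B ht hq ha hta hb htb L.W.zero_mem (by simp) hb htb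
        (by rw [polar_zero_left]; exact h0),
      pp_zero_left H ht hq]
  obtain ⟨c, d, hc, hxc, hd, hxd, hcd, e⟩ :=
    chi_spec H B (L.W.smul_mem x ht) (by rw [Q_smul, hq, mul_zero])
  rw [polar_smul_left, smul_eq_mul, mul_eq_zero] at hxc hxd
  replace hxc := hxc.resolve_left h0
  replace hxd := hxd.resolve_left h0
  have e2 : pp π L (x • t) c d = pp π L t c (x • d) :=
    H.comm_congr rfl (by rw [lf_map H, lf_map H, sg_smul_left _ ⟨hq, hxd⟩])
  rw [e, e2]
  exact pp_const H B ht hq ha hta hb htb hc hxc (L.W.smul_mem _ hd)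
    (by rw [polar_smul_right, hxd, smul_zero])
    (by rw [polar_smul_right, hcd, smul_eq_mul, mul_one])

theorem chi_map {t : V} (ht : t ∈ L.W) (hq : Q t = 0) : π (chi π L t) = sg Q L.e t := by
  obtain ⟨a, b, ha, hta, hb, htb, hab, e⟩ := chi_spec H B ht hq
  rw [e, pp_map H ht hq ha hta hb htb, hab, one_smul]

theorem chi_conj {g : E} {c : F} (hg : Adm π L g c) {t : V} (ht : t ∈ L.W) (hq : Q t = 0) :
    g * chi π L t * g⁻¹ = chi π L (c • act π g t) := by
  obtain ⟨a, b, ha, hta, hb, htb, hab, e⟩ := chi_spec H B ht hq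
  have e1 := conj_comm_lf H g (L.sp_e ha) (⟨hq, htb⟩ : SPair Q t b)
  rw [hg.e_eq] at e1
  have e2 : ⁅lf π (c • L.e) (act π g a), lf π (act π g t) (act π g b)⁆ =
      pp π L (act π g t) (c • act π g a) (act π g b) :=
    H.comm_congr (by rw [lf_map H, lf_map H, sg_smul_left _ (L.sp_e (hg.w_mem _ ha))]) rfl
  rw [e, show g * pp π L t a b * g⁻¹ = _ from e1.trans e2,
    chi_eq H B (hg.w_mem _ ht) (by rw [Q_act, hq]) (L.W.smul_mem _ (hg.w_mem _ ha))
      (by rw [polar_smul_right, polar_act, hta, smul_zero]) (hg.w_mem _ hb) (by rw [polar_act, htb]),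
    polar_smul_left, polar_act, hab, smul_eq_mul, mul_one]

theorem chi_add {t₁ t₂ : V} (h₁ : t₁ ∈ L.W) (h₂ : t₂ ∈ L.W) (q₁ : Q t₁ = 0) (q₂ : Q t₂ = 0)
    (h : polar Q t₁ t₂ = 0) : chi π L (t₁ + t₂) = chi π L t₁ * chi π L t₂ := by
  rcases eq_or_ne t₁ 0 with rfl | h0
  · rw [chi_zero H B, zero_add, one_mul]
  obtain ⟨t', hI⟩ := L.exists_in_of_singular h₁ h0 q₁
  have hz := hI.proj h₂
  rw [h, zero_smul, sub_zero] at hz
  set x := polar Q t' t₂
  obtain ⟨a, b, ha, hb, hab, ha1, hb1, ha2, hb2⟩ : ∃ a b, a ∈ L.W ∧ b ∈ L.W ∧ polar Q a b = 1 ∧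
      polar Q t₁ a = 0 ∧ polar Q t₁ b = 0 ∧ polar Q t₂ a = 0 ∧ polar Q t₂ b = 0 := by
    have d1 := Level.le_finrank_inner hI
    have := B.dim
    rcases eq_or_ne (t₂ - x • t₁) 0 with hz0 | hz0
    · obtain ⟨r, r', h'⟩ := (Level.inner hI).exists_in (by omega)
      refine ⟨r, r', h'.mem.1, h'.mem'.1, h'.hp.pol, h'.mem.2.1, h'.mem'.2.1, ?_, ?_⟩ <;>
        rw [sub_eq_zero.1 hz0, polar_smul_left]
      · rw [(Level.inner_fst hI h'.mem).2.1, smul_zero]
      · rw [(Level.inner_fst hI h'.mem').2.1, smul_zero]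
    · have hzq : Q (t₂ - x • t₁) = 0 := by
        rw [sub_eq_add_neg, ← neg_smul, Q_add, Q_smul, q₁, q₂, polar_smul_right,
          (polar_comm Q t₂ t₁).trans h]
        simp
      obtain ⟨z', h'⟩ := (Level.inner hI).exists_in_of_singular hz hz0 hzq
      have d2 := Level.le_finrank_inner h'
      obtain ⟨u, hu, hu0⟩ := (Level.inner h').exists_ne_zero (by omega)
      obtain ⟨w, hw, hp⟩ := Level.exists_polar_one (L := Level.inner h') hu hu0
      have aux : ∀ v ∈ (Level.inner h').W, polar Q t₁ v = 0 ∧ polar Q t₂ v = 0 := fun v hv => by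
        have e1 := (Level.inner_fst hI hv.1).2.1
        have e2 := (Level.inner_fst h' hv).2.1
        rw [polar_sub_left, polar_smul_left, e1, smul_zero, sub_zero] at e2
        exact ⟨e1, e2⟩
      exact ⟨u, w, hu.1.1, hw.1.1, hp, (aux u hu).1, (aux w hw).1, (aux u hu).2, (aux w hw).2⟩
  have hbb : b + Q b • t₁ ∈ L.W := add_mem hb (L.W.smul_mem _ h₁)
  have hq12 : Q (t₁ + t₂) = 0 := by rw [Q_add, q₁, q₂, h]; ring
  have hb2' : polar Q t₂ (b + Q b • t₁) = 0 := by
    rw [polar_add_right, polar_smul_right, hb2, (polar_comm Q t₂ t₁).trans h, smul_zero, add_zero]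
  have hfix : act π (lf π t₁ b) t₂ = t₂ := by
    rw [act_lf H ⟨q₁, hb1⟩, h, (polar_comm Q b t₂).trans hb2]; simp
  have e1 := chi_eq H B h₁ q₁ ha ha1 hb hb1
  have e2 := chi_eq H B h₂ q₂ ha ha2 hbb hb2'
  have e3 := chi_eq H B (add_mem h₁ h₂) hq12 ha (by rw [polar_add_left, ha1, ha2, add_zero]) hb
    (by rw [polar_add_left, hb1, hb2, add_zero])
  rw [hab, one_smul] at e1 e3
  rw [polar_add_right, polar_smul_right, hab, (polar_comm Q a t₁).trans ha1, smul_zero, add_zero,
    one_smul] at e2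
  have hsplit : π (lf π (t₁ + t₂) b) = π (lf π t₁ b * lf π t₂ (b + Q b • t₁)) := by
    rw [map_mul, lf_map H, lf_map H, lf_map H,
      sg_add_left q₂ q₁ ((polar_comm Q t₂ t₁).trans h) hb2 hb1, add_comm t₁]
  have e4 := chi_conj H B (adm_lf (L := L) H h₁ hb ⟨q₁, hb1⟩) h₂ q₂
  rw [hfix, one_smul] at e4
  rw [← e3, pp, H.comm_congr (a' := lf π L.e a) rfl hsplit, comm_mul_right]
  show pp π L t₁ a b * (_ * pp π L t₂ a (b + Q b • t₁) * _) = _
  rw [e1, e2, e4]

omit [Finite F] [FiniteDimensional F V] B in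
theorem cpair_ker {x a b : V} (ha : SPair Q x a) (hb : SPair Q x b) :
    π ⁅lf π x a, lf π x b⁆ = 1 := by
  rw [map_commutatorElement, lf_map H, lf_map H, commutatorElement_eq_one_iff_mul_comm,
    sg_mul ha hb, sg_mul hb ha, add_comm]

omit [Finite F] [FiniteDimensional F V] B in
theorem cpair_move {x y z a b : V} (hx : Q x = 0) (hy : Q y = 0) (hz : Q z = 0)
    (hzx : polar Q z x = 1) (hzy : polar Q z y = 1) (hxa : polar Q x a = 0) (hxb : polar Q x b = 0)
    (hya : polar Q y a = 0) (hyb : polar Q y b = 0) (hza : polar Q z a = 0)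
    (hzb : polar Q z b = 0) : ⁅lf π x a, lf π x b⁆ = ⁅lf π y a, lf π y b⁆ := by
  obtain ⟨hs, hmove⟩ := rho_move hz hx hy hzx hzy
  have e := conj_comm_lf H (lf π z (y - x)) (⟨hx, hxa⟩ : SPair Q x a) (⟨hx, hxb⟩ : SPair Q x b)
  have f1 : act π (lf π z (y - x)) x = y := by rw [act, lf_map H, sg_eq hs]; exact hmove
  have f2 : act π (lf π z (y - x)) a = a := by
    rw [act, lf_map H, sg_eq hs]
    exact rho_fix hs hza (by rw [polar_sub_left, hya, hxa, sub_zero])
  have f3 : act π (lf π z (y - x)) b = b := by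
    rw [act, lf_map H, sg_eq hs]
    exact rho_fix hs hzb (by rw [polar_sub_left, hyb, hxb, sub_zero])
  rw [f1, f2, f3, H.ker_conj (cpair_ker H ⟨hx, hxa⟩ ⟨hx, hxb⟩)] at e
  exact e

theorem cc_inner {t t' a b : V} (h : L.In t t') (ha : a ∈ (Level.inner h).W)
    (hb : b ∈ (Level.inner h).W) : cc π L a b = 1 := by
  obtain ⟨haW, hta, ht'a⟩ := Level.inner_fst h ha
  obtain ⟨hbW, htb, ht'b⟩ := Level.inner_fst h hb
  have hea := L.perp_e haW
  have heb := L.perp_e hbW
  have het := L.perp_e h.mem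
  have hfa := L.perp_f haW
  have hfb := L.perp_f hbW
  have hft := L.perp_f h.mem
  have htt : polar Q t t = 0 := h.hp.pol_ee
  set a' := a + Q a • t
  set b' := b + Q b • t
  have ha'W : a' ∈ L.W := add_mem haW (L.W.smul_mem _ h.mem)
  have hb'W : b' ∈ L.W := add_mem hbW (L.W.smul_mem _ h.mem)
  have hta' : polar Q t a' = 0 := by simp [a', polar_add_right, polar_smul_right, hta, htt]
  have htb' : polar Q t b' = 0 := by simp [b', polar_add_right, polar_smul_right, htb, htt]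
  set R := lf π t a with hR
  set S := lf π t b with hS
  set K := chi π L (polar Q a b • t)
  have hK : π K = sg Q L.e (polar Q a b • t) :=
    chi_map H B (L.W.smul_mem _ h.mem) (by rw [Q_smul, h.hp.left, mul_zero])
  have hAS : ⁅lf π L.e a', S⁆ = K := by
    show pp π L t a' b = K
    rw [chi_eq H B h.mem h.hp.left ha'W hta' hbW htb]
    simp [a', K, polar_add_left, polar_smul_left, htb]
  have hRB : ⁅R, lf π L.e b'⁆ = K⁻¹ := by
    rw [← commutatorElement_inv]
    show (pp π L t b' a)⁻¹ = K⁻¹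
    rw [chi_eq H B h.mem h.hp.left hb'W htb' haW hta]
    simp [b', K, polar_add_left, polar_smul_left, hta, polar_comm Q b a]
  set C := ⁅R, S⁆
  have hC : π C = 1 := cpair_ker H ⟨h.hp.left, hta⟩ ⟨h.hp.left, htb⟩
  have hc : cc π L a' b' = cc π L a b := by
    have s1 : ∀ x : F, ∀ c ∈ L.W, polar Q t c = 0 →
        cc π L (x • t) c = 1 ∧ cc π L c (x • t) = 1 := fun x c hc hct => by
      have := cc_sing H B (L.W.smul_mem x h.mem) (by rw [Q_smul, h.hp.left, mul_zero]) hc
        (by rw [polar_smul_left, hct, smul_zero])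
      exact ⟨this, by rw [cc, ← commutatorElement_inv]; exact inv_eq_one.2 this⟩
    rw [cc_add_left H haW (L.W.smul_mem _ h.mem) hb'W, (s1 _ b' hb'W htb').1, mul_one,
      cc_add_right H haW hbW (L.W.smul_mem _ h.mem), (s1 _ a haW hta).2, mul_one]
  have kc := cc_ker H ha'W hb'W
  -- the identity
  have hA : π (lf π (L.e + t) a) = π (R * lf π L.e a') := by
    rw [map_mul, lf_map H, lf_map H, lf_map H, sg_add_left L.hp.left h.hp.left het hea hta]
  have hB' : π (lf π (L.e + t) b) = π (S * lf π L.e b') := by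
    rw [map_mul, lf_map H, lf_map H, lf_map H, sg_add_left L.hp.left h.hp.left het heb htb]
  have key : ⁅lf π (L.e + t) a, lf π (L.e + t) b⁆ = cc π L a b * C := by
    rw [H.comm_congr hA hB', comm_mul_left, comm_mul_right, comm_mul_right, hAS, hRB]
    show R * (K * (S * cc π L a' b' * S⁻¹)) * R⁻¹ * (C * (S * K⁻¹ * S⁻¹)) = _
    have fS : S * K⁻¹ * S⁻¹ = K⁻¹ := by
      rw [show S * K⁻¹ * S⁻¹ = (S * K * S⁻¹)⁻¹ by group,
        fix_self H B h.mem h.hp.left hbW htb _ hK, mul_inv_cancel_right]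
    rw [H.ker_conj kc, fS,
      show R * (K * cc π L a' b') * R⁻¹ = (R * K * R⁻¹) * (R * cc π L a' b' * R⁻¹) by group,
      H.ker_conj kc, fix_self H B h.mem h.hp.left haW hta _ hK, mul_inv_cancel_right, hc, mul_assoc,
      ← mul_assoc (cc π L a b)]
    rw [← mul_assoc K]
    exact H.ker_conj (x := cc π L a b * C) (by rw [map_mul, cc_ker H haW hbW, one_mul]; exact hC) K
  -- the three vectors are interchangeable
  have hQet : Q (L.e + t) = 0 := by rw [Q_add, L.hp.left, h.hp.left, het]; ring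
  have heta : polar Q (L.e + t) a = 0 := by rw [polar_add_left, hea, hta, add_zero]
  have hetb : polar Q (L.e + t) b = 0 := by rw [polar_add_left, heb, htb, add_zero]
  have hfe : polar Q L.f L.e = 1 := L.hp.pol'
  have m1 : ⁅lf π L.e a, lf π L.e b⁆ = ⁅lf π (L.e + t) a, lf π (L.e + t) b⁆ :=
    cpair_move H L.hp.left hQet L.hp.right hfe (by rw [polar_add_right, hfe, hft, add_zero])
      hea heb heta hetb hfa hfb
  have m2 : ⁅lf π L.e a, lf π L.e b⁆ = C := by
    refine cpair_move H (z := L.f + t') L.hp.left h.hp.left ?_ ?_ ?_ hea heb hta htb ?_ ?_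
    · rw [Q_add, L.hp.right, h.hp.right, L.perp_f h.mem']; ring
    · rw [polar_add_left, hfe, L.perp_e' h.mem', add_zero]
    · rw [polar_add_left, hft, h.hp.pol', zero_add]
    · rw [polar_add_left, hfa, ht'a, add_zero]
    · rw [polar_add_left, hfb, ht'b, add_zero]
  rw [← m1, ← m2] at key
  exact left_eq_mul.1 key

/-- The lifts of the root group commute. -/
theorem cc_one {a b : V} (ha : a ∈ L.W) (hb : b ∈ L.W) : cc π L a b = 1 := by
  obtain ⟨s, s', hs⟩ := L.exists_in (by have := B.dim; omega)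
  have hsing : ∀ x y, x ∈ L.W → y ∈ L.W → Q x = 0 → Q y = 0 → cc π L x y = 1 := by
    intro x y hx hy qx qy
    by_cases hxy : polar Q x y = 0
    · exact cc_sing H B hx qx hy hxy
    have h0 : L.In x ((polar Q x y)⁻¹ • y) :=
      ⟨⟨qx, by rw [Q_smul, qy, mul_zero],
        by rw [polar_smul_right, smul_eq_mul, inv_mul_cancel₀ hxy]⟩, hx, L.W.smul_mem _ hy⟩
    obtain ⟨t, t', ht⟩ := (Level.inner h0).exists_in (by
      have := Level.le_finrank_inner h0; have := B.dim; omega)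
    have e : ∀ v ∈ (Level.inner h0).W, polar Q v x = 0 ∧ polar Q v y = 0 := fun v hv => by
      have e1 := (Level.inner_fst h0 hv).2.2
      rw [polar_smul_left, smul_eq_mul, mul_eq_zero] at e1
      exact ⟨(polar_comm Q v x).trans (Level.inner_fst h0 hv).2.1,
        (polar_comm Q v y).trans (e1.resolve_left (inv_ne_zero hxy))⟩
    exact cc_inner H B (Level.In.of_inner ht)
      ⟨hx, (e t ht.mem).1, (e t' ht.mem').1⟩ ⟨hy, (e t ht.mem).2, (e t' ht.mem').2⟩
  have hs1 : ∀ x, x ∈ L.W → Q x = 0 → cc π L x b = 1 := by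
    intro x hx qx
    obtain ⟨a₁, a₂, a₃, ⟨m1, q1⟩, ⟨m2, q2⟩, ⟨m3, q3⟩, e⟩ := hs.exists_three hb
    rw [e, cc_add_right H hx (add_mem m1 m2) m3, cc_add_right H hx m1 m2, hsing x _ hx m1 qx q1,
      hsing x _ hx m2 qx q2, hsing x _ hx m3 qx q3, one_mul, one_mul]
  obtain ⟨a₁, a₂, a₃, ⟨m1, q1⟩, ⟨m2, q2⟩, ⟨m3, q3⟩, e⟩ := hs.exists_three ha
  rw [e, cc_add_left H (add_mem m1 m2) m3 hb, cc_add_left H m1 m2 hb, hs1 _ m1 q1, hs1 _ m2 q2,
    hs1 _ m3 q3, one_mul, one_mul]

theorem e_comm {x y : E} {a b : V} (ha : a ∈ L.W) (hb : b ∈ L.W) (hx : π x = sg Q L.e a)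
    (hy : π y = sg Q L.e b) : x * y = y * x := by
  have h := cc_one H B ha hb
  rw [cc, H.comm_congr (a' := x) (b' := y) (by rw [lf_map H, hx]) (by rw [lf_map H, hy])] at h
  exact commutatorElement_eq_one_iff_mul_comm.1 h

end Cfsg.Agent.Lib.OrthMult
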