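import Cfsg.Agent.Lib.OrthMult.Descent
import Cfsg.Agent.Lib.OrthOmega.Structure

/-!
Lifts of Siegel transformations of a level in an arbitrary central extension, the levels inside a
level, and products of two reflections of equal norm.
-/

set_option autoImplicit false

namespace Cfsg.Agent.Lib.OrthMult

open Module QuadraticMap Cfsg.Agent.Lib.Forms Cfsg.Agent.Lib.OrthOmega
open scoped commutatorElement

variable {F : Type*} [Field F] {V : Type*} [AddCommGroup V] [Module F V]
variable {Q : QuadraticForm F V} {E : Type*} [Group E] {π : E →* orth Q}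

open Classical in
theorem sg_of_not {e u : V} (h : ¬ SPair Q e u) : sg Q e u = 1 := dif_neg h

open Classical in
/-- A chosen lift of a Siegel transformation. -/
noncomputable def lf (π : E →* orth Q) (e u : V) : E :=
  if h : ∃ g, π g = sg Q e u then h.choose else 1

theorem lf_map (H : Ext π) (e u : V) : π (lf π e u) = sg Q e u := by
  have h : ∃ g, π g = sg Q e u := by
    by_cases hs : SPair Q e u
    · exact H.lift e u hs
    · exact ⟨1, by rw [map_one, sg_of_not hs]⟩
  rw [lf, dif_pos h]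
  exact h.choose_spec

theorem Ext.ker_comm (H : Ext π) {x : E} (hx : π x = 1) (g : E) : g * x = x * g :=
  Subgroup.mem_center_iff.1 (H.central (MonoidHom.mem_ker.2 hx)) g

theorem Ext.ker_conj (H : Ext π) {x : E} (hx : π x = 1) (g : E) : g * x * g⁻¹ = x := by
  rw [H.ker_comm hx, mul_inv_cancel_right]

theorem comm_mul_left (a b c : E) : ⁅a * b, c⁆ = a * ⁅b, c⁆ * a⁻¹ * ⁅a, c⁆ := by
  simp only [commutatorElement_def]; group

theorem comm_mul_right (a b c : E) : ⁅a, b * c⁆ = ⁅a, b⁆ * (b * ⁅a, c⁆ * b⁻¹) := by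
  simp only [commutatorElement_def]; group

theorem conj_comm_lf (H : Ext π) (g : E) {x y u w : V} (hx : SPair Q x u) (hy : SPair Q y w) :
    g * ⁅lf π x u, lf π y w⁆ * g⁻¹ =
      ⁅lf π (act π g x) (act π g u), lf π (act π g y) (act π g w)⁆ := by
  rw [show g * ⁅lf π x u, lf π y w⁆ * g⁻¹ = ⁅g * lf π x u * g⁻¹, g * lf π y w * g⁻¹⁆ by
    simp only [commutatorElement_def]; group]
  refine H.comm_congr ?_ ?_
  · rw [map_mul, map_mul, map_inv, lf_map H, lf_map H, sg_conj _ hx]; rfl
  · rw [map_mul, map_mul, map_inv, lf_map H, lf_map H, sg_conj _ hy]; rfl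

theorem conj_lf (H : Ext π) (g : E) {x u : V} (hx : SPair Q x u) :
    π (g * lf π x u * g⁻¹) = π (lf π (act π g x) (act π g u)) := by
  rw [map_mul, map_mul, map_inv, lf_map H, lf_map H, sg_conj _ hx]; rfl

namespace Level

variable (L : Level Q)

/-- A hyperbolic pair inside the subspace. -/
structure In (t t' : V) : Prop where
  hp : HypPair Q t t'
  mem : t ∈ L.W
  mem' : t' ∈ L.W

variable {L} {t t' : V}

theorem In.flip (h : L.In t t') : L.In t' t := ⟨h.hp.symm, h.mem', h.mem⟩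

theorem In.scale (h : L.In t t') {c : F} (hc : c ≠ 0) : L.In (c • t) (c⁻¹ • t') :=
  ⟨⟨by rw [Q_smul, h.hp.left, mul_zero], by rw [Q_smul, h.hp.right, mul_zero],
    by rw [polar_smul_left, polar_smul_right, h.hp.pol]; simp [hc]⟩,
    L.W.smul_mem _ h.mem, L.W.smul_mem _ h.mem'⟩

theorem In.proj (h : L.In t t') {w : V} (hw : w ∈ L.W) :
    w - polar Q t' w • t - polar Q t w • t' ∈ L.W ⊓ core Q t t' :=
  ⟨sub_mem (sub_mem hw (L.W.smul_mem _ h.mem)) (L.W.smul_mem _ h.mem'), h.hp.proj_mem w⟩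

/-- The level of a pair inside. -/
def inner (h : L.In t t') : Level Q where
  e := t
  f := t'
  W := L.W ⊓ core Q t t'
  hp := h.hp
  le := inf_le_right
  ndW x hx hxx := L.ndW x hx.1 fun y hy => by
    have h1 := hxx _ (h.proj hy)
    rw [polar_sub_right, polar_sub_right, polar_smul_right, polar_smul_right,
      (polar_comm Q x t).trans hx.2.1, (polar_comm Q x t').trans hx.2.2] at h1
    simpa using h1

theorem inner_fst (h : L.In t t') {w : V} (hw : w ∈ (inner h).W) :
    w ∈ L.W ∧ polar Q t w = 0 ∧ polar Q t' w = 0 := ⟨hw.1, hw.2.1, hw.2.2⟩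

theorem inner_scale (h : L.In t t') {c : F} (hc : c ≠ 0) :
    (inner (h.scale hc)).W = (inner h).W := by
  ext w
  simp [inner, mem_core, polar_smul_left, hc]

theorem inner_flip (h : L.In t t') : (inner h.flip).W = (inner h).W := by
  ext w
  simp [inner, mem_core, and_comm]

theorem In.of_inner {h : L.In t t'} {r r' : V} (hr : (inner h).In r r') : L.In r r' :=
  ⟨hr.hp, hr.mem.1, hr.mem'.1⟩

theorem le_finrank_inner [FiniteDimensional F V] (h : L.In t t') :
    finrank F L.W ≤ finrank F (inner h).W + 2 := by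
  have hle : L.W ≤ Submodule.span F {t, t'} ⊔ (inner h).W := fun w hw => by
    refine Submodule.mem_sup.2 ⟨polar Q t' w • t + polar Q t w • t', ?_, _, h.proj hw, by abel⟩
    exact Submodule.mem_span_pair.2 ⟨_, _, rfl⟩
  have h1 := (Submodule.finrank_mono hle).trans (Submodule.finrank_add_le_finrank_add_finrank _ _)
  have h2 : finrank F (Submodule.span F ({t, t'} : Set V)) ≤ 2 := by
    classical
    have h3 := finrank_span_finset_le_card (R := F) ({t, t'} : Finset V)
    rw [Finset.coe_insert, Finset.coe_singleton] at h3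
    exact h3.trans Finset.card_le_two
  omega

variable [Finite F] [FiniteDimensional F V]

theorem exists_in (L : Level Q) (h : 3 ≤ finrank F L.W) : ∃ t t', L.In t t' := by
  obtain ⟨⟨t, ht⟩, ⟨t', ht'⟩, hp⟩ := exists_hyp L.nondeg h
  exact ⟨t, t', ⟨hp.left, hp.right, hp.pol⟩, ht, ht'⟩

omit [Finite F] [FiniteDimensional F V] in
theorem exists_in_of_singular {v : V} (hv : v ∈ L.W) (h0 : v ≠ 0) (hq : Q v = 0) :
    ∃ v', L.In v v' := by
  obtain ⟨⟨v', hv'⟩, hp⟩ := exists_hypPair L.nondeg (e := (⟨v, hv⟩ : L.W))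
    (fun h => h0 (congrArg Subtype.val h)) hq
  exact ⟨v', ⟨hp.left, hp.right, hp.pol⟩, hv, hv'⟩

omit [Finite F] [FiniteDimensional F V] in
/-- Every vector is a sum of three singular ones. -/
theorem In.exists_three (h : L.In t t') {w : V} (hw : w ∈ L.W) :
    ∃ a b c : V, (a ∈ L.W ∧ Q a = 0) ∧ (b ∈ L.W ∧ Q b = 0) ∧ (c ∈ L.W ∧ Q c = 0) ∧
      w = a + b + c := by
  have hr := h.proj hw
  refine ⟨(polar Q t' w - 1) • t,
    (polar Q t w + Q (w - polar Q t' w • t - polar Q t w • t')) • t',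
    (1 : F) • t + (-Q (w - polar Q t' w • t - polar Q t w • t')) • t' +
      (w - polar Q t' w • t - polar Q t w • t'), ⟨?_, ?_⟩, ⟨?_, ?_⟩, ⟨?_, ?_⟩, ?_⟩
  · exact L.W.smul_mem _ h.mem
  · rw [Q_smul, h.hp.left, mul_zero]
  · exact L.W.smul_mem _ h.mem'
  · rw [Q_smul, h.hp.right, mul_zero]
  · exact add_mem (add_mem (L.W.smul_mem _ h.mem) (L.W.smul_mem _ h.mem')) hr.1
  · rw [h.hp.Q_comb_core _ _ hr.2, one_mul, neg_add_cancel]
  · module

omit [Finite F] [FiniteDimensional F V] in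
theorem exists_polar_one {v : V} (hv : v ∈ L.W) (h0 : v ≠ 0) :
    ∃ w ∈ L.W, polar Q v w = 1 := by
  obtain ⟨w, hw, h⟩ := L.exists_polar hv h0
  exact ⟨(polar Q v w)⁻¹ • w, L.W.smul_mem _ hw, by
    rw [polar_smul_right, smul_eq_mul, inv_mul_cancel₀ h]⟩

omit [Finite F] [FiniteDimensional F V] in
theorem exists_ne_zero (L : Level Q) (h : 1 ≤ finrank F L.W) : ∃ v ∈ L.W, v ≠ 0 := by
  have : Nontrivial L.W := Module.nontrivial_of_finrank_pos (R := F) (by omega)
  obtain ⟨⟨v, hv⟩, h0⟩ := exists_ne (0 : L.W)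
  exact ⟨v, hv, fun h => h0 (Subtype.ext h)⟩

end Level

theorem Ext.EG_le (H : Ext π) : EG Q ≤ π.range :=
  OrthOmega.EG_le fun e u hu => by
    obtain ⟨g, hg⟩ := H.lift e u hu
    exact ⟨g, by rw [hg, sg_eq hu]⟩

variable [Finite F] [FiniteDimensional F V]

/-- A product of two reflections with the same norm has a preimage, fixing what is orthogonal to both. -/
theorem exists_refl_pair (H : Ext π) (hQ : Nondeg Q) (h4 : 4 ≤ finrank F V) {v w : V}
    (hv : Q v ≠ 0) (h : Q v = Q w) :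
    ∃ g : E, ∀ x, act π g x = refl Q v (refl Q w x) := by
  have hv0 : v ≠ 0 := fun h0 => hv (by rw [h0, QuadraticMap.map_zero])
  have hw0 : w ≠ 0 := fun h0 => hv (by rw [h, h0, QuadraticMap.map_zero])
  obtain ⟨k, hk, hkv⟩ := conn_of_eq hQ h4 hv0 hw0 h
  have hmem : (orefl Q v)⁻¹ * orefl Q w ∈ EG Q := by
    have e : orefl Q w = k * orefl Q v * k⁻¹ := by
      refine Subtype.ext ?_
      rw [← hkv]
      exact (refl_conj k.2 v).symm
    rw [e, ← mul_assoc, ← mul_assoc]
    refine mul_mem ?_ (inv_mem hk)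
    have := (EG_normal Q).conj_mem k hk (orefl Q v)⁻¹
    rwa [inv_inv] at this
  obtain ⟨g, hg⟩ := H.EG_le hmem
  refine ⟨g, fun x => ?_⟩
  rw [act, hg]
  rfl

omit [Finite F] [FiniteDimensional F V] in
theorem adm_refl_pair {L : Level Q} {g : E} {v w : V} (hv : v ∈ L.W) (hw : w ∈ L.W)
    (hg : ∀ x, act π g x = refl Q v (refl Q w x)) : Adm π L g 1 := by
  have hfix : ∀ x, polar Q v x = 0 → polar Q w x = 0 → act π g x = x := fun x h1 h2 => by
    rw [hg, refl_fix Q h2, refl_fix Q h1]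
  refine ⟨?_, ?_, fun x hx => ?_, fun x hx => hfix x (hx.2.2 v hv) (hx.2.2 w hw)⟩
  · rw [hfix _ (L.perp_e' hv) (L.perp_e' hw), one_smul]
  · rw [hfix _ (L.perp_f' hv) (L.perp_f' hw), inv_one, one_smul]
  · rw [hg, refl_apply, refl_apply]
    exact sub_mem (sub_mem hx (L.W.smul_mem _ hw)) (L.W.smul_mem _ hv)

end Cfsg.Agent.Lib.OrthMult
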