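import Cfsg.Agent.Lib.OrthMult.TopFixSmall

/-!
The commutator of two lifts from the root group of the top, for a singular vector and a vector
orthogonal to it.
-/

set_option autoImplicit false

namespace Cfsg.Agent.Lib.OrthMult

open Module QuadraticMap Cfsg.Agent.Lib.Forms Cfsg.Agent.Lib.OrthOmega
open scoped commutatorElement

variable {F : Type*} [Field F] {V : Type*} [AddCommGroup V] [Module F V]
variable {Q : QuadraticForm F V} {E : Type*} [Group E] {π : E →* orth Q}

theorem kill_pair {M : Level Q} {D : V → E}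
    (hadd : ∀ a ∈ M.W, ∀ b ∈ M.W, D (a + b) = D a * D b)
    {r r' : V} (h : M.In r r') (hne : ∃ u ∈ (Level.inner h).W, u ≠ 0)
    (hinv : ∀ u ∈ (Level.inner h).W, ∀ b ∈ M.W, D ((sg Q r u).1 b) = D b) :
    (∀ x : F, D (x • r) = 1) ∧ ∀ u ∈ (Level.inner h).W, D u = 1 := by
  have hd : ∀ u ∈ (Level.inner h).W, ∀ b ∈ M.W, ∀ d ∈ M.W,
      (sg Q r u).1 b = d + b → D d = 1 := fun u hu b hb d hd e => by
    have h1 := hinv u hu b hb
    rw [e, hadd d hd b hb] at h1
    exact mul_eq_right.1 h1
  have h1 : ∀ x : F, D (x • r) = 1 := by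
    obtain ⟨u₀, hu₀, hne⟩ := hne
    obtain ⟨w, hw, hp⟩ := Level.exists_polar_one (L := Level.inner h) hu₀ hne
    intro x
    refine hd ((-x) • u₀) ((Level.inner h).W.smul_mem _ hu₀) w hw.1 _ (M.W.smul_mem _ h.mem) ?_
    rw [sg_apply ⟨h.hp.left, by rw [polar_smul_right, (Level.inner_fst h hu₀).2.1, smul_zero]⟩, (Level.inner_fst h hw).2.1,
      polar_smul_left, hp, smul_eq_mul]
    module
  refine ⟨h1, fun u hu => ?_⟩
  have h2 := hd u hu r' h.mem' (u + (-Q u) • r) (add_mem hu.1 (M.W.smul_mem _ h.mem)) (by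
    rw [sg_apply ⟨h.hp.left, hu.2.1⟩, h.hp.pol, (polar_comm Q u r').trans (Level.inner_fst h hu).2.2]
    module)
  rwa [hadd _ hu.1 _ (M.W.smul_mem _ h.mem), h1, mul_one] at h2

variable [Finite F] [FiniteDimensional F V]

theorem kill_all {M : Level Q} {D : V → E} (hM : 3 ≤ finrank F M.W)
    (hadd : ∀ a ∈ M.W, ∀ b ∈ M.W, D (a + b) = D a * D b)
    (hinv : ∀ r r' u : V, ∀ h : M.In r r', u ∈ (Level.inner h).W →
      ∀ b ∈ M.W, D ((sg Q r u).1 b) = D b) : ∀ b ∈ M.W, D b = 1 := by
  obtain ⟨r, r', h⟩ := M.exists_in hM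
  have hne : ∀ {p p' : V} (hp : M.In p p'), ∃ u ∈ (Level.inner hp).W, u ≠ 0 := fun hp => by
    have := Level.le_finrank_inner hp
    exact (Level.inner hp).exists_ne_zero (by omega)
  obtain ⟨h1, h2⟩ := kill_pair hadd h (hne h) fun u hu => hinv r r' u h hu
  obtain ⟨h3, -⟩ := kill_pair hadd h.flip (hne h.flip) fun u hu => hinv r' r u h.flip hu
  intro b hb
  have hr := h.proj hb
  rw [show b = polar Q r' b • r + polar Q r b • r' + (b - polar Q r' b • r - polar Q r b • r') by abel,
    hadd _ (add_mem (M.W.smul_mem _ h.mem) (M.W.smul_mem _ h.mem')) _ hr.1,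
    hadd _ (M.W.smul_mem _ h.mem) _ (M.W.smul_mem _ h.mem'), h1, h3, h2 _ hr, one_mul, one_mul]

variable {L : Level Q}

/-- The commutator of two lifts. -/
noncomputable def cc (π : E →* orth Q) (L : Level Q) (a b : V) : E :=
  ⁅lf π L.e a, lf π L.e b⁆

variable (H : Ext π)

include H

omit [Finite F] [FiniteDimensional F V] in
theorem lf_add {e u w : V} (hu : SPair Q e u) (hw : SPair Q e w) :
    π (lf π e (u + w)) = π (lf π e u * lf π e w) := by
  rw [map_mul, lf_map H, lf_map H, lf_map H, sg_mul hu hw]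

omit [Finite F] [FiniteDimensional F V] in
theorem cc_ker {a b : V} (ha : a ∈ L.W) (hb : b ∈ L.W) : π (cc π L a b) = 1 := by
  rw [cc, map_commutatorElement, lf_map H, lf_map H, commutatorElement_eq_one_iff_mul_comm,
    sg_mul (L.sp_e ha) (L.sp_e hb), sg_mul (L.sp_e hb) (L.sp_e ha), add_comm]

omit [Finite F] [FiniteDimensional F V] in
theorem cc_add_left {a a' b : V} (ha : a ∈ L.W) (ha' : a' ∈ L.W) (hb : b ∈ L.W) :
    cc π L (a + a') b = cc π L a b * cc π L a' b := by
  rw [cc, H.comm_congr (b' := lf π L.e b) (lf_add H (L.sp_e ha) (L.sp_e ha')) rfl, comm_mul_left]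
  show _ * cc π L a' b * _ * cc π L a b = _
  rw [H.ker_conj (cc_ker H ha' hb), H.ker_comm (cc_ker H ha hb)]

omit [Finite F] [FiniteDimensional F V] in
theorem cc_add_right {a b b' : V} (ha : a ∈ L.W) (hb : b ∈ L.W) (hb' : b' ∈ L.W) :
    cc π L a (b + b') = cc π L a b * cc π L a b' := by
  rw [cc, H.comm_congr (a' := lf π L.e a) rfl (lf_add H (L.sp_e hb) (L.sp_e hb')), comm_mul_right]
  show _ * (_ * cc π L a b' * _) = _
  rw [H.ker_conj (cc_ker H ha hb')]
  rfl

omit [Finite F] [FiniteDimensional F V] in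
theorem cc_inv {g : E} (hg : Adm π L g 1) {a b : V} (ha : a ∈ L.W) (hb : b ∈ L.W) :
    cc π L (act π g a) (act π g b) = cc π L a b := by
  have e := conj_comm_lf H g (L.sp_e ha) (L.sp_e hb)
  rw [hg.e_eq, one_smul] at e
  exact e.symm.trans (H.ker_conj (cc_ker H ha hb) g)

omit [Finite F] [FiniteDimensional F V] in
theorem cc_zero {a : V} : cc π L 0 a = 1 := by
  rw [cc, H.comm_congr (a' := 1) (b' := lf π L.e a)
    (by rw [lf_map H, sg_zero L.hp.left, map_one]) rfl]
  exact commutatorElement_one_left _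

/-- A singular vector and a vector orthogonal to it give commuting lifts. -/
theorem cc_sing (B : Big L) {t a : V} (ht : t ∈ L.W) (hq : Q t = 0) (ha : a ∈ L.W)
    (hta : polar Q t a = 0) : cc π L t a = 1 := by
  rcases eq_or_ne t 0 with rfl | h0
  · exact cc_zero H
  obtain ⟨t', h⟩ := L.exists_in_of_singular ht h0 hq
  have hne : ∃ u ∈ (Level.inner h).W, u ≠ 0 := by
    have := Level.le_finrank_inner h
    have := B.dim
    exact (Level.inner h).exists_ne_zero (by omega)
  obtain ⟨h1, h2⟩ := kill_pair (D := cc π L t) (fun x hx y hy => cc_add_right H ht hx hy) h hne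
    fun u hu b hb => by
      have hs : SPair Q t u := ⟨hq, hu.2.1⟩
      have hfix : act π (lf π t u) t = t := by
        rw [act_lf H hs, h.hp.pol_ee, (polar_comm Q u t).trans hu.2.1]; simp
      have e := cc_inv H (adm_lf H ht hu.1 hs) ht hb
      rw [hfix, act, lf_map H] at e
      exact e
  have hr := h.proj ha
  rw [hta, zero_smul, sub_zero] at hr
  rw [show a = polar Q t' a • t + (a - polar Q t' a • t) by abel,
    cc_add_right H ht (L.W.smul_mem _ ht) hr.1, h1, h2 _ hr, one_mul]

/-- A lift of a multiple of `t` commutes with the lifts of what is orthogonal to `t`. -/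
theorem comm_mult (B : Big L) {t a : V} {x : F} {T : E} (ht : t ∈ L.W) (hq : Q t = 0)
    (ha : a ∈ L.W) (hta : polar Q t a = 0) (hT : π T = sg Q L.e (x • t)) {A : E}
    (hA : π A = sg Q L.e a) : T * A = A * T := by
  have h1 := cc_sing H B (L.W.smul_mem x ht) (by rw [Q_smul, hq, mul_zero]) ha
    (by rw [polar_smul_left, hta, smul_zero])
  rw [cc, H.comm_congr (a' := T) (b' := A) (by rw [lf_map H, hT]) (by rw [lf_map H, hA])] at h1
  exact commutatorElement_eq_one_iff_mul_comm.1 h1

/-- A Siegel transformation at `t` fixes the lifts of the multiples of `t`. -/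
theorem fix_self (B : Big L) {t b : V} (ht : t ∈ L.W) (hq : Q t = 0) (hb : b ∈ L.W)
    (htb : polar Q t b = 0) (x : F) {T : E} (hT : π T = sg Q L.e (x • t)) :
    lf π t b * T = T * lf π t b := by
  suffices hD : ⁅lf π t b, lf π L.e (x • t)⁆ = 1 by
    rw [H.comm_congr (a' := lf π t b) (b' := T) rfl (by rw [lf_map H, hT])] at hD
    exact commutatorElement_eq_one_iff_mul_comm.1 hD
  rcases eq_or_ne t 0 with rfl | h0
  · rw [H.comm_congr (a' := lf π 0 b) (b' := 1) rfl
      (by rw [smul_zero, lf_map H, sg_zero L.hp.left, map_one])]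
    exact commutatorElement_one_right _
  obtain ⟨t', h⟩ := L.exists_in_of_singular ht h0 hq
  set D : V → E := fun u => ⁅lf π t u, lf π L.e (x • t)⁆ with hD
  have hxt := L.W.smul_mem x ht
  have hsp : ∀ u ∈ (Level.inner h).W, SPair Q t u := fun u hu => ⟨hq, hu.2.1⟩
  have hker : ∀ u ∈ (Level.inner h).W, π (D u) = 1 := fun u hu => by
    refine comm_fix_ker H hxt ((adm_lf H ht hu.1 (hsp u hu)).e_eq.trans (one_smul F _)) ?_
    rw [act_smul, act_lf H (hsp u hu), h.hp.pol_ee, (polar_comm Q u t).trans hu.2.1]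
    simp
  have hadd : ∀ u ∈ (Level.inner h).W, ∀ w ∈ (Level.inner h).W, D (u + w) = D u * D w :=
    fun u hu w hw => by
      simp only [hD]
      rw [H.comm_congr (b' := lf π L.e (x • t)) (lf_add H (hsp u hu) (hsp w hw)) rfl, comm_mul_left]
      show _ * D w * _ * D u = _
      rw [H.ker_conj (hker w hw), H.ker_comm (hker u hu)]
  have hall := kill_all (M := Level.inner h) (D := D)
    (by have := Level.le_finrank_inner h; have := B.dim; omega) hadd
    fun r r' u h' hu u₁ hu₁ => by
      have hs : SPair Q r u := ⟨h'.hp.left, hu.2.1⟩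
      have hA := adm_lf (L := L) H h'.mem.1 hu.1.1 hs
      have hgt : act π (lf π r u) t = t := by
        rw [act_lf H hs, (polar_comm Q r t).trans h'.mem.2.1, (polar_comm Q u t).trans hu.1.2.1]
        simp
      have e := conj_comm_lf H (lf π r u) (hsp u₁ hu₁) (L.sp_e hxt)
      rw [hA.e_eq, one_smul, act_smul, hgt,
        show act π (lf π r u) u₁ = (sg Q r u).1 u₁ by rw [act, lf_map H]] at e
      exact e.symm.trans (H.ker_conj (hker u₁ hu₁) _)
  have hr := h.proj hb
  rw [htb, zero_smul, sub_zero] at hr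
  have hres : lf π t b = lf π t (b - polar Q t' b • t + polar Q t' b • t) := by rw [sub_add_cancel]
  rw [H.comm_congr (a' := lf π t (b - polar Q t' b • t)) (b' := lf π L.e (x • t)) ?_ rfl]
  · exact hall _ hr
  · rw [hres, lf_map H, lf_map H, sg_eq (hsp _ hr),
      sg_eq ⟨hq, by rw [sub_add_cancel]; exact htb⟩, rho_shift]

omit [Finite F] [FiniteDimensional F V] in
/-- Transporting a lift of a multiple by an element fixing it. -/
theorem comm_of_fix {g : E} {t : V} {x : F}
    (hg : ⁅g, lf π L.e (x • t)⁆ = 1) {T : E} (hT : π T = sg Q L.e (x • t)) : g * T = T * g := by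
  rw [H.comm_congr (a' := g) (b' := T) rfl (by rw [lf_map H, hT])] at hg
  exact commutatorElement_eq_one_iff_mul_comm.1 hg

/-- Siegel transformations in the orthogonal of `t` fix the lifts of its multiples. -/
theorem fix_inner (B : Big L) {t t' r r' u : V} (h : L.In t t') (h' : (Level.inner h).In r r')
    (hu : u ∈ (Level.inner h').W) (x : F) {T : E} (hT : π T = sg Q L.e (x • t)) :
    lf π r u * T = T * lf π r u := by
  refine comm_of_fix H ?_ hT
  rcases eq_or_ne x 0 with rfl | hx
  · rw [H.comm_congr (a' := lf π r u) (b' := 1) rfl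
      (by rw [zero_smul, lf_map H, sg_zero L.hp.left, map_one])]
    exact commutatorElement_one_right _
  have hs : (Level.inner (h.scale hx)).In r r' :=
    ⟨h'.hp, by rw [Level.inner_scale h hx]; exact h'.mem, by rw [Level.inner_scale h hx]; exact h'.mem'⟩
  refine fix_lift H B (h.scale hx) hs ?_
  exact ⟨by rw [Level.inner_scale h hx]; exact hu.1, hu.2⟩

end Cfsg.Agent.Lib.OrthMult
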