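import Cfsg.Agent.Lib.OrthMult.Top

/-!
The data of a big level.
-/

set_option autoImplicit false

namespace Cfsg.Agent.Lib.OrthMult

open Module QuadraticMap Cfsg.Agent.Lib.Forms Cfsg.Agent.Lib.OrthOmega
open scoped commutatorElement

variable {F : Type*} [Field F] {V : Type*} [AddCommGroup V] [Module F V]
variable {Q : QuadraticForm F V} {E : Type*} [Group E] {π : E →* orth Q} {L : Level Q}
variable [Finite F] [FiniteDimensional F V]

/-- The image of the first vector of a pair, minus that vector, corrected. -/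
noncomputable def psi (π : E →* orth Q) (L : Level Q) (s s' u : V) : E :=
  chi π L ((sg Q s' u).1 s) * (chi π L s)⁻¹ * chi π L (Q u • s')

/-- The family of lifts. -/
noncomputable def xx (π : E →* orth Q) (L : Level Q) (s s' w : V) : E :=
  chi π L (polar Q s' w • s) * chi π L (polar Q s w • s') *
    psi π L s s' (w - polar Q s' w • s - polar Q s w • s')

variable (H : Ext π) (B : Big L) {s s' : V} (hs : L.In s s')

include H B

theorem e_commute {x y : E} {a b : V} (ha : a ∈ L.W) (hb : b ∈ L.W) (hx : π x = sg Q L.e a)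
    (hy : π y = sg Q L.e b) : Commute x y := e_comm H B ha hb hx hy

include hs

omit [Finite F] [FiniteDimensional F V] B in
theorem move_s {u : V} (hu : u ∈ (Level.inner hs).W) :
    (sg Q s' u).1 s = s + u - Q u • s' := by
  rw [sg_apply ⟨hs.hp.right, (Level.inner_fst hs hu).2.2⟩, hs.hp.pol',
    (polar_comm Q u s).trans (Level.inner_fst hs hu).2.1]
  module

omit [Finite F] [FiniteDimensional F V] B in
theorem move_props {u : V} (hu : u ∈ (Level.inner hs).W) :
    (sg Q s' u).1 s ∈ L.W ∧ Q ((sg Q s' u).1 s) = 0 := by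
  refine ⟨?_, ((sg Q s' u).2 s).trans hs.hp.left⟩
  rw [move_s H hs hu]
  exact sub_mem (add_mem hs.mem hu.1) (L.W.smul_mem _ hs.mem')

theorem psi_map {u : V} (hu : u ∈ (Level.inner hs).W) :
    π (psi π L s s' u) = sg Q L.e u := by
  obtain ⟨h1, h2⟩ := move_props H hs hu
  have h3 : Q (Q u • s') = 0 := by rw [Q_smul, hs.hp.right, mul_zero]
  rw [psi, map_mul, map_mul, map_inv, chi_map H B h1 h2, chi_map H B hs.mem hs.hp.left,
    chi_map H B (L.W.smul_mem _ hs.mem') h3, ← sg_neg (L.sp_e hs.mem),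
    sg_mul (L.sp_e h1) (L.sp_e hs.mem).neg,
    sg_mul (L.sp_e (add_mem h1 (neg_mem hs.mem))) (L.sp_e (L.W.smul_mem _ hs.mem')),
    move_s H hs hu]
  congr 1
  module

theorem psi_conj {g : E} (hg : Adm π L g 1) (h1 : act π g s = s) (h2 : act π g s' = s') {u : V}
    (hu : u ∈ (Level.inner hs).W) : g * psi π L s s' u * g⁻¹ = psi π L s s' (act π g u) := by
  obtain ⟨m1, m2⟩ := move_props H hs hu
  have hgu : act π g u ∈ (Level.inner hs).W :=
    ⟨hg.w_mem _ hu.1,
      show polar Q s (act π g u) = 0 by rw [← h1, polar_act]; exact (Level.inner_fst hs hu).2.1,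
      show polar Q s' (act π g u) = 0 by rw [← h2, polar_act]; exact (Level.inner_fst hs hu).2.2⟩
  have e1 : act π g ((sg Q s' u).1 s) = (sg Q s' (act π g u)).1 s := by
    rw [move_s H hs hu, move_s H hs hgu, act_sub, act_add, act_smul, h1, h2, Q_act]
  have c1 := chi_conj H B hg m1 m2
  have c2 := chi_conj H B hg hs.mem hs.hp.left
  have c3 := chi_conj H B hg (L.W.smul_mem (Q u) hs.mem') (by rw [Q_smul, hs.hp.right, mul_zero])
  rw [one_smul, e1] at c1
  rw [one_smul, h1] at c2
  rw [one_smul, act_smul, h2] at c3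
  rw [psi, psi, Q_act, show g * (chi π L ((sg Q s' u).1 s) * (chi π L s)⁻¹ * chi π L (Q u • s')) * g⁻¹ =
    (g * chi π L ((sg Q s' u).1 s) * g⁻¹) * (g * chi π L s * g⁻¹)⁻¹ *
      (g * chi π L (Q u • s') * g⁻¹) by group, c1, c2, c3]

theorem psi_add {u v : V} (hu : u ∈ (Level.inner hs).W) (hv : v ∈ (Level.inner hs).W) :
    psi π L s s' (u + v) = psi π L s s' u * psi π L s s' v := by
  obtain ⟨u1, u2⟩ := move_props H hs hu
  obtain ⟨v1, v2⟩ := move_props H hs hv
  obtain ⟨-, su, su'⟩ := Level.inner_fst hs hu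
  obtain ⟨-, sv, sv'⟩ := Level.inner_fst hs hv
  set x := polar Q v u
  set G := lf π s' u
  have hsu : SPair Q s' u := ⟨hs.hp.right, su'⟩
  have hG : Adm π L G 1 := adm_lf H hs.mem' hu.1 hsu
  have hGs : act π G s = (sg Q s' u).1 s := by rw [act, lf_map H]
  have hGs' : act π G s' = s' := by
    rw [act_lf H hsu, hs.hp.pol_ff, (polar_comm Q u s').trans su']; simp
  have hGv : act π G ((sg Q s' v).1 s) = (sg Q s' (u + v)).1 s := by
    rw [act, lf_map H, ← sg_mul hsu ⟨hs.hp.right, sv'⟩]; rfl
  have hm : ∀ c : F, c • s' ∈ L.W := fun c => L.W.smul_mem c hs.mem'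
  have hq : ∀ c : F, Q (c • s') = 0 := fun c => by rw [Q_smul, hs.hp.right, mul_zero]
  have c1 := chi_conj H B hG v1 v2
  have c2 := chi_conj H B hG hs.mem hs.hp.left
  have c3 := chi_conj H B hG (hm (Q v)) (hq (Q v))
  rw [one_smul, hGv] at c1
  rw [one_smul, hGs] at c2
  rw [one_smul, act_smul, hGs'] at c3
  have c4 : G * psi π L s s' v * G⁻¹ = (chi π L (x • s'))⁻¹ * psi π L s s' v := by
    have e : pp π L s' v u = chi π L (x • s') := chi_eq H B hs.mem' hs.hp.right hv.1 sv' hu.1 su'
    rw [pp, H.comm_congr (a' := psi π L s s' v) (b' := G)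
      (by rw [lf_map H, psi_map H B hs hv]) rfl] at e
    rw [← e, commutatorElement_def]
    group
  have key : chi π L ((sg Q s' (u + v)).1 s) = (chi π L (x • s'))⁻¹ * psi π L s s' v *
      (chi π L (Q v • s'))⁻¹ * chi π L ((sg Q s' u).1 s) := by
    rw [← c4, ← c2, ← c1]
    conv_rhs => arg 1; arg 2; rw [← c3]
    rw [psi]
    group
  have hQ : chi π L (Q (u + v) • s') =
      chi π L (Q u • s') * (chi π L (Q v • s') * chi π L (x • s')) := by
    rw [← chi_add H B (hm _) (hm _) (hq _) (hq _)
        (by rw [polar_smul_left, polar_smul_right, hs.hp.pol_ff]; simp), ← add_smul,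
      ← chi_add H B (hm _) (hm _) (hq _) (hq _)
        (by rw [polar_smul_left, polar_smul_right, hs.hp.pol_ff]; simp), ← add_smul, Q_add]
    congr 2
    show Q u + Q v + polar Q u v = Q u + (Q v + x)
    rw [polar_comm Q u v, add_assoc]
  set ku := psi π L s s' u with hku
  set kv := psi π L s s' v
  have hkut : ku = chi π L ((sg Q s' u).1 s) * (chi π L s)⁻¹ * chi π L (Q u • s') := rfl
  set a := chi π L (x • s')
  set b := chi π L (Q v • s')
  have hca : π a = sg Q L.e (x • s') := chi_map H B (hm _) (hq _)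
  have hcb : π b = sg Q L.e (Q v • s') := chi_map H B (hm _) (hq _)
  have hpu := psi_map H B hs hu
  have hpv := psi_map H B hs hv
  have d1 : Commute kv a := e_commute H B hv.1 (hm _) hpv hca
  have d2 : Commute ku b := e_commute H B hu.1 (hm _) hpu hcb
  have d3 : Commute ku a := e_commute H B hu.1 (hm _) hpu hca
  have d4 : Commute ku kv := e_commute H B hu.1 hv.1 hpu hpv
  have d5 : Commute a b := e_commute H B (hm _) (hm _) hca hcb
  calc psi π L s s' (u + v) = (a⁻¹ * kv * b⁻¹ * chi π L ((sg Q s' u).1 s)) * (chi π L s)⁻¹ *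
        (chi π L (Q u • s') * (b * a)) := by rw [psi, key, hQ]
    _ = a⁻¹ * kv * b⁻¹ * ku * (b * a) := by rw [hkut]; group
    _ = a⁻¹ * kv * ku * (b⁻¹ * b) * a := by
      rw [mul_assoc (a⁻¹ * kv), ← d2.inv_right.eq]; group
    _ = kv * ku := by
      rw [inv_mul_cancel, mul_one, mul_assoc (a⁻¹), mul_assoc, ((d1.mul_left d3)).eq]; group
    _ = ku * kv := d4.eq.symm

theorem psi_scale {c : F} (hc : c ≠ 0) {v : V} (hv : v ∈ (Level.inner hs).W) :
    psi π L (c • s) (c⁻¹ • s') v = psi π L s s' v := by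
  have hsc := hs.scale hc
  have hW := Level.inner_scale hs hc
  set D : V → E := fun u => psi π L (c • s) (c⁻¹ • s') u * (psi π L s s' u)⁻¹ with hD
  have hmem : ∀ {u}, u ∈ (Level.inner hs).W → u ∈ (Level.inner hsc).W := fun h => by
    rw [hW]; exact h
  have hker : ∀ u ∈ (Level.inner hs).W, π (D u) = 1 := fun u hu => by
    simp only [hD]
    rw [map_mul, map_inv, psi_map H B hsc (hmem hu), psi_map H B hs hu, mul_inv_cancel]
  have hall : ∀ u ∈ (Level.inner hs).W, D u = 1 := by
    refine kill_all (M := Level.inner hs)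
      (by have := Level.le_finrank_inner hs; have := B.dim; omega) (fun a ha b hb => ?_)
      (fun r r' u h' hu b hb => ?_)
    · have hkb := hker b hb
      have hcm : Commute (psi π L s s' a)⁻¹ (psi π L (c • s) (c⁻¹ • s') b) :=
        (e_commute H B ha.1 hb.1 (psi_map H B hs ha) (psi_map H B hsc (hmem hb))).inv_left
      simp only [hD]
      rw [psi_add H B hsc (hmem ha) (hmem hb), psi_add H B hs ha hb, mul_inv_rev]
      rw [show (psi π L s s' b)⁻¹ * (psi π L s s' a)⁻¹ = (psi π L s s' a)⁻¹ * (psi π L s s' b)⁻¹ from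
        ((e_commute H B hb.1 ha.1 (psi_map H B hs hb) (psi_map H B hs ha)).inv_inv).eq]
      exact hcm.symm.mul_mul_mul_comm _ _
    · have hsp : SPair Q r u := ⟨h'.hp.left, hu.2.1⟩
      have hA := adm_lf (L := L) H h'.mem.1 hu.1.1 hsp
      have f : ∀ x, polar Q r x = 0 → polar Q u x = 0 → act π (lf π r u) x = x := fun x h1 h2 => by
        rw [act_lf H hsp, h1, h2]; simp
      have r1 := (polar_comm Q r s).trans h'.mem.2.1
      have r2 := (polar_comm Q r s').trans h'.mem.2.2
      have u1 := (polar_comm Q u s).trans hu.1.2.1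
      have u2 := (polar_comm Q u s').trans hu.1.2.2
      have e1 := psi_conj H B hsc hA (by rw [act_smul, f s r1 u1]) (by rw [act_smul, f s' r2 u2])
        (hmem hb)
      have e2 := psi_conj H B hs hA (f s r1 u1) (f s' r2 u2) hb
      have hgb : act π (lf π r u) b = (sg Q r u).1 b := by rw [act, lf_map H]
      rw [hgb] at e1 e2
      have e3 := H.ker_conj (hker b hb) (lf π r u)
      simp only [hD] at e3 ⊢
      rw [← e1, ← e2]
      conv_rhs => rw [← e3]
      group
  exact mul_inv_eq_one.1 (hall v hv)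

theorem psi_singular {v : V} (hv : v ∈ (Level.inner hs).W) (hq : Q v = 0) :
    psi π L s s' v = chi π L v := by
  obtain ⟨vW, sv, sv'⟩ := Level.inner_fst hs hv
  have hsv : polar Q s v = 0 := sv
  rw [psi, move_s H hs hv, hq, zero_smul, sub_zero, chi_zero H B, mul_one,
    chi_add H B hs.mem vW hs.hp.left hq hsv]
  rw [(e_commute H B hs.mem vW (chi_map H B hs.mem hs.hp.left) (chi_map H B vW hq)).eq,
    mul_inv_cancel_right]

theorem xx_map {w : V} (hw : w ∈ L.W) : π (xx π L s s' w) = sg Q L.e w := by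
  have hr := hs.proj hw
  have h1 := L.W.smul_mem (polar Q s' w) hs.mem
  have h2 := L.W.smul_mem (polar Q s w) hs.mem'
  rw [xx, map_mul, map_mul, chi_map H B h1 (by rw [Q_smul, hs.hp.left, mul_zero]),
    chi_map H B h2 (by rw [Q_smul, hs.hp.right, mul_zero]), psi_map H B hs hr,
    sg_mul (L.sp_e h1) (L.sp_e h2), sg_mul (L.sp_e (add_mem h1 h2)) (L.sp_e hr.1)]
  congr 1
  abel

theorem xx_add {v w : V} (hv : v ∈ L.W) (hw : w ∈ L.W) :
    xx π L s s' (v + w) = xx π L s s' v * xx π L s s' w := by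
  have hrv := hs.proj hv
  have hrw := hs.proj hw
  have m : ∀ c : F, c • s ∈ L.W := fun c => L.W.smul_mem c hs.mem
  have m' : ∀ c : F, c • s' ∈ L.W := fun c => L.W.smul_mem c hs.mem'
  have q : ∀ c : F, Q (c • s) = 0 := fun c => by rw [Q_smul, hs.hp.left, mul_zero]
  have q' : ∀ c : F, Q (c • s') = 0 := fun c => by rw [Q_smul, hs.hp.right, mul_zero]
  simp only [xx]
  rw [polar_add_right, polar_add_right,
    show v + w - (polar Q s' v + polar Q s' w) • s - (polar Q s v + polar Q s w) • s' =
      (v - polar Q s' v • s - polar Q s v • s') + (w - polar Q s' w • s - polar Q s w • s') by module,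
    psi_add H B hs hrv hrw, add_smul, add_smul,
    chi_add H B (m _) (m _) (q _) (q _) (by rw [polar_smul_left, polar_smul_right, hs.hp.pol_ee]; simp),
    chi_add H B (m' _) (m' _) (q' _) (q' _)
      (by rw [polar_smul_left, polar_smul_right, hs.hp.pol_ff]; simp)]
  have ca := chi_map H B (m (polar Q s' w)) (q _)
  have cb := chi_map H B (m' (polar Q s v)) (q' _)
  have cb' := chi_map H B (m' (polar Q s w)) (q' _)
  have k1 := psi_map H B hs hrv
  have c1 : Commute (chi π L (polar Q s' w • s)) (chi π L (polar Q s v • s')) :=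
    e_commute H B (m _) (m' _) ca cb
  have c2 : Commute (chi π L (polar Q s' w • s) * chi π L (polar Q s w • s'))
      (psi π L s s' (v - polar Q s' v • s - polar Q s v • s')) :=
    (e_commute H B (m _) hrv.1 ca k1).mul_left (e_commute H B (m' _) hrv.1 cb' k1)
  rw [c1.mul_mul_mul_comm, c2.mul_mul_mul_comm]

theorem xx_singular {t : V} (ht : t ∈ L.W) (hq : Q t = 0) :
    xx π L s s' t = chi π L t := by
  have hr := hs.proj ht
  set α := polar Q s' t with hα
  set β := polar Q s t with hβ
  set w1 := t - α • s - β • s' with hw1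
  have hqt : α * β + Q w1 = 0 := by
    have := hs.hp.Q_comb_core α β hr.2
    rwa [show α • s + β • s' + w1 = t by rw [hw1]; abel, hq, eq_comm] at this
  have m : α • s ∈ L.W := L.W.smul_mem _ hs.mem
  have m' : β • s' ∈ L.W := L.W.smul_mem _ hs.mem'
  have q : Q (α • s) = 0 := by rw [Q_smul, hs.hp.left, mul_zero]
  have q' : Q (β • s') = 0 := by rw [Q_smul, hs.hp.right, mul_zero]
  show chi π L (α • s) * chi π L (β • s') * psi π L s s' w1 = _
  rcases eq_or_ne α 0 with h0 | h0
  · rw [h0, zero_mul, zero_add] at hqt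
    rw [psi_singular H B hs hr hqt, h0, zero_smul, chi_zero H B, one_mul,
      ← chi_add H B m' hr.1 q' hqt (by rw [polar_smul_left, (Level.inner_fst hs hr).2.2, smul_zero])]
    congr 1
    rw [hw1, h0]; module
  · have hsc := hs.scale h0
    have hr' : w1 ∈ (Level.inner hsc).W := by rw [Level.inner_scale hs h0]; exact hr
    have hβ' : -(Q w1 * α⁻¹) = β := by
      field_simp
      linear_combination -hqt
    have e1 := psi_scale H B hs h0 hr
    rw [psi, move_s H hsc hr', smul_smul,
      show α • s + w1 - (Q w1 * α⁻¹) • s' = α • s + w1 + β • s' by rw [← hβ']; module,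
      show α • s + w1 + β • s' = t by rw [hw1]; abel] at e1
    have ek : chi π L ((Q w1 * α⁻¹) • s') = (chi π L (β • s'))⁻¹ := by
      rw [eq_inv_iff_mul_eq_one, ← chi_add H B (L.W.smul_mem _ hs.mem') m'
        (by rw [Q_smul, hs.hp.right, mul_zero]) q'
        (by rw [polar_smul_left, polar_smul_right, hs.hp.pol_ff]; simp), ← hβ', ← add_smul,
        add_neg_cancel, zero_smul, chi_zero H B]
    rw [ek] at e1
    rw [← e1]
    have ct : Commute (chi π L (α • s) * chi π L (β • s')) (chi π L t) :=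
      (e_commute H B m ht (chi_map H B m q) (chi_map H B ht hq)).mul_left
        (e_commute H B m' ht (chi_map H B m' q') (chi_map H B ht hq))
    rw [mul_assoc (chi π L t), ← mul_assoc _ (chi π L t), ct.eq,
      mul_assoc (chi π L t), ← mul_inv_rev]
    have cc : Commute (chi π L (α • s)) (chi π L (β • s')) :=
      e_commute H B m m' (chi_map H B m q) (chi_map H B m' q')
    rw [cc.eq, mul_inv_cancel, mul_one]

theorem xx_conj {g : E} {c : F} (hg : Adm π L g c) {w : V} (hw : w ∈ L.W) :
    g * xx π L s s' w * g⁻¹ = xx π L s s' (c • act π g w) := by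
  obtain ⟨a, b, d, ⟨m1, q1⟩, ⟨m2, q2⟩, ⟨m3, q3⟩, rfl⟩ := hs.exists_three hw
  have mm : ∀ {x}, x ∈ L.W → c • act π g x ∈ L.W := fun h => L.W.smul_mem _ (hg.w_mem _ h)
  have one : ∀ x ∈ L.W, Q x = 0 →
      g * xx π L s s' x * g⁻¹ = xx π L s s' (c • act π g x) := fun x hx hq => by
    rw [xx_singular H B hs hx hq, xx_singular H B hs (mm hx) (by rw [Q_smul, Q_act, hq, mul_zero]),
      chi_conj H B hg hx hq]
  rw [act_add, act_add, smul_add, smul_add, xx_add H B hs (add_mem m1 m2) m3, xx_add H B hs m1 m2,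
    xx_add H B hs (add_mem (mm m1) (mm m2)) (mm m3), xx_add H B hs (mm m1) (mm m2), ← one a m1 q1,
    ← one b m2 q2, ← one d m3 q3]
  group

omit hs

/-- A big level carries data. -/
theorem nonempty_data : Nonempty (Data π L) := by
  obtain ⟨s, s', hs⟩ := L.exists_in (by have := B.dim; omega)
  have hd : 3 ≤ finrank F L.symm.W := by show 3 ≤ finrank F L.W; have := B.dim; omega
  obtain ⟨r, r', hr⟩ := L.symm.exists_in hd
  exact ⟨{
    X := xx π L s s'
    Y := xx π L.symm r r'
    x_map := fun w hw => xx_map H B hs hw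
    y_map := fun w hw => xx_map H B.symm hr hw
    x_add := fun v hv w hw => xx_add H B hs hv hw
    y_add := fun v hv w hw => xx_add H B.symm hr hv hw
    x_conj := fun g c hg w hw => xx_conj H B hs hg hw
    y_conj := fun g c hg w hw => xx_conj H B.symm hr hg.symm hw }⟩

end Cfsg.Agent.Lib.OrthMult
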