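import Cfsg.Agent.Lib.OrthMult.TopBase

/-!
Lifts of Siegel transformations inside the orthogonal of a singular vector fix the lifts of its
multiples in the root group of the top.
-/

set_option autoImplicit false

namespace Cfsg.Agent.Lib.OrthMult

open Module QuadraticMap Cfsg.Agent.Lib.Forms Cfsg.Agent.Lib.OrthOmega
open scoped commutatorElement

variable {F : Type*} [Field F] {V : Type*} [AddCommGroup V] [Module F V]
variable {Q : QuadraticForm F V} {E : Type*} [Group E] {π : E →* orth Q}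

/-- The levels for which the top data exist. -/
structure Big (L : Level Q) : Prop where
  nd : Nondeg Q
  dim : 5 ≤ finrank F L.W
  small : (∃ μ : F, μ ≠ 0 ∧ μ * μ ≠ 1) ∨
    ((∀ x : F, x = 0 ∨ x = 1 ∨ x = -1) ∧ (2 : F) ≠ 0 ∧ 6 ≤ finrank F L.W) ∨
    ((∀ x : F, x = 0 ∨ x = 1) ∧ 6 ≤ finrank F L.W ∧ (8 ≤ finrank F L.W ∨
      ∀ t t' r r' : V, ∀ h : L.In t t', ∀ h' : (Level.inner h).In r r',
        ∀ u ∈ (Level.inner h').W, Q u = 0 → u = 0))

theorem Big.symm {L : Level Q} (B : Big L) : Big L.symm where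
  nd := B.nd
  dim := B.dim
  small := by
    rcases B.small with h | h | ⟨h1, h2, h3⟩
    · exact Or.inl h
    · exact Or.inr (Or.inl h)
    · refine Or.inr (Or.inr ⟨h1, h2, h3.imp id fun h3 t t' r r' h h' u hu hq => ?_⟩)
      exact h3 t t' r r' ⟨h.hp, h.mem, h.mem'⟩ ⟨h'.hp, h'.mem, h'.mem'⟩ u hu hq

variable {L : Level Q}

/-- An element fixing the first vector and `v` centralises the lift of `v` modulo the kernel. -/
theorem comm_fix_ker (H : Ext π) {g : E} {v : V} (hv : v ∈ L.W) (he : act π g L.e = L.e)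
    (hgv : act π g v = v) : π ⁅g, lf π L.e v⁆ = 1 := by
  rw [commutatorElement_def, map_mul, conj_lf H g (L.sp_e hv), he, hgv, map_inv, mul_inv_cancel]

theorem act_lf (H : Ext π) {e u : V} (h : SPair Q e u) (x : V) :
    act π (lf π e u) x = x + polar Q e x • u - (polar Q u x + Q u * polar Q e x) • e := by
  rw [act, lf_map H, sg_apply h]

theorem adm_lf (H : Ext π) {t b : V} (ht : t ∈ L.W) (hb : b ∈ L.W) (h : SPair Q t b) :
    Adm π L (lf π t b) 1 :=
  Adm.of_sg ht hb h (lf_map H t b)

namespace Fix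

variable {t t' r r' : V}

/-- The obstruction. -/
noncomputable def ob (π : E →* orth Q) (L : Level Q) (t r u : V) : E :=
  ⁅lf π r u, lf π L.e t⁆

variable (H : Ext π) (h : L.In t t') (h' : (Level.inner h).In r r')

include H h h'

theorem spair {u : V} (hu : u ∈ (Level.inner h').W) : SPair Q r u := ⟨h'.hp.left, hu.2.1⟩

theorem ob_ker {u : V} (hu : u ∈ (Level.inner h').W) : π (ob π L t r u) = 1 := by
  have hs : SPair Q r u := ⟨h'.hp.left, hu.2.1⟩
  refine comm_fix_ker H h.mem ((adm_lf H h'.mem.1 hu.1.1 hs).e_eq.trans (one_smul F _)) ?_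
  rw [act_lf H hs, (polar_comm Q r t).trans h'.mem.2.1, (polar_comm Q u t).trans hu.1.2.1]
  simp

theorem ob_add {u u' : V} (hu : u ∈ (Level.inner h').W) (hu' : u' ∈ (Level.inner h').W) :
    ob π L t r (u + u') = ob π L t r u * ob π L t r u' := by
  rw [ob, H.comm_congr (a' := lf π r u * lf π r u') (b' := lf π L.e t)
    (by rw [map_mul, lf_map H, lf_map H, lf_map H, sg_mul (spair H h h' hu) (spair H h h' hu')]) rfl,
    comm_mul_left]
  show lf π r u * ob π L t r u' * (lf π r u)⁻¹ * ob π L t r u = _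
  rw [H.ker_conj (ob_ker H h h' hu'), H.ker_comm (ob_ker H h h' hu)]

theorem ob_conj {g : E} {u : V} (hu : u ∈ (Level.inner h').W) (hge : act π g L.e = L.e)
    (hgt : act π g t = t) : ob π L t r u = ob π L t (act π g r) (act π g u) := by
  have e := conj_comm_lf H g (spair H h h' hu) (L.sp_e h.mem)
  rw [hge, hgt] at e
  exact (H.ker_conj (ob_ker H h h' hu) g).symm.trans e

variable [Finite F] [FiniteDimensional F V]

theorem ob_big (B : Big L) {μ : F} (hμ0 : μ ≠ 0) (hμ : μ * μ ≠ 1) {u : V}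
    (hu : u ∈ (Level.inner h').W) : ob π L t r u = 1 := by
  have h4 : 4 ≤ finrank F V :=
    le_trans (by have := B.dim; omega) (Submodule.finrank_le L.W)
  set v := (1 : F) • r + (1 : F) • r' with hv
  set w := μ • r + μ⁻¹ • r' with hw
  have hQv : Q v = 1 := by rw [hv, Q_comb, h'.hp.left, h'.hp.right, h'.hp.pol]; ring
  have hQw : Q w = 1 := by
    rw [hw, Q_comb, h'.hp.left, h'.hp.right, h'.hp.pol]; field_simp; ring
  obtain ⟨g, hg⟩ := exists_refl_pair H B.nd h4 (v := v) (w := w) (by rw [hQv]; exact one_ne_zero)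
    (by rw [hQv, hQw])
  have hA : Adm π L g 1 := adm_refl_pair (L := L)
    (add_mem (L.W.smul_mem _ h'.mem.1) (L.W.smul_mem _ h'.mem'.1))
    (add_mem (L.W.smul_mem _ h'.mem.1) (L.W.smul_mem _ h'.mem'.1)) hg
  have hperp : ∀ x, polar Q r x = 0 → polar Q r' x = 0 → act π g x = x := fun x h1 h2 => by
    have hw0 : polar Q w x = 0 := by
      rw [hw, polar_add_left, polar_smul_left, polar_smul_left, h1, h2]; simp
    have hv0 : polar Q v x = 0 := by
      rw [hv, polar_add_left, polar_smul_left, polar_smul_left, h1, h2]; simp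
    rw [hg, refl_fix Q hw0, refl_fix Q hv0]
  have hgt : act π g t = t :=
    hperp t ((polar_comm Q r t).trans h'.mem.2.1) ((polar_comm Q r' t).trans h'.mem'.2.1)
  have hgr : act π g r = (μ⁻¹ * μ⁻¹) • r := by
    rw [hg, refl_apply, refl_apply, hQv, hQw, hv, hw]
    simp only [polar_add_left, polar_smul_left, polar_sub_right, polar_add_right, polar_smul_right,
      h'.hp.pol_ee, h'.hp.pol_ff, h'.hp.pol, h'.hp.pol', smul_eq_mul]
    match_scalars <;> field_simp <;> ring
  set κ := μ⁻¹ * μ⁻¹ with hκ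
  have hκ1 : κ - 1 ≠ 0 := by
    rw [sub_ne_zero, hκ, ← mul_inv, Ne, inv_eq_one]; exact hμ
  have key : ∀ x ∈ (Level.inner h').W, ob π L t r x = ob π L t r (κ • x) := fun x hx => by
    rw [ob_conj H h h' hx (hA.e_eq.trans (one_smul F _)) hgt, hgr, hperp x hx.2.1 hx.2.2, ob, ob]
    exact H.comm_congr (by rw [lf_map H, lf_map H, sg_smul_left _ (spair H h h' hx)]) rfl
  set y := (κ - 1)⁻¹ • u with hy
  have hym : y ∈ (Level.inner h').W := (Level.inner h').W.smul_mem _ hu
  have e := key y hym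
  rw [show κ • y = y + u by
    rw [show u = (κ - 1) • y by rw [hy, smul_smul, mul_inv_cancel₀ hκ1, one_smul]]; module,
    ob_add H h h' hym hu] at e
  exact left_eq_mul.1 e

/-- The argument with a reflection pair of equal norm inside the innermost subspace. -/
theorem ob_refl (B : Big L) {v w u : V} (hv : v ∈ (Level.inner h').W) (hw : w ∈ (Level.inner h').W)
    (hQ0 : Q v ≠ 0) (hQ : Q v = Q w) (hu : u ∈ (Level.inner h').W) :
    ob π L t r u = ob π L t r (refl Q v (refl Q w u)) := by
  have h4 : 4 ≤ finrank F V :=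
    le_trans (by have := B.dim; omega) (Submodule.finrank_le L.W)
  obtain ⟨g, hg⟩ := exists_refl_pair H B.nd h4 (v := v) (w := w) hQ0 hQ
  have hA : Adm π L g 1 := adm_refl_pair (L := L) hv.1.1 hw.1.1 hg
  have hperp : ∀ x, polar Q v x = 0 → polar Q w x = 0 → act π g x = x := fun x h1 h2 => by
    rw [hg, refl_fix Q h2, refl_fix Q h1]
  rw [ob_conj H h h' hu (hA.e_eq.trans (one_smul F _)) (hperp t
      ((polar_comm Q v t).trans hv.1.2.1) ((polar_comm Q w t).trans hw.1.2.1)),
    hperp r ((polar_comm Q v r).trans hv.2.1) ((polar_comm Q w r).trans hw.2.1), hg]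

omit [Finite F] [FiniteDimensional F V] in
theorem ob_zero : ob π L t r 0 = 1 := by
  rw [ob, H.comm_congr (a' := 1) (b' := lf π L.e t)
    (by rw [lf_map H, sg_zero h'.hp.left, map_one]) rfl]
  exact commutatorElement_one_left _

end Fix

end Cfsg.Agent.Lib.OrthMult
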