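import Cfsg.Agent.Lib.OrthMult.TopFix

/-!
The same over the fields with two and three elements.
-/

set_option autoImplicit false

namespace Cfsg.Agent.Lib.OrthMult

open Module QuadraticMap Cfsg.Agent.Lib.Forms Cfsg.Agent.Lib.OrthOmega
open scoped commutatorElement

variable {F : Type*} [Field F] {V : Type*} [AddCommGroup V] [Module F V]
variable {Q : QuadraticForm F V} {E : Type*} [Group E] {π : E →* orth Q} {L : Level Q}

theorem one_of_sq_cube {x : E} (h2 : x * x = 1) (h3 : x * x * x = 1) : x = 1 := by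
  rwa [h2, one_mul] at h3

namespace Fix

variable (H : Ext π)

include H

theorem ob_ker' {t r u : V} (ht : t ∈ L.W) (hr : r ∈ L.W) (hu : u ∈ L.W) (hs : SPair Q r u)
    (h1 : polar Q r t = 0) (h2 : polar Q u t = 0) : π (ob π L t r u) = 1 := by
  refine comm_fix_ker H ht ((adm_lf H hr hu hs).e_eq.trans (one_smul F _)) ?_
  rw [act_lf H hs, h1, h2]
  simp

theorem ob_swap {t r u : V} (ht : t ∈ L.W) (hr : r ∈ L.W) (hu : u ∈ L.W) (hqr : Q r = 0)
    (hqu : Q u = 0) (h : polar Q r u = 0) (h1 : polar Q r t = 0) (h2 : polar Q u t = 0) :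
    ob π L t r u = (ob π L t u r)⁻¹ := by
  have hk := ob_ker' H ht hu hr ⟨hqu, (polar_comm Q u r).trans h⟩ h2 h1
  rw [ob, H.comm_congr (a' := (lf π u r)⁻¹) (b' := lf π L.e t) (by
    rw [map_inv, lf_map H, lf_map H, sg_swap hqr hqu h,
      sg_neg ⟨hqu, (polar_comm Q u r).trans h⟩]) rfl]
  have e : ⁅(lf π u r)⁻¹, lf π L.e t⁆ =
      (lf π u r)⁻¹ * (ob π L t u r)⁻¹ * (lf π u r)⁻¹⁻¹ := by
    simp only [ob, commutatorElement_def]; group
  rw [e, H.ker_conj (by rw [map_inv, hk, inv_one])]

/-- The relation exchanging the last vector of the pivot and the fixed vector. -/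
theorem ob_rel {t r r' u : V} (ht : t ∈ L.W) (hr : r ∈ L.W) (hr' : r' ∈ L.W) (hu : u ∈ L.W)
    (hp : HypPair Q r r') (hqt : Q t = 0) (hqu : Q u = 0) (h1 : polar Q r t = 0)
    (h2 : polar Q r' t = 0) (h3 : polar Q r u = 0) (h4 : polar Q r' u = 0) (h5 : polar Q t u = 0) :
    ob π L t r u = ob π L u r t := by
  have hst : SPair Q r t := ⟨hp.left, h1⟩
  have hsu : SPair Q r u := ⟨hp.left, h3⟩
  set R := lf π r t
  set G := lf π r u
  set A := lf π L.e r'
  set T0 := ⁅R, A⁆ with hT0
  have ha : act π R r' = r' + t := by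
    rw [act_lf H hst, hp.pol, (polar_comm Q t r').trans h2, hqt]; simp
  have hb : act π G r' = r' + u := by
    rw [act_lf H hsu, hp.pol, (polar_comm Q u r').trans h4, hqu]; simp
  have hA := adm_lf (L := L) H hr ht hst
  have hG := adm_lf (L := L) H hr hu hsu
  have hT : π T0 = π (lf π L.e t) := by
    rw [hT0, commutatorElement_def, map_mul, conj_lf H R (L.sp_e hr'), hA.e_eq, one_smul, ha,
      map_inv, lf_map H, lf_map H, lf_map H, ← sg_neg (L.sp_e hr'),
      sg_mul (L.sp_e (add_mem hr' ht)) (L.sp_e hr').neg]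
    congr 1; abel
  have hk : π ⁅R, lf π L.e u⁆ = 1 := ob_ker' H hu hr ht hst h3 h5
  have e1 : G * T0 * G⁻¹ = T0 * ⁅R, lf π L.e u⁆ := by
    have h6 : G * T0 * G⁻¹ = ⁅R, A * lf π L.e u⁆ := by
      rw [hT0, show G * ⁅R, A⁆ * G⁻¹ = ⁅G * R * G⁻¹, G * A * G⁻¹⁆ by
        simp only [commutatorElement_def]; group]
      refine H.comm_congr ?_ ?_
      · rw [conj_lf H G hst, act_lf H hsu, act_lf H hsu, hp.pol_ee, h1,
          (polar_comm Q u r).trans h3, (polar_comm Q u t).trans h5]
        simp [R]
      · rw [conj_lf H G (L.sp_e hr'), hG.e_eq, one_smul, hb, map_mul, lf_map H, lf_map H, lf_map H,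
          sg_mul (L.sp_e hr') (L.sp_e hu)]
    rw [h6, comm_mul_right, H.ker_conj hk]
  show ⁅G, lf π L.e t⁆ = ⁅R, lf π L.e u⁆
  rw [← H.comm_congr (a := G) rfl hT, commutatorElement_def, e1]
  exact H.ker_conj hk T0

variable {t t' r r' : V} (h : L.In t t') (h' : (Level.inner h).In r r')

include h h'

theorem ob_sq {u : V} (hu : u ∈ (Level.inner h').W) (hq : Q u = 0) (h0 : u ≠ 0) :
    ob π L t r u * ob π L t r u = 1 := by
  obtain ⟨u', h''⟩ := (Level.inner h').exists_in_of_singular hu h0 hq
  have ht := h.mem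
  have hr := h'.mem.1
  have hr' := h'.mem'.1
  have huW := hu.1.1
  have tr : polar Q t r = 0 := h'.mem.2.1
  have tr' : polar Q t r' = 0 := h'.mem'.2.1
  have t'r : polar Q t' r = 0 := h'.mem.2.2
  have tu : polar Q t u = 0 := hu.1.2.1
  have t'u : polar Q t' u = 0 := hu.1.2.2
  have ru : polar Q r u = 0 := hu.2.1
  have r'u : polar Q r' u = 0 := hu.2.2
  have u't : polar Q u' t = 0 := (polar_comm Q u' t).trans h''.mem'.1.2.1
  have u'r : polar Q u' r = 0 := (polar_comm Q u' r).trans h''.mem'.2.1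
  have rt := (polar_comm Q r t).trans tr
  have ut := (polar_comm Q u t).trans tu
  have ur := (polar_comm Q u r).trans ru
  have r't := (polar_comm Q r' t).trans tr'
  have qr := h'.hp.left
  have qt := h.hp.left
  have R1 : ob π L t r u = ob π L u r t :=
    ob_rel H ht hr hr' huW h'.hp qt hq rt r't ru r'u tu
  have R2 : ob π L t u r = ob π L r u t :=
    ob_rel H ht huW h''.mem'.1.1 hr h''.hp qt qr ut u't ur u'r tr
  have R3 : ob π L r t u = ob π L u t r :=
    ob_rel H hr ht h.mem' huW h.hp qr hq tr t'r tu t'u ru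
  have S1 := ob_swap H ht hr huW qr hq ru rt ut
  have S2 := ob_swap H hr huW ht hq qt ut ur tr
  have S3 := ob_swap H huW ht hr qt qr tr tu ru
  calc ob π L t r u * ob π L t r u = ob π L t r u * ob π L u r t := by rw [← R1]
    _ = (ob π L r u t)⁻¹ * ob π L u r t := by rw [S1, R2]
    _ = ob π L r t u * ob π L u r t := by rw [S2, inv_inv]
    _ = ob π L u t r * ob π L u r t := by rw [R3]
    _ = 1 := by rw [S3, inv_mul_cancel]

theorem ob_cube {u : V} (h3 : (3 : F) = 0) (hu : u ∈ (Level.inner h').W) :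
    ob π L t r u * ob π L t r u * ob π L t r u = 1 := by
  rw [← ob_add H h h' hu hu, ← ob_add H h h' (add_mem hu hu) hu,
    show u + u + u = (3 : F) • u by module, h3, zero_smul, ob_zero H h h']

variable [Finite F] [FiniteDimensional F V]

theorem ob_three (B : Big L) (hF : ∀ x : F, x = 0 ∨ x = 1 ∨ x = -1) (h2 : (2 : F) ≠ 0)
    (hd : 6 ≤ finrank F L.W) {u : V} (hu : u ∈ (Level.inner h').W) : ob π L t r u = 1 := by
  have h3 : (3 : F) = 0 := by
    rcases hF 2 with h | h | h
    · exact absurd h h2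
    · exact absurd (show (1 : F) = 0 by linear_combination h) one_ne_zero
    · linear_combination h
  have hdim : 2 ≤ finrank F (Level.inner h').W := by
    have := Level.le_finrank_inner h
    have := Level.le_finrank_inner h'
    omega
  have hsing : ∀ x ∈ (Level.inner h').W, Q x = 0 → ob π L t r x = 1 := fun x hx hq => by
    rcases eq_or_ne x 0 with rfl | h0
    · exact ob_zero H h h'
    exact one_of_sq_cube (ob_sq H h h' hx hq h0) (ob_cube H h h' h3 hx)
  by_cases hiso : ∃ s ∈ (Level.inner h').W, s ≠ 0 ∧ Q s = 0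
  · obtain ⟨s, hs, hs0, hsq⟩ := hiso
    obtain ⟨s', h''⟩ := (Level.inner h').exists_in_of_singular hs hs0 hsq
    obtain ⟨a, b, c, ⟨ha, hqa⟩, ⟨hb, hqb⟩, ⟨hc, hqc⟩, rfl⟩ := h''.exists_three hu
    rw [ob_add H h h' (add_mem ha hb) hc, ob_add H h h' ha hb, hsing a ha hqa, hsing b hb hqb,
      hsing c hc hqc, one_mul, one_mul]
  push Not at hiso
  rcases eq_or_ne u 0 with rfl | hu0
  · exact ob_zero H h h'
  have hqu : Q u ≠ 0 := hiso u hu hu0
  have huu : polar Q u u ≠ 0 := by rw [polar_self']; exact mul_ne_zero h2 hqu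
  obtain ⟨y, hy, hyn⟩ : ∃ y ∈ (Level.inner h').W, y ∉ Submodule.span F {u} := by
    by_contra hc
    push Not at hc
    have := Submodule.finrank_mono (show (Level.inner h').W ≤ Submodule.span F {u} from hc)
    rw [finrank_span_singleton hu0] at this
    omega
  set w := y - (polar Q u y / polar Q u u) • u with hw
  have hwm : w ∈ (Level.inner h').W := sub_mem hy ((Level.inner h').W.smul_mem _ hu)
  have hw0 : w ≠ 0 := fun h0 => hyn (by
    rw [sub_eq_zero.1 (hw.symm.trans h0)]
    exact Submodule.smul_mem _ _ (Submodule.mem_span_singleton_self u))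
  have huw : polar Q u w = 0 := by
    rw [hw, polar_sub_right, polar_smul_right, smul_eq_mul, div_mul_cancel₀ _ huu, sub_self]
  have hsum : Q u + Q w ≠ 0 := by
    intro h0
    have := hiso (u + w) (add_mem hu hwm) (fun hz => hyn (by
      have hy' : y = -u + (polar Q u y / polar Q u u) • u := by
        linear_combination (norm := module) hz
      rw [hy']
      exact add_mem (neg_mem (Submodule.mem_span_singleton_self u))
        (Submodule.smul_mem _ _ (Submodule.mem_span_singleton_self u))))
    rw [Q_add, huw, add_zero] at this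
    exact this h0
  have hqw : Q w ≠ 0 := hiso w hwm hw0
  have heq : Q u = Q w := by
    rcases (hF (Q u)).resolve_left hqu with e | e <;>
      rcases (hF (Q w)).resolve_left hqw with e' | e'
    · exact e.trans e'.symm
    · exact absurd (by rw [e, e', add_neg_cancel]) hsum
    · exact absurd (by rw [e, e', neg_add_cancel]) hsum
    · exact e.trans e'.symm
  have e := ob_refl H h h' B hu hwm hqu heq hu
  rw [refl_fix Q ((polar_comm Q w u).trans huw), refl_self Q hqu] at e
  refine one_of_sq_cube ?_ (ob_cube H h h' h3 hu)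
  nth_rewrite 2 [e]
  rw [← ob_add H h h' hu (neg_mem hu), add_neg_cancel, ob_zero H h h']

theorem ob_two (B : Big L) (hF : ∀ x : F, x = 0 ∨ x = 1) (hd : 8 ≤ finrank F L.W ∨
    ∀ x ∈ (Level.inner h').W, Q x = 0 → x = 0) {u : V} (hu : u ∈ (Level.inner h').W) :
    ob π L t r u = 1 := by
  have h2 : (2 : F) = 0 := by
    rcases hF (-1) with h | h
    · exact absurd h (neg_ne_zero.2 one_ne_zero)
    · linear_combination -h
  have hdim : 8 ≤ finrank F L.W → 4 ≤ finrank F (Level.inner h').W := fun _ => by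
    have := Level.le_finrank_inner h
    have := Level.le_finrank_inner h'
    omega
  have hone : ∀ v ∈ (Level.inner h').W, Q v = 1 → ob π L t r v = 1 := by
    intro v hv hqv
    have hv0 : v ≠ 0 := fun h0 => by simp [h0] at hqv
    obtain ⟨w, hw, hqw, hvw⟩ : ∃ w ∈ (Level.inner h').W, Q w = 1 ∧ polar Q v w = 1 := by
      obtain ⟨x, hx, hvx⟩ := Level.exists_polar_one (L := Level.inner h') hv hv0
      rcases hF (Q x) with hqx | hqx
      swap
      · exact ⟨x, hx, hqx, hvx⟩
      rcases hd with hd | hd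
      swap
      · rw [hd x hx hqx, polar_zero_right] at hvx
        exact absurd hvx zero_ne_one
      have hin : (Level.inner h').In x (v + x) :=
        ⟨⟨hqx, by rw [Q_add, hqv, hqx, hvx]; linear_combination h2,
          by rw [polar_add_right, polar_comm Q x v, hvx, polar_self', hqx]; simp⟩, hx, add_mem hv hx⟩
      obtain ⟨⟨z, hz⟩, hqz⟩ := exists_Q_eq (Level.inner hin).nondeg (by
        have := hdim hd
        have := Level.le_finrank_inner hin
        omega) 1
      have hxz : polar Q x z = 0 := hz.2.1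
      have hvxz : polar Q (v + x) z = 0 := hz.2.2
      refine ⟨x + z, add_mem hx hz.1, ?_, ?_⟩
      · rw [Q_add, hqx, show Q z = 1 from hqz, hxz]; simp
      · rw [polar_add_left, hxz, add_zero] at hvxz
        rw [polar_add_right, hvx, hvxz, add_zero]
    have e := ob_refl H h h' B hv hw (by rw [hqv]; exact one_ne_zero) (by rw [hqv, hqw]) hw
    rw [refl_apply Q w w, polar_self', h2, zero_mul, mul_zero, zero_smul, sub_zero, refl_apply,
      hqv, hvw, inv_one, one_mul, one_smul,
      show w - v = w + v by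
        rw [sub_eq_add_neg, show -v = (-1 : F) • v by simp,
          show (-1 : F) = 1 by linear_combination -h2, one_smul],
      ob_add H h h' hw hv] at e
    exact left_eq_mul.1 e
  rcases hF (Q u) with hq | hq
  swap
  · exact hone u hu hq
  rcases eq_or_ne u 0 with rfl | h0
  · exact ob_zero H h h'
  rcases hd with hd | hd
  swap
  · exact absurd (hd u hu hq) h0
  obtain ⟨u', h''⟩ := (Level.inner h').exists_in_of_singular hu h0 hq
  obtain ⟨⟨x, hx⟩, hqx⟩ := exists_Q_eq (Level.inner h'').nondeg (by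
    have := hdim hd
    have := Level.le_finrank_inner h''
    omega) 1
  replace hqx : Q x = 1 := hqx
  have hux : polar Q u x = 0 := hx.2.1
  rw [show u = (u + x) + x by
      rw [add_assoc, ← two_smul F x, h2, zero_smul, add_zero],
    ob_add H h h' (add_mem hu hx.1) hx.1, hone _ hx.1 hqx,
    hone _ (add_mem hu hx.1) (by rw [Q_add, hq, hqx, hux]; simp), one_mul]

omit [Finite F] in
theorem one_mem_dims : finrank F L.W ≤ finrank F (Level.inner h').W + 4 := by
  have := Level.le_finrank_inner h
  have := Level.le_finrank_inner h'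
  omega

end Fix

variable [Finite F] [FiniteDimensional F V]

/-- Inside the orthogonal of `t` the lift of `t` is fixed. -/
theorem fix_lift (H : Ext π) (B : Big L) {t t' r r' u : V} (h : L.In t t')
    (h' : (Level.inner h).In r r') (hu : u ∈ (Level.inner h').W) :
    ⁅lf π r u, lf π L.e t⁆ = 1 := by
  rcases B.small with ⟨μ, h0, h1⟩ | ⟨h1, h2, h3⟩ | ⟨h1, -, h3⟩
  · exact Fix.ob_big H h h' B h0 h1 hu
  · exact Fix.ob_three H h h' B h1 h2 h3 hu
  · exact Fix.ob_two H h h' B h1 (h3.imp id fun h3 => h3 t t' r r' h h') hu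

end Cfsg.Agent.Lib.OrthMult
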