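import Cfsg.Agent.Lib.OrthMult.TopComm

/-!
The commutator of a lift from the root group of the top with a Siegel transformation at a singular
vector depends only on the polar value of its two arguments.
-/

set_option autoImplicit false

namespace Cfsg.Agent.Lib.OrthMult

open Module QuadraticMap Cfsg.Agent.Lib.Forms Cfsg.Agent.Lib.OrthOmega
open scoped commutatorElement

variable {F : Type*} [Field F] {V : Type*} [AddCommGroup V] [Module F V]
variable {Q : QuadraticForm F V} {E : Type*} [Group E] {π : E →* orth Q} {L : Level Q}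
variable [Finite F] [FiniteDimensional F V]

/-- The commutator with a Siegel transformation at `t`. -/
noncomputable def pp (π : E →* orth Q) (L : Level Q) (t a b : V) : E :=
  ⁅lf π L.e a, lf π t b⁆

section

variable (H : Ext π) {t : V} (ht : t ∈ L.W) (hq : Q t = 0)

include H ht hq

omit [Finite F] [FiniteDimensional F V] in
theorem pp_map {a b : V} (ha : a ∈ L.W) (hta : polar Q t a = 0) (hb : b ∈ L.W)
    (htb : polar Q t b = 0) : π (pp π L t a b) = sg Q L.e (polar Q a b • t) := by
  have hs : SPair Q t b := ⟨hq, htb⟩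
  have hA := adm_lf (L := L) H ht hb hs
  have hga : act π (lf π t b) a = a + (-polar Q a b) • t := by
    rw [act_lf H hs, hta, polar_comm Q b a]; module
  have hm : a + (-polar Q a b) • t ∈ L.W := add_mem ha (L.W.smul_mem _ ht)
  rw [pp, show ⁅lf π L.e a, lf π t b⁆ = lf π L.e a * (lf π t b * lf π L.e a * (lf π t b)⁻¹)⁻¹ by
      simp only [commutatorElement_def]; group,
    map_mul, map_inv, conj_lf H _ (L.sp_e ha), hA.e_eq, one_smul, hga, lf_map H, lf_map H,
    ← sg_neg (L.sp_e hm), sg_mul (L.sp_e ha) (L.sp_e hm).neg]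
  congr 1
  module

variable (B : Big L)

include B

theorem pp_add_left {a a' b : V} (ha : a ∈ L.W) (hta : polar Q t a = 0) (ha' : a' ∈ L.W)
    (hta' : polar Q t a' = 0) (hb : b ∈ L.W) (htb : polar Q t b = 0) :
    pp π L t (a + a') b = pp π L t a b * pp π L t a' b := by
  have h1 := comm_mult H B ht hq ha hta (pp_map H ht hq ha' hta' hb htb) (lf_map H L.e a)
  have h2 := comm_mult H B ht hq (L.W.smul_mem (polar Q a b) ht)
    (by rw [polar_smul_right, polar_self', hq]; simp) (pp_map H ht hq ha' hta' hb htb)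
    (pp_map H ht hq ha hta hb htb)
  rw [pp, H.comm_congr (b' := lf π t b) (lf_add H (L.sp_e ha) (L.sp_e ha')) rfl, comm_mul_left]
  show _ * pp π L t a' b * _ * pp π L t a b = _
  rw [← h1, mul_inv_cancel_right, h2]

theorem pp_add_right {a b b' : V} (ha : a ∈ L.W) (hta : polar Q t a = 0) (hb : b ∈ L.W)
    (htb : polar Q t b = 0) (hb' : b' ∈ L.W) (htb' : polar Q t b' = 0) :
    pp π L t a (b + b') = pp π L t a b * pp π L t a b' := by
  have h1 := fix_self H B ht hq hb htb _ (pp_map H ht hq ha hta hb' htb')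
  rw [pp, H.comm_congr (a' := lf π L.e a) rfl (lf_add H ⟨hq, htb⟩ ⟨hq, htb'⟩), comm_mul_right]
  show _ * (_ * pp π L t a b' * _) = _
  rw [h1, mul_inv_cancel_right]
  rfl

omit [Finite F] [FiniteDimensional F V] B in
theorem pp_zero_right {a : V} : pp π L t a 0 = 1 := by
  rw [pp, H.comm_congr (a' := lf π L.e a) (b' := 1) rfl
    (by rw [lf_map H, sg_zero hq, map_one])]
  exact commutatorElement_one_right _

omit [Finite F] [FiniteDimensional F V] B in
theorem pp_zero_left {b : V} : pp π L t 0 b = 1 := by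
  rw [pp, H.comm_congr (a' := 1) (b' := lf π t b)
    (by rw [lf_map H, sg_zero L.hp.left, map_one]) rfl]
  exact commutatorElement_one_left _

end

namespace PForm

variable {t t' r r' : V} (H : Ext π) (B : Big L) (h : L.In t t') (h' : (Level.inner h).In r r')

include H B h

theorem addl {a a' b : V} (ha : a ∈ (Level.inner h).W) (ha' : a' ∈ (Level.inner h).W)
    (hb : b ∈ (Level.inner h).W) : pp π L t (a + a') b = pp π L t a b * pp π L t a' b :=
  pp_add_left H h.mem h.hp.left B ha.1 ha.2.1 ha'.1 ha'.2.1 hb.1 hb.2.1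

theorem addr {a b b' : V} (ha : a ∈ (Level.inner h).W) (hb : b ∈ (Level.inner h).W)
    (hb' : b' ∈ (Level.inner h).W) : pp π L t a (b + b') = pp π L t a b * pp π L t a b' :=
  pp_add_right H h.mem h.hp.left B ha.1 ha.2.1 hb.1 hb.2.1 hb'.1 hb'.2.1

include h'

theorem inv {u a b : V} (hu : u ∈ (Level.inner h').W) (ha : a ∈ (Level.inner h).W)
    (hb : b ∈ (Level.inner h).W) :
    pp π L t ((sg Q r u).1 a) ((sg Q r u).1 b) = pp π L t a b := by
  have hs : SPair Q r u := ⟨h'.hp.left, hu.2.1⟩
  have hgt : act π (lf π r u) t = t := by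
    rw [act_lf H hs, (polar_comm Q r t).trans h'.mem.2.1, (polar_comm Q u t).trans hu.1.2.1]
    simp
  have hA := adm_lf (L := L) H h'.mem.1 hu.1.1 hs
  have e := conj_comm_lf H (lf π r u) (L.sp_e ha.1) (⟨h.hp.left, hb.2.1⟩ : SPair Q t b)
  rw [hA.e_eq, one_smul, hgt] at e
  have hfix := fix_inner H B h h' hu _ (pp_map H h.mem h.hp.left ha.1 ha.2.1 hb.1 hb.2.1)
  rw [show ∀ x, act π (lf π r u) x = (sg Q r u).1 x from fun x => by rw [act, lf_map H],
    show ∀ x, act π (lf π r u) x = (sg Q r u).1 x from fun x => by rw [act, lf_map H]] at e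
  refine e.symm.trans ?_
  show _ * pp π L t a b * _ = _
  rw [hfix, mul_inv_cancel_right]

omit [Finite F] [FiniteDimensional F V] in
omit B in
theorem move_r (hr : r ∈ (Level.inner h).W) {u : V} (hu : u ∈ (Level.inner h').W) (x : F) :
    (sg Q r u).1 (x • r) = x • r := by
  have hpu : polar Q u r = 0 := (polar_comm Q u r).trans (Level.inner_fst h' hu).2.1
  rw [sg_apply ⟨h'.hp.left, (Level.inner_fst h' hu).2.1⟩, polar_smul_right, polar_smul_right,
    h'.hp.pol_ee, hpu]
  simp

omit [Finite F] [FiniteDimensional F V] in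
omit B in
theorem move_r' {u : V} (hu : u ∈ (Level.inner h').W) :
    (sg Q r u).1 r' = r' + (u + (-Q u) • r) := by
  rw [sg_apply ⟨h'.hp.left, (Level.inner_fst h' hu).2.1⟩, h'.hp.pol,
    (polar_comm Q u r').trans (Level.inner_fst h' hu).2.2]
  module

omit [Finite F] [FiniteDimensional F V] in
omit B in
theorem move_w {u w : V} (hu : u ∈ (Level.inner h').W) (hw : w ∈ (Level.inner h').W) :
    (sg Q r u).1 w = w + (-polar Q u w) • r := by
  rw [sg_apply ⟨h'.hp.left, (Level.inner_fst h' hu).2.1⟩, (Level.inner_fst h' hw).2.1]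
  module

theorem smr (x : F) : x • r ∈ (Level.inner h).W := (Level.inner h).W.smul_mem x h'.mem

theorem exists_pair : ∃ u ∈ (Level.inner h').W, ∃ w ∈ (Level.inner h').W, polar Q u w = 1 := by
  have h1 := Level.le_finrank_inner h
  have h2 := Level.le_finrank_inner h'
  have := B.dim
  obtain ⟨u, hu, hu0⟩ := (Level.inner h').exists_ne_zero (by omega)
  obtain ⟨w, hw, hp⟩ := Level.exists_polar_one hu hu0
  exact ⟨u, hu, w, hw, hp⟩

theorem rr (x y : F) : pp π L t (x • r) (y • r) = 1 := by
  obtain ⟨u₀, hu₀, w, hw, hp⟩ := exists_pair H B h h'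
  have hu := (Level.inner h').W.smul_mem (-y) hu₀
  have e := inv H B h h' hu (smr H B h h' x) hw.1
  rw [move_r H h h' h'.mem hu, move_w H h h' hu hw, polar_smul_left, hp, smul_eq_mul, mul_one,
    neg_neg, addr H B h (smr H B h h' x) hw.1 (smr H B h h' y)] at e
  exact mul_eq_left.1 e

theorem ru (x : F) {u : V} (hu : u ∈ (Level.inner h').W) : pp π L t (x • r) u = 1 := by
  have e := inv H B h h' hu (smr H B h h' x) h'.mem'
  rw [move_r H h h' h'.mem hu, move_r' H h h' hu,
    addr H B h (smr H B h h' x) h'.mem' (add_mem hu.1 (smr H B h h' _)),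
    addr H B h (smr H B h h' x) hu.1 (smr H B h h' _), rr H B h h', mul_one] at e
  exact mul_eq_left.1 e

theorem ur (x : F) {u : V} (hu : u ∈ (Level.inner h').W) : pp π L t u (x • r) = 1 := by
  have e := inv H B h h' hu h'.mem' (smr H B h h' x)
  rw [move_r H h h' h'.mem hu, move_r' H h h' hu,
    addl H B h h'.mem' (add_mem hu.1 (smr H B h h' _)) (smr H B h h' x),
    addl H B h hu.1 (smr H B h h' _) (smr H B h h' x), rr H B h h', mul_one] at e
  exact mul_eq_left.1 e

theorem ru' {u : V} (hu : u ∈ (Level.inner h').W) : pp π L t r' u = 1 ∧ pp π L t u r' = 1 := by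
  have hu' : u ∈ (Level.inner h'.flip).W := by rw [Level.inner_flip h']; exact hu
  exact ⟨by simpa using ru H B h h'.flip 1 hu', by simpa using ur H B h h'.flip 1 hu'⟩

theorem negl {a b : V} (ha : a ∈ (Level.inner h).W) (hb : b ∈ (Level.inner h).W) :
    pp π L t (-a) b = (pp π L t a b)⁻¹ := by
  rw [eq_inv_iff_mul_eq_one, ← addl H B h (neg_mem ha) ha hb, neg_add_cancel,
    pp_zero_left H h.mem h.hp.left]

theorem negr {a b : V} (ha : a ∈ (Level.inner h).W) (hb : b ∈ (Level.inner h).W) :
    pp π L t a (-b) = (pp π L t a b)⁻¹ := by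
  rw [eq_inv_iff_mul_eq_one, ← addr H B h ha (neg_mem hb) hb, neg_add_cancel,
    pp_zero_right H h.mem h.hp.left]

theorem core_left {u w : V} (hu : u ∈ (Level.inner h').W) (hw : w ∈ (Level.inner h').W) :
    pp π L t u w = pp π L t r' (polar Q u w • r) := by
  have m1 : u + (-Q u) • r ∈ (Level.inner h).W := add_mem hu.1 (smr H B h h' _)
  have m2 := smr H B h h' (-polar Q u w)
  have e := inv H B h h' hu h'.mem' hw.1
  rw [move_r' H h h' hu, move_w H h h' hu hw, addr H B h (add_mem h'.mem' m1) hw.1 m2,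
    addl H B h h'.mem' m1 hw.1, addl H B h h'.mem' m1 m2,
    addl H B h hu.1 (smr H B h h' _) hw.1, addl H B h hu.1 (smr H B h h' _) m2,
    (ru' H B h h' hw).1, ru H B h h' _ hw, ur H B h h' _ hu, rr H B h h', one_mul, mul_one, mul_one,
    mul_one, neg_smul, negr H B h h' h'.mem' (smr H B h h' _)] at e
  exact mul_inv_eq_one.1 e

theorem core_right {u w : V} (hu : u ∈ (Level.inner h').W) (hw : w ∈ (Level.inner h').W) :
    pp π L t w u = pp π L t (polar Q u w • r) r' := by
  have m1 : u + (-Q u) • r ∈ (Level.inner h).W := add_mem hu.1 (smr H B h h' _)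
  have m2 := smr H B h h' (-polar Q u w)
  have e := inv H B h h' hu hw.1 h'.mem'
  rw [move_r' H h h' hu, move_w H h h' hu hw, addr H B h (add_mem hw.1 m2) h'.mem' m1,
    addl H B h hw.1 m2 h'.mem', addl H B h hw.1 m2 m1,
    addr H B h hw.1 hu.1 (smr H B h h' _), addr H B h m2 hu.1 (smr H B h h' _),
    (ru' H B h h' hw).2, ru H B h h' _ hu, ur H B h h' _ hw, rr H B h h', one_mul, mul_one, mul_one,
    mul_one, neg_smul, negl H B h h' (smr H B h h' _) h'.mem'] at e
  exact (inv_mul_eq_one.1 e).symm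

/-- The common value. -/
theorem core_val {u w : V} (hu : u ∈ (Level.inner h').W) (hw : w ∈ (Level.inner h').W) :
    pp π L t u w = pp π L t (polar Q u w • r) r' := by
  rw [core_right H B h h' hw hu, polar_comm Q w u]

theorem plane (x y : F) :
    pp π L t (x • r) (y • r') = pp π L t ((x * y) • r) r' ∧
      pp π L t (y • r') (x • r) = pp π L t ((x * y) • r) r' := by
  rcases eq_or_ne y 0 with rfl | hy
  · simp [pp_zero_right H h.mem h.hp.left, pp_zero_left H h.mem h.hp.left]
  obtain ⟨u₀, hu₀, w, hw, hp⟩ := exists_pair H B h h'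
  have hu := (Level.inner h').W.smul_mem (x * y) hu₀
  have hB : polar Q ((x * y) • u₀) w = x * y := by rw [polar_smul_left, hp, smul_eq_mul, mul_one]
  have h0 := core_val H B h h' hu hw
  rw [hB] at h0
  have hy' := inv_ne_zero hy
  set h'' := h'.scale hy'
  have hu' : (x * y) • u₀ ∈ (Level.inner h'').W := by
    rw [Level.inner_scale h' hy']; exact hu
  have hw' : w ∈ (Level.inner h'').W := by rw [Level.inner_scale h' hy']; exact hw
  have h1 := core_val H B h h'' hu' hw'
  have h2 := core_left H B h h'' hu' hw'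
  rw [hB, smul_smul, inv_inv, mul_inv_cancel_right₀ hy, h0] at h1 h2
  exact ⟨h1.symm, h2.symm⟩

theorem mu_add (x y : F) :
    pp π L t ((x + y) • r) r' = pp π L t (x • r) r' * pp π L t (y • r) r' := by
  rw [add_smul, addl H B h (smr H B h h' x) (smr H B h h' y) h'.mem']

theorem inner_val {a b : V} (ha : a ∈ (Level.inner h).W) (hb : b ∈ (Level.inner h).W) :
    pp π L t a b = pp π L t (polar Q a b • r) r' := by
  have ha3 := h'.proj ha
  have hb3 := h'.proj hb
  set α := polar Q r' a
  set β := polar Q r a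
  set γ := polar Q r' b
  set δ := polar Q r b
  set a3 := a - α • r - β • r' with hA3
  set b3 := b - γ • r - δ • r' with hB3
  have s1 : ∀ x, x • r ∈ (Level.inner h).W := smr H B h h'
  have s2 : ∀ x, x • r' ∈ (Level.inner h).W := fun x => (Level.inner h).W.smul_mem x h'.mem'
  have hb3' : b3 ∈ (Level.inner h'.flip).W := by rw [Level.inner_flip h']; exact hb3
  have ha3' : a3 ∈ (Level.inner h'.flip).W := by rw [Level.inner_flip h']; exact ha3
  have ea : a = α • r + (β • r' + a3) := by rw [hA3]; abel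
  have eb : b = γ • r + (δ • r' + b3) := by rw [hB3]; abel
  have v1 : ∀ c, c ∈ (Level.inner h).W → pp π L t c b =
      pp π L t c (γ • r) * (pp π L t c (δ • r') * pp π L t c b3) := fun c hc => by
    rw [eb, addr H B h hc (s1 _) (add_mem (s2 _) hb3.1), addr H B h hc (s2 _) hb3.1]
  have hpab : polar Q a b = α * δ + γ * β + polar Q a3 b3 := by
    rw [ea, eb]
    simp only [polar_add_left, polar_add_right, polar_smul_left, polar_smul_right, h'.hp.pol,
      h'.hp.pol', h'.hp.pol_ee, h'.hp.pol_ff, (Level.inner_fst h' hb3).2.1,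
      (Level.inner_fst h' hb3).2.2, (polar_comm Q a3 r).trans (Level.inner_fst h' ha3).2.1,
      (polar_comm Q a3 r').trans (Level.inner_fst h' ha3).2.2, smul_eq_mul]
    ring
  rw [hpab, mu_add H B h h', mu_add H B h h', ← core_val H B h h' ha3 hb3,
    ← (plane H B h h' α δ).1, ← (plane H B h h' γ β).2]
  conv_lhs => rw [ea]
  rw [addl H B h (s1 _) (add_mem (s2 _) ha3.1) hb, addl H B h (s2 _) ha3.1 hb, v1 _ (s1 _),
    v1 _ (s2 _), v1 _ ha3.1, rr H B h h', rr H B h h'.flip, ru H B h h' _ hb3,
    ru H B h h'.flip _ hb3', ur H B h h' _ ha3, ur H B h h'.flip _ ha3']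
  simp [mul_assoc]

end PForm

/-- The value depends only on the polar value. -/
theorem pp_const (H : Ext π) (B : Big L) {t : V} (ht : t ∈ L.W) (hq : Q t = 0) {a b a' b' : V}
    (ha : a ∈ L.W) (hta : polar Q t a = 0) (hb : b ∈ L.W) (htb : polar Q t b = 0)
    (ha' : a' ∈ L.W) (hta' : polar Q t a' = 0) (hb' : b' ∈ L.W) (htb' : polar Q t b' = 0)
    (hab : polar Q a b = polar Q a' b') : pp π L t a b = pp π L t a' b' := by
  rcases eq_or_ne t 0 with rfl | h0
  · have h1 : ∀ a b : V, pp π L 0 a b = 1 := fun a b => by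
      rw [pp, H.comm_congr (a' := lf π L.e a) (b' := 1) rfl ?_]
      · exact commutatorElement_one_right _
      · rw [lf_map H, map_one]
        refine orth_ext fun x => ?_
        rw [sg_apply ⟨QuadraticMap.map_zero _, by rw [polar_zero_left]⟩]
        simp
    rw [h1, h1]
  obtain ⟨t', h⟩ := L.exists_in_of_singular ht h0 hq
  obtain ⟨r, r', h'⟩ := (Level.inner h).exists_in (by
    have := Level.le_finrank_inner h; have := B.dim; omega)
  have key : ∀ {a b : V}, a ∈ L.W → polar Q t a = 0 → b ∈ L.W → polar Q t b = 0 →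
      pp π L t a b = pp π L t (polar Q a b • r) r' := by
    intro a b ha hta hb htb
    have h1 := h.proj ha
    have h2 := h.proj hb
    rw [hta, zero_smul, sub_zero] at h1
    rw [htb, zero_smul, sub_zero] at h2
    set a₂ := a - polar Q t' a • t with ha₂
    set b₂ := b - polar Q t' b • t with hb₂
    have htt : ∀ x : F, polar Q t (x • t) = 0 := fun x => by
      rw [polar_smul_right, h.hp.pol_ee, smul_zero]
    have e1 : pp π L t (polar Q t' a • t) b = 1 := by
      refine commutatorElement_eq_one_iff_mul_comm.2 ?_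
      exact (fix_self H B ht hq hb htb _ (lf_map H _ _)).symm
    have e2 : pp π L t a₂ (polar Q t' b • t) = 1 := by
      rw [pp, H.comm_congr (a' := lf π L.e a₂) (b' := 1) rfl ?_]
      · exact commutatorElement_one_right _
      · have hs : SPair Q t (0 + polar Q t' b • t) := ⟨hq, by rw [zero_add, htt]⟩
        rw [lf_map H, map_one,
          show polar Q t' b • t = 0 + polar Q t' b • t from (zero_add _).symm, sg_eq hs,
          rho_shift (SPair.zero hq), rho_zero]
    have ea : a = a₂ + polar Q t' a • t := by rw [ha₂]; abel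
    have eb : b = b₂ + polar Q t' b • t := by rw [hb₂]; abel
    have hpol : polar Q a b = polar Q a₂ b₂ := by
      rw [ea, eb]
      simp [polar_add_left, polar_add_right, polar_smul_left, polar_smul_right, h.hp.pol_ee,
        (Level.inner_fst h h2).2.1, (polar_comm Q a₂ t).trans (Level.inner_fst h h1).2.1]
    conv_lhs => rw [ea]
    rw [pp_add_left H ht hq B h1.1 h1.2.1 (L.W.smul_mem _ ht) (htt _) hb htb, e1, mul_one]
    conv_lhs => rw [eb]
    rw [pp_add_right H ht hq B h1.1 h1.2.1 h2.1 h2.2.1 (L.W.smul_mem _ ht) (htt _), e2, mul_one,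
      PForm.inner_val H B h h' h1 h2, hpol]
  rw [key ha hta hb htb, key ha' hta' hb' htb', hab]

end Cfsg.Agent.Lib.OrthMult
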